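import Mathlib
import Cfsg.Prelude.Def_Sporadic_a
import Cfsg.Agent.S0359
import Cfsg.Agent.H10.GolayBasic

/-!
Basic facts on the rank-24 lattice `Cfsg.leechLattice` built from the length-24 code:
`leechSet` is already an additive subgroup, a usable membership criterion, divisibility of the
square lengths by 16 and the minimal square length 32.
-/

set_option autoImplicit false

namespace Cfsg.Agent.H93

open Cfsg

/-- The binary word attached to an integer vector all of whose coordinates are congruent to `m`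
modulo 2: the coordinate `i` holds `(x i - m) / 2` modulo 2. -/
def wd (m : ℤ) (x : GolayPt → ℤ) : GolayPt → ZMod 2 := fun i => (((x i - m) / 2 : ℤ) : ZMod 2)

/-- The membership predicate of the lattice. -/
def IsL (x : GolayPt → ℤ) : Prop :=
  ∃ m : ℤ, (∀ i, x i ≡ m [ZMOD 2]) ∧ (∑ i, x i ≡ 4 * m [ZMOD 8]) ∧ wd m x ∈ golayCode

theorem wd_ne_zero_iff (m : ℤ) (x : GolayPt → ℤ) (i : GolayPt) (h : x i ≡ m [ZMOD 2]) :
    wd m x i ≠ 0 ↔ x i ≡ m + 2 [ZMOD 4] := by
  unfold wd
  rw [Ne, ZMod.intCast_zmod_eq_zero_iff_dvd]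
  unfold Int.ModEq at h ⊢
  push_cast
  omega

theorem zmod2_eq_of_ne_zero_iff (a b : ZMod 2) (h : a ≠ 0 ↔ b ≠ 0) : a = b := by
  revert a b; decide

theorem isL_of_mem_leechSet {x : GolayPt → ℤ} (hx : x ∈ leechSet) : IsL x := by
  obtain ⟨m, hpar, hsum, hcode⟩ := hx
  refine ⟨m, hpar, hsum, ?_⟩
  obtain ⟨c, hc, hsupp⟩ := hcode (m + 2)
  have : wd m x = c := by
    funext i
    apply zmod2_eq_of_ne_zero_iff
    rw [wd_ne_zero_iff m x i (hpar i)]
    have h1 := congrArg (fun s : Finset GolayPt => i ∈ s) hsupp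
    simp only [support₂, Finset.mem_filter, Finset.mem_univ, true_and, eq_iff_iff] at h1
    exact h1.symm
  rw [this]; exact hc

theorem mem_leechSet_of_isL {x : GolayPt → ℤ} (hx : IsL x) : x ∈ leechSet := by
  obtain ⟨m, hpar, hsum, hcode⟩ := hx
  refine ⟨m, hpar, hsum, fun k => ?_⟩
  by_cases h1 : k ≡ m + 2 [ZMOD 4]
  · refine ⟨wd m x, hcode, ?_⟩
    ext i
    simp only [support₂, Finset.mem_filter, Finset.mem_univ, true_and]
    rw [wd_ne_zero_iff m x i (hpar i)]
    exact ⟨fun h => h.trans h1.symm, fun h => h.trans h1⟩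
  · by_cases h2 : k ≡ m [ZMOD 4]
    · refine ⟨wd m x + 1, add_mem hcode Cfsg.Agent.H10.one_mem_golayCode, ?_⟩
      ext i
      simp only [support₂, Finset.mem_filter, Finset.mem_univ, true_and, Pi.add_apply, Pi.one_apply]
      have h3 := wd_ne_zero_iff m x i (hpar i)
      have h4 : wd m x i + 1 ≠ 0 ↔ ¬ (wd m x i ≠ 0) := by
        generalize wd m x i = a
        revert a; decide
      rw [h4, h3]
      have hp := hpar i
      unfold Int.ModEq at hp h2 ⊢
      omega
    · refine ⟨0, zero_mem _, ?_⟩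
      ext i
      simp only [support₂, Finset.mem_filter, Finset.mem_univ, true_and, Pi.zero_apply, ne_eq,
        not_true_eq_false, false_iff]
      have hp := hpar i
      unfold Int.ModEq at hp h1 h2 ⊢
      omega

theorem wd_add (m m' : ℤ) (x y : GolayPt → ℤ) (hx : ∀ i, x i ≡ m [ZMOD 2])
    (hy : ∀ i, y i ≡ m' [ZMOD 2]) : wd (m + m') (x + y) = wd m x + wd m' y := by
  funext i
  obtain ⟨a, ha⟩ := Int.modEq_iff_dvd.mp (hx i).symm
  obtain ⟨b, hb⟩ := Int.modEq_iff_dvd.mp (hy i).symm
  simp only [wd, Pi.add_apply]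
  rw [show x i + y i - (m + m') = 2 * (a + b) by linarith, ha, hb,
    Int.mul_ediv_cancel_left _ (by norm_num : (2 : ℤ) ≠ 0),
    Int.mul_ediv_cancel_left _ (by norm_num : (2 : ℤ) ≠ 0),
    Int.mul_ediv_cancel_left _ (by norm_num : (2 : ℤ) ≠ 0)]
  push_cast
  rfl

theorem wd_neg (m : ℤ) (x : GolayPt → ℤ) (hx : ∀ i, x i ≡ m [ZMOD 2]) :
    wd (-m) (-x) = wd m x := by
  funext i
  obtain ⟨a, ha⟩ := Int.modEq_iff_dvd.mp (hx i).symm
  simp only [wd, Pi.neg_apply]
  rw [show -x i - -m = 2 * (-a) by linarith, ha,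
    Int.mul_ediv_cancel_left _ (by norm_num : (2 : ℤ) ≠ 0),
    Int.mul_ediv_cancel_left _ (by norm_num : (2 : ℤ) ≠ 0)]
  push_cast
  generalize (a : ZMod 2) = t
  revert t; decide

/-- The lattice as an additive subgroup with carrier given by the membership predicate. -/
def leechSub : AddSubgroup (GolayPt → ℤ) where
  carrier := {x | IsL x}
  zero_mem' := by
    refine ⟨0, fun i => Int.ModEq.refl _, ?_, ?_⟩
    · simp
    · have : wd 0 0 = 0 := by
        funext i
        simp [wd]
      rw [this]; exact zero_mem _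
  add_mem' := by
    rintro x y ⟨m, hp, hs, hc⟩ ⟨m', hp', hs', hc'⟩
    refine ⟨m + m', fun i => (hp i).add (hp' i), ?_, ?_⟩
    · have := hs.add hs'
      rw [← Finset.sum_add_distrib, ← mul_add] at this
      exact this
    · rw [wd_add m m' x y hp hp']
      exact add_mem hc hc'
  neg_mem' := by
    rintro x ⟨m, hp, hs, hc⟩
    refine ⟨-m, fun i => (hp i).neg, ?_, ?_⟩
    · have := hs.neg
      rw [← Finset.sum_neg_distrib, ← mul_neg] at this
      exact this
    · rw [wd_neg m x hp]
      exact hc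

theorem leechLattice_eq : leechLattice = leechSub := by
  apply le_antisymm
  · exact (AddSubgroup.closure_le _).mpr (fun x hx => isL_of_mem_leechSet hx)
  · intro x hx
    exact AddSubgroup.subset_closure (mem_leechSet_of_isL hx)

theorem mem_leechLattice_iff {x : GolayPt → ℤ} : x ∈ leechLattice ↔ IsL x := by
  rw [leechLattice_eq]; rfl

theorem coe_leechLattice : (leechLattice : Set (GolayPt → ℤ)) = leechSet := by
  ext x
  exact ⟨fun h => mem_leechSet_of_isL (mem_leechLattice_iff.mp h),
    fun h => AddSubgroup.subset_closure h⟩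

/-- The parity `m` in the membership predicate can be taken to be 0 or 1. -/
theorem isL_norm {x : GolayPt → ℤ} (h : IsL x) :
    ∃ m : ℤ, (m = 0 ∨ m = 1) ∧ (∀ i, x i ≡ m [ZMOD 2]) ∧ (∑ i, x i ≡ 4 * m [ZMOD 8]) ∧
      wd m x ∈ golayCode := by
  obtain ⟨m, hp, hs, hc⟩ := h
  refine ⟨m % 2, by omega, fun i => ?_, ?_, ?_⟩
  · have := hp i
    unfold Int.ModEq at this ⊢
    omega
  · unfold Int.ModEq at hs ⊢
    omega
  · have : wd (m % 2) x = wd m x + ((m / 2 : ℤ) : ZMod 2) • (1 : GolayPt → ZMod 2) := by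
      funext i
      obtain ⟨a, ha⟩ := Int.modEq_iff_dvd.mp (hp i).symm
      simp only [wd, Pi.add_apply, Pi.smul_apply, Pi.one_apply, smul_eq_mul, mul_one]
      rw [show x i - m % 2 = 2 * (a + m / 2) by omega, ha,
        Int.mul_ediv_cancel_left _ (by norm_num : (2 : ℤ) ≠ 0),
        Int.mul_ediv_cancel_left _ (by norm_num : (2 : ℤ) ≠ 0)]
      push_cast
      rfl
    rw [this]
    exact add_mem hc (Submodule.smul_mem _ _ Cfsg.Agent.H10.one_mem_golayCode)


theorem card_golayPt : Fintype.card GolayPt = 24 := by decide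

/-- Halving data for a vector with all coordinates congruent to `m` modulo 2. -/
theorem exists_half {x : GolayPt → ℤ} {m : ℤ} (hp : ∀ i, x i ≡ m [ZMOD 2]) :
    ∃ y : GolayPt → ℤ, (∀ i, x i = m + 2 * y i) ∧ wd m x = fun i => ((y i : ℤ) : ZMod 2) := by
  have : ∀ i, ∃ a, x i = m + 2 * a := fun i => by
    obtain ⟨a, ha⟩ := Int.modEq_iff_dvd.mp (hp i).symm
    exact ⟨a, by linarith⟩
  choose y hy using this
  refine ⟨y, hy, ?_⟩
  funext i
  simp only [wd]
  rw [show x i - m = 2 * y i by rw [hy i]; ring,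
    Int.mul_ediv_cancel_left _ (by norm_num : (2 : ℤ) ≠ 0)]

theorem sum_expand (m : ℤ) (y : GolayPt → ℤ) :
    ∑ i, (m + 2 * y i) = 24 * m + 2 * ∑ i, y i := by
  rw [Finset.sum_add_distrib, ← Finset.mul_sum, Finset.sum_const, Finset.card_univ, card_golayPt]
  simp

theorem sum_sq_expand (m : ℤ) (y : GolayPt → ℤ) :
    ∑ i, (m + 2 * y i) ^ 2 = 24 * m ^ 2 + 4 * m * ∑ i, y i + 4 * ∑ i, y i ^ 2 := by
  have : ∀ i, (m + 2 * y i) ^ 2 = m ^ 2 + (4 * m * y i + 4 * y i ^ 2) := fun i => by ring
  simp only [this]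
  rw [Finset.sum_add_distrib, Finset.sum_add_distrib, ← Finset.mul_sum, ← Finset.mul_sum,
    Finset.sum_const, Finset.card_univ, card_golayPt]
  simp
  ring

theorem intCast_zmod2_ne_zero_iff (a : ℤ) : ((a : ℤ) : ZMod 2) ≠ 0 ↔ a % 2 = 1 := by
  rw [Ne, ZMod.intCast_zmod_eq_zero_iff_dvd]
  push_cast
  omega

theorem sum_sq_mod_four (y : GolayPt → ℤ) :
    ∃ Z : ℤ, ∑ i, y i ^ 2 = ((support₂ (fun i => ((y i : ℤ) : ZMod 2))).card : ℤ) + 4 * Z := by
  have h : ∀ i, ∃ z : ℤ, y i ^ 2 = (if ((y i : ℤ) : ZMod 2) ≠ 0 then 1 else 0) + 4 * z := by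
    intro i
    have hcast := intCast_zmod2_ne_zero_iff (y i)
    by_cases ho : y i % 2 = 1
    · rw [if_pos (hcast.mpr ho)]
      obtain ⟨k, hk⟩ : ∃ k, y i = 2 * k + 1 := ⟨y i / 2, by omega⟩
      exact ⟨k ^ 2 + k, by rw [hk]; ring⟩
    · rw [if_neg (fun h => ho (hcast.mp h))]
      obtain ⟨k, hk⟩ : ∃ k, y i = 2 * k := ⟨y i / 2, by omega⟩
      exact ⟨k ^ 2, by rw [hk]; ring⟩
  choose z hz using h
  refine ⟨∑ i, z i, ?_⟩
  rw [Finset.sum_congr rfl (fun i _ => hz i), Finset.sum_add_distrib, ← Finset.mul_sum]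
  congr 1
  rw [support₂, Finset.card_filter]
  push_cast
  rfl

/-- Square lengths in the lattice are divisible by 16. -/
theorem sixteen_dvd_sqNorm {x : GolayPt → ℤ} (hx : x ∈ leechLattice) : (16 : ℤ) ∣ sqNorm x := by
  obtain ⟨m, hp, hs, hc⟩ := mem_leechLattice_iff.mp hx
  obtain ⟨y, hy, hw⟩ := exists_half hp
  rw [hw] at hc
  obtain ⟨Z, hZ⟩ := sum_sq_mod_four y
  obtain ⟨w', hw'⟩ := Cfsg.Agent.H10.golay_card_dvd hc
  have e1 : ∑ i, x i = 24 * m + 2 * ∑ i, y i := by
    rw [Finset.sum_congr rfl (fun i _ => hy i)]; exact sum_expand m y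
  have e2 : sqNorm x = 24 * m ^ 2 + 4 * m * ∑ i, y i + 4 * ∑ i, y i ^ 2 := by
    unfold sqNorm
    rw [Finset.sum_congr rfl (fun i _ => by rw [hy i])]; exact sum_sq_expand m y
  rw [e1] at hs
  obtain ⟨t, ht⟩ := Int.modEq_iff_dvd.mp hs.symm
  have hS1 : ∑ i, y i = 4 * t - 10 * m := by linarith
  refine ⟨-m ^ 2 + m * t + w' + Z, ?_⟩
  rw [e2, hZ, hS1, hw']
  push_cast
  ring

/-- Nonzero lattice vectors have square length at least 32. -/
theorem min_sqNorm {x : GolayPt → ℤ} (hx : x ∈ leechLattice) (h0 : x ≠ 0) : 32 ≤ sqNorm x := by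
  have h16 := sixteen_dvd_sqNorm hx
  obtain ⟨m, hm, hp, hs, hc⟩ := isL_norm (mem_leechLattice_iff.mp hx)
  rcases hm with rfl | rfl
  · -- even case
    obtain ⟨y, hy, hw⟩ := exists_half hp
    rw [hw] at hc
    have hwt := Cfsg.Agent.S0359.result _ hc
    have hcard : hammingNorm (fun i => ((y i : ℤ) : ZMod 2))
        = (support₂ (fun i => ((y i : ℤ) : ZMod 2))).card := rfl
    rw [hcard] at hwt
    have hlow : 4 * ((support₂ (fun i => ((y i : ℤ) : ZMod 2))).card : ℤ) ≤ sqNorm x := by
      unfold sqNorm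
      calc 4 * ((support₂ (fun i => ((y i : ℤ) : ZMod 2))).card : ℤ)
          = ∑ i ∈ support₂ (fun i => ((y i : ℤ) : ZMod 2)), (4 : ℤ) := by
            rw [Finset.sum_const]; simp [mul_comm]
        _ ≤ ∑ i ∈ support₂ (fun i => ((y i : ℤ) : ZMod 2)), x i ^ 2 := by
            apply Finset.sum_le_sum
            intro i hi
            simp only [support₂, Finset.mem_filter, Finset.mem_univ, true_and] at hi
            have hodd := (intCast_zmod2_ne_zero_iff (y i)).mp hi
            have hne : y i ≠ 0 := by omega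
            have h1 : 1 ≤ y i ^ 2 := by
              have : 0 < y i ^ 2 := by positivity
              linarith
            rw [hy i]
            nlinarith
        _ ≤ ∑ i, x i ^ 2 :=
            Finset.sum_le_sum_of_subset_of_nonneg (Finset.subset_univ _) (fun i _ _ => sq_nonneg _)
    by_cases hw0 : (support₂ (fun i => ((y i : ℤ) : ZMod 2))).card = 0
    · -- all y i even
      have hev : ∀ i, ∃ z, y i = 2 * z := by
        intro i
        have : i ∉ support₂ (fun i => ((y i : ℤ) : ZMod 2)) := by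
          rw [Finset.card_eq_zero.mp hw0]; exact Finset.notMem_empty i
        simp only [support₂, Finset.mem_filter, Finset.mem_univ, true_and] at this
        have h2 := (intCast_zmod2_ne_zero_iff (y i)).not.mp this
        exact ⟨y i / 2, by omega⟩
      choose z hz using hev
      have hxz : ∀ i, x i = 4 * z i := fun i => by rw [hy i, hz i]; ring
      have e1 : ∑ i, x i = 4 * ∑ i, z i := by
        rw [Finset.sum_congr rfl (fun i _ => hxz i), ← Finset.mul_sum]
      have e2 : sqNorm x = 16 * ∑ i, z i ^ 2 := by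
        unfold sqNorm
        rw [Finset.sum_congr rfl (fun i _ => by rw [hxz i]), Finset.mul_sum]
        exact Finset.sum_congr rfl (fun i _ => by ring)
      have hu : ∀ i, ∃ u, z i ^ 2 = z i + 2 * u := by
        intro i
        rcases Int.emod_two_eq_zero_or_one (z i) with h | h
        · obtain ⟨k, hk⟩ : ∃ k, z i = 2 * k := ⟨z i / 2, by omega⟩
          exact ⟨2 * k ^ 2 - k, by rw [hk]; ring⟩
        · obtain ⟨k, hk⟩ : ∃ k, z i = 2 * k + 1 := ⟨z i / 2, by omega⟩
          exact ⟨2 * k ^ 2 + k, by rw [hk]; ring⟩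
      choose u hu' using hu
      have e3 : ∑ i, z i ^ 2 = ∑ i, z i + 2 * ∑ i, u i := by
        rw [Finset.sum_congr rfl (fun i _ => hu' i), Finset.sum_add_distrib, ← Finset.mul_sum]
      have hpos : 0 < ∑ i, z i ^ 2 := by
        obtain ⟨j, hj⟩ : ∃ j, x j ≠ 0 := by
          by_contra hcon
          apply h0
          funext i
          by_contra hi
          exact hcon ⟨i, hi⟩
        have hzj : z j ≠ 0 := by
          intro h; apply hj; rw [hxz j, h]; ring
        have h1 : 0 < z j ^ 2 := by positivity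
        have h2 : z j ^ 2 ≤ ∑ i, z i ^ 2 :=
          Finset.single_le_sum (f := fun i => z i ^ 2) (fun i _ => sq_nonneg _) (Finset.mem_univ j)
        linarith
      rw [e1] at hs
      unfold Int.ModEq at hs
      rw [e2]
      omega
    · have h8 : 8 ≤ (support₂ (fun i => ((y i : ℤ) : ZMod 2))).card := by omega
      have : (8 : ℤ) ≤ ((support₂ (fun i => ((y i : ℤ) : ZMod 2))).card : ℤ) := by exact_mod_cast h8
      linarith
  · -- odd case
    have h24 : 24 ≤ sqNorm x := by
      unfold sqNorm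
      calc (24 : ℤ) = ∑ _i : GolayPt, (1 : ℤ) := by simp
        _ ≤ ∑ i, x i ^ 2 := Finset.sum_le_sum (fun i _ => by
            have := hp i
            unfold Int.ModEq at this
            have hne : x i ≠ 0 := by omega
            have : 0 < x i ^ 2 := by positivity
            linarith)
    omega


theorem sqNorm_sub_add (a b : GolayPt → ℤ) :
    sqNorm (a - b) + sqNorm (a + b) = 2 * sqNorm a + 2 * sqNorm b := by
  unfold sqNorm
  rw [Finset.mul_sum, Finset.mul_sum, ← Finset.sum_add_distrib, ← Finset.sum_add_distrib]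
  apply Finset.sum_congr rfl
  intro i _
  simp only [Pi.add_apply, Pi.sub_apply]; ring

theorem sqNorm_two_smul (z : GolayPt → ℤ) : sqNorm ((2 : ℕ) • z) = 4 * sqNorm z := by
  unfold sqNorm
  rw [Finset.mul_sum]
  apply Finset.sum_congr rfl
  intro i _
  simp only [Pi.smul_apply, nsmul_eq_mul, Nat.cast_ofNat]; ring

theorem sqNorm_neg (z : GolayPt → ℤ) : sqNorm (-z) = sqNorm z := by
  unfold sqNorm
  apply Finset.sum_congr rfl
  intro i _
  simp only [Pi.neg_apply]; ring

theorem sqNorm_add (a b : GolayPt → ℤ) : sqNorm (a + b) = sqNorm a + 2 * dotInt a b + sqNorm b := by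
  unfold sqNorm dotInt
  rw [Finset.mul_sum, ← Finset.sum_add_distrib, ← Finset.sum_add_distrib]
  apply Finset.sum_congr rfl
  intro i _
  simp only [Pi.add_apply]; ring

/-- Two nonzero lattice vectors of square length at most 64 that are congruent modulo twice the
lattice have the same square length, and are equal or opposite unless that length is 64. -/
theorem short_congruent {v w : GolayPt → ℤ} (hv : v ∈ leechLattice) (hw : w ∈ leechLattice)
    (hvn : sqNorm v ≤ 64) (hwn : sqNorm w ≤ 64)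
    (hc : ∃ z ∈ leechLattice, v - w = (2 : ℕ) • z) :
    sqNorm v = sqNorm w ∧ (sqNorm v < 64 → w = v ∨ w = -v) := by
  obtain ⟨z, hz, hvw⟩ := hc
  have hz' : z + w ∈ leechLattice := add_mem hz hw
  have hvw' : v + w = (2 : ℕ) • (z + w) := by
    have : v = (2 : ℕ) • z + w := by rw [← hvw]; abel
    rw [this]; simp only [smul_add, two_smul]; abel
  have hpar := sqNorm_sub_add v w
  rw [hvw, hvw', sqNorm_two_smul, sqNorm_two_smul] at hpar
  by_cases h1 : z = 0
  · have : v = w := by
      have : v - w = 0 := by rw [hvw, h1]; simp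
      exact sub_eq_zero.mp this
    subst this
    exact ⟨rfl, fun _ => Or.inl rfl⟩
  · by_cases h2 : z + w = 0
    · have : w = -v := by
        have : v + w = 0 := by rw [hvw', h2]; simp
        have h3 : w = -v := by
          rw [eq_neg_iff_add_eq_zero, add_comm]; exact this
        exact h3
      subst this
      exact ⟨(sqNorm_neg v).symm, fun _ => Or.inr rfl⟩
    · have m1 := min_sqNorm hz h1
      have m2 := min_sqNorm hz' h2
      constructor
      · linarith
      · intro hlt
        exfalso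
        linarith

end Cfsg.Agent.H93
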