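import Mathlib
import Cfsg.Prelude.Def_Sporadic_a
import Cfsg.Agent.S0370
import Cfsg.Agent.S0372
import Cfsg.Agent.S0432
import Cfsg.Agent.S0433
import Cfsg.Agent.H93.Leech

/-!
Monomial elements of the automorphism group `Cfsg.Co0` of the rank-24 lattice (sign changes on
the supports of code words, coordinate permutations from the group of the code, negation), and
the centre of `Cfsg.Co0`.
-/

set_option autoImplicit false

namespace Cfsg.Agent.H93

open Cfsg

theorem sep_aux : ∀ x y : ZMod 23, x ≠ y →
    ∃ t : ZMod 23, (∃ r : ZMod 23, y = r ^ 2 + t) ∧ ¬ (∃ r : ZMod 23, x = r ^ 2 + t) := by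
  decide +kernel

theorem mem_support₂_iff (w : GolayPt → ZMod 2) (i : GolayPt) : i ∈ support₂ w ↔ w i ≠ 0 := by
  simp [support₂]

theorem qrWord_some (t x : ZMod 23) :
    qrWord t (some x) = if ∃ r : ZMod 23, x = r ^ 2 + t then 1 else 0 := rfl

theorem qrWord_none (t : ZMod 23) : qrWord t none = 0 := rfl

/-- Two distinct points are separated by the support of a word of the code. -/
theorem exists_sep (i j : GolayPt) (hij : i ≠ j) :
    ∃ c ∈ supports (golayCode : Set (GolayPt → ZMod 2)), j ∈ c ∧ i ∉ c := by
  have hq : ∀ t, qrWord t ∈ golayCode := fun t =>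
    Submodule.subset_span (Or.inl ⟨t, rfl⟩)
  have h1 : (1 : GolayPt → ZMod 2) ∈ golayCode := Submodule.subset_span (Or.inr rfl)
  rcases i with _ | x <;> rcases j with _ | y
  · exact absurd rfl hij
  · refine ⟨support₂ (qrWord y), ⟨qrWord y, hq y, rfl⟩, ?_, ?_⟩
    · rw [mem_support₂_iff, qrWord_some]
      have : ∃ r : ZMod 23, y = r ^ 2 + y := ⟨0, by ring⟩
      rw [if_pos this]; decide
    · rw [mem_support₂_iff, qrWord_none]; simp
  · refine ⟨support₂ (1 + qrWord x), ⟨1 + qrWord x, add_mem h1 (hq x), rfl⟩, ?_, ?_⟩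
    · rw [mem_support₂_iff, Pi.add_apply, qrWord_none]; simp
    · rw [mem_support₂_iff, Pi.add_apply, qrWord_some]
      have : ∃ r : ZMod 23, x = r ^ 2 + x := ⟨0, by ring⟩
      rw [if_pos this, Pi.one_apply]; decide
  · have hxy : x ≠ y := fun h => hij (by rw [h])
    obtain ⟨t, ht1, ht2⟩ := sep_aux x y hxy
    refine ⟨support₂ (qrWord t), ⟨qrWord t, hq t, rfl⟩, ?_, ?_⟩
    · rw [mem_support₂_iff, qrWord_some, if_pos ht1]; decide
    · rw [mem_support₂_iff, qrWord_some, if_neg ht2]; simp

/-! ### Monomial elements of the automorphism group -/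

/-- Sign change on a set of points. -/
def sg (c : Finset GolayPt) (x : GolayPt → ℤ) : GolayPt → ℤ :=
  fun i => if i ∈ c then -x i else x i

theorem sg_sg (c : Finset GolayPt) (x : GolayPt → ℤ) : sg c (sg c x) = x := by
  funext i
  unfold sg
  split_ifs <;> simp

theorem sg_add (c : Finset GolayPt) (x y : GolayPt → ℤ) : sg c (x + y) = sg c x + sg c y := by
  funext i
  simp only [sg, Pi.add_apply]
  split_ifs <;> ring

theorem sqNorm_sg (c : Finset GolayPt) (x : GolayPt → ℤ) : sqNorm (sg c x) = sqNorm x := by
  unfold sqNorm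
  apply Finset.sum_congr rfl
  intro i _
  unfold sg
  split_ifs <;> ring

/-- The sign change on the support of a code word, as a permutation of the lattice. -/
def sgPerm (c : Finset GolayPt) (hc : c ∈ supports (golayCode : Set (GolayPt → ZMod 2))) :
    Equiv.Perm leechLattice where
  toFun v := ⟨sg c v.1, Cfsg.Agent.S0433.result c hc v.1 v.2⟩
  invFun v := ⟨sg c v.1, Cfsg.Agent.S0433.result c hc v.1 v.2⟩
  left_inv v := Subtype.ext (sg_sg c v.1)
  right_inv v := Subtype.ext (sg_sg c v.1)

theorem sgPerm_mem (c : Finset GolayPt)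
    (hc : c ∈ supports (golayCode : Set (GolayPt → ZMod 2))) : sgPerm c hc ∈ Co0 :=
  ⟨fun v w => Subtype.ext (sg_add c v.1 w.1), fun v => sqNorm_sg c v.1⟩

/-- Permutation of the coordinates. -/
def pm (σ : Equiv.Perm GolayPt) (x : GolayPt → ℤ) : GolayPt → ℤ := fun i => x (σ i)

theorem sqNorm_pm (σ : Equiv.Perm GolayPt) (x : GolayPt → ℤ) : sqNorm (pm σ x) = sqNorm x := by
  unfold sqNorm pm
  exact Equiv.sum_comp σ (fun i => x i ^ 2)

/-- The coordinate permutation by an element of the group of the code, as a permutation of the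
lattice. -/
def pmPerm (σ : Equiv.Perm GolayPt) (hσ : σ ∈ M24) : Equiv.Perm leechLattice where
  toFun v := ⟨pm σ v.1, Cfsg.Agent.S0432.result σ hσ v.1 v.2⟩
  invFun v := ⟨pm σ⁻¹ v.1, Cfsg.Agent.S0432.result σ⁻¹ (inv_mem hσ) v.1 v.2⟩
  left_inv v := Subtype.ext (by funext i; simp [pm])
  right_inv v := Subtype.ext (by funext i; simp [pm])

theorem pmPerm_mem (σ : Equiv.Perm GolayPt) (hσ : σ ∈ M24) : pmPerm σ hσ ∈ Co0 :=
  ⟨fun _ _ => Subtype.ext rfl, fun v => sqNorm_pm σ v.1⟩

theorem neg_mem_Co0 : Equiv.neg leechLattice ∈ Co0 := by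
  refine ⟨fun v w => ?_, fun v => ?_⟩
  · simp only [Equiv.neg_apply]; abel
  · simp only [Equiv.neg_apply]
    exact sqNorm_neg _

/-- The vector with the single nonzero coordinate 8 at the point `i`. -/
def bvec (i : GolayPt) : GolayPt → ℤ := Pi.single i 8

theorem bvec_mem (i : GolayPt) : bvec i ∈ leechLattice := by
  refine mem_leechLattice_iff.mpr ⟨0, fun j => ?_, ?_, ?_⟩
  · unfold bvec
    by_cases h : j = i
    · subst h; simp only [Pi.single_eq_same]; decide
    · simp only [Pi.single_eq_of_ne h]; rfl
  · unfold bvec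
    rw [Finset.sum_pi_single']
    simp
  · have : wd 0 (bvec i) = 0 := by
      funext j
      unfold wd bvec
      by_cases h : j = i
      · subst h; simp only [Pi.single_eq_same, Pi.zero_apply]; decide
      · simp only [Pi.single_eq_of_ne h, Pi.zero_apply]; decide
    rw [this]; exact zero_mem _

theorem dot_preserved {g : Equiv.Perm leechLattice} (hg : g ∈ Co0) (v w : leechLattice) :
    dotInt ((g v : leechLattice) : GolayPt → ℤ) ((g w : leechLattice) : GolayPt → ℤ)
      = dotInt (v : GolayPt → ℤ) (w : GolayPt → ℤ) := by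
  have h1 := sqNorm_add ((g v : leechLattice) : GolayPt → ℤ) ((g w : leechLattice) : GolayPt → ℤ)
  have h2 := sqNorm_add (v : GolayPt → ℤ) (w : GolayPt → ℤ)
  have h3 : ((g (v + w) : leechLattice) : GolayPt → ℤ)
      = ((g v : leechLattice) : GolayPt → ℤ) + ((g w : leechLattice) : GolayPt → ℤ) := by
    rw [hg.1]; rfl
  have h4 := hg.2 (v + w)
  rw [h3] at h4
  have h5 := hg.2 v
  have h6 := hg.2 w
  have h7 : ((v + w : leechLattice) : GolayPt → ℤ) = (v : GolayPt → ℤ) + (w : GolayPt → ℤ) := rfl
  rw [h7] at h4
  linarith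

theorem dotInt_bvec (x : GolayPt → ℤ) (i : GolayPt) (a : ℤ) :
    dotInt x (Pi.single i a) = x i * a := by
  unfold dotInt
  rw [Finset.sum_eq_single i]
  · simp
  · intro j _ hj
    simp [Pi.single_eq_of_ne hj]
  · intro h
    exact absurd (Finset.mem_univ i) h

theorem eq_single_of_zero (u : GolayPt → ℤ) (i : GolayPt) (h : ∀ j, j ≠ i → u j = 0) :
    u = Pi.single i (u i) := by
  funext j
  by_cases hj : j = i
  · subst hj; simp
  · rw [Pi.single_eq_of_ne hj, h j hj]

theorem sqNorm_single (i : GolayPt) (a : ℤ) : sqNorm (Pi.single i a : GolayPt → ℤ) = a ^ 2 := by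
  unfold sqNorm
  rw [Finset.sum_eq_single i]
  · simp
  · intro j _ hj
    simp [Pi.single_eq_of_ne hj]
  · intro h
    exact absurd (Finset.mem_univ i) h

/-- An automorphism commuting with all automorphisms is the identity or the negation. -/
theorem center_aux (z : Equiv.Perm leechLattice) (hz : z ∈ Co0)
    (hcomm : ∀ g ∈ Co0, ∀ v, z (g v) = g (z v)) :
    (∀ v, z v = v) ∨ (∀ v, z v = -v) := by
  obtain ⟨B, hB⟩ : ∃ B : GolayPt → leechLattice, ∀ i, ((B i : leechLattice) : GolayPt → ℤ) = bvec i :=
    ⟨fun i => ⟨bvec i, bvec_mem i⟩, fun _ => rfl⟩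
  -- the image of `B i` is supported at `i`
  have hu : ∀ i j, j ≠ i → ((z (B i) : leechLattice) : GolayPt → ℤ) j = 0 := by
    intro i j hji
    obtain ⟨c, hc, hjc, hic⟩ := exists_sep i j (Ne.symm hji)
    have h1 : sgPerm c hc (B i) = B i := by
      apply Subtype.ext
      funext l
      show sg c ((B i : leechLattice) : GolayPt → ℤ) l = ((B i : leechLattice) : GolayPt → ℤ) l
      rw [hB]
      unfold sg bvec
      by_cases hl : l = i
      · subst hl; rw [if_neg hic]
      · simp [Pi.single_eq_of_ne hl]
    have h2 := hcomm (sgPerm c hc) (sgPerm_mem c hc) (B i)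
    rw [h1] at h2
    have h3 := congrArg (fun w : leechLattice => (w : GolayPt → ℤ) j) h2
    have h4 : ((sgPerm c hc (z (B i)) : leechLattice) : GolayPt → ℤ) j
        = - ((z (B i) : leechLattice) : GolayPt → ℤ) j := by
      show sg c _ j = _
      unfold sg
      rw [if_pos hjc]
    simp only [h4] at h3
    omega
  have hsingle : ∀ i, ((z (B i) : leechLattice) : GolayPt → ℤ)
      = Pi.single i (((z (B i) : leechLattice) : GolayPt → ℤ) i) :=
    fun i => eq_single_of_zero _ i (hu i)
  have hnorm : ∀ i, (((z (B i) : leechLattice) : GolayPt → ℤ) i) ^ 2 = 64 := by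
    intro i
    have h1 := hz.2 (B i)
    rw [hsingle i, sqNorm_single, hB] at h1
    unfold bvec at h1
    rw [sqNorm_single] at h1
    rw [h1]; norm_num
  have hdot : ∀ (v : leechLattice) (i : GolayPt),
      ((z v : leechLattice) : GolayPt → ℤ) i * ((z (B i) : leechLattice) : GolayPt → ℤ) i
        = (v : GolayPt → ℤ) i * 8 := by
    intro v i
    have h1 := dot_preserved hz v (B i)
    rw [hsingle i, dotInt_bvec, hB] at h1
    unfold bvec at h1
    rw [dotInt_bvec] at h1
    exact h1
  have hperm : ∀ (σ : Equiv.Perm GolayPt) (hσ : σ ∈ M24) (j : GolayPt),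
      ((z (B j) : leechLattice) : GolayPt → ℤ) j
        = ((z (B (σ j)) : leechLattice) : GolayPt → ℤ) (σ j) := by
    intro σ hσ j
    have h1 : pmPerm σ hσ (B (σ j)) = B j := by
      apply Subtype.ext
      funext l
      show ((B (σ j) : leechLattice) : GolayPt → ℤ) (σ l) = ((B j : leechLattice) : GolayPt → ℤ) l
      rw [hB, hB]
      unfold bvec
      by_cases hl : l = j
      · subst hl; simp
      · rw [Pi.single_eq_of_ne hl, Pi.single_eq_of_ne (fun h => hl (σ.injective h))]
    have h2 := hcomm (pmPerm σ hσ) (pmPerm_mem σ hσ) (B (σ j))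
    rw [h1] at h2
    exact congrArg (fun w : leechLattice => (w : GolayPt → ℤ) j) h2
  have hs : ∀ n : ℕ, ((z (B (some (n : ZMod 23))) : leechLattice) : GolayPt → ℤ) (some (n : ZMod 23))
      = ((z (B (some 0)) : leechLattice) : GolayPt → ℤ) (some 0) := by
    intro n
    induction n with
    | zero => simp
    | succ n ih =>
      have h := hperm _ Cfsg.Agent.S0370.result (some (n : ZMod 23))
      have e : (Equiv.optionCongr (Equiv.addRight (1 : ZMod 23))) (some (n : ZMod 23))
          = some ((n + 1 : ℕ) : ZMod 23) := by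
        simp
      rw [e] at h
      rw [← h, ih]
  have h0 : ((z (B none) : leechLattice) : GolayPt → ℤ) none
      = ((z (B (some 0)) : leechLattice) : GolayPt → ℤ) (some 0) :=
    hperm projInv Cfsg.Agent.S0372.result none
  have hconst : ∀ i, ((z (B i) : leechLattice) : GolayPt → ℤ) i
      = ((z (B none) : leechLattice) : GolayPt → ℤ) none := by
    intro i
    rcases i with _ | x
    · rfl
    · have h := hs x.val
      rw [ZMod.natCast_zmod_val] at h
      rw [h, h0]
  have h8 := hnorm none
  have h8' : ((z (B none) : leechLattice) : GolayPt → ℤ) none = 8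
      ∨ ((z (B none) : leechLattice) : GolayPt → ℤ) none = -8 := by
    have h9 : (((z (B none) : leechLattice) : GolayPt → ℤ) none - 8)
        * (((z (B none) : leechLattice) : GolayPt → ℤ) none + 8) = 0 := by
      ring_nf; rw [h8]; ring
    rcases mul_eq_zero.mp h9 with h | h
    · left; omega
    · right; omega
  rcases h8' with h | h
  · left
    intro v
    apply Subtype.ext
    funext i
    have h1 := hdot v i
    rw [hconst i, h] at h1
    omega
  · right
    intro v
    apply Subtype.ext
    funext i
    have h1 := hdot v i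
    rw [hconst i, h] at h1
    show ((z v : leechLattice) : GolayPt → ℤ) i = -((v : GolayPt → ℤ) i)
    omega

/-- The centre of the automorphism group of the lattice has order 2. -/
theorem card_center_Co0 : Nat.card (Subgroup.center Co0) = 2 := by
  obtain ⟨negE, hnegE⟩ : ∃ negE : Co0, negE.1 = Equiv.neg leechLattice :=
    ⟨⟨Equiv.neg leechLattice, neg_mem_Co0⟩, rfl⟩
  have hset : (Subgroup.center Co0 : Set Co0) = {1, negE} := by
    ext z
    simp only [SetLike.mem_coe, Subgroup.mem_center_iff, Set.mem_insert_iff,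
      Set.mem_singleton_iff]
    constructor
    · intro hz
      have hcomm : ∀ g ∈ Co0, ∀ v, z.1 (g v) = g (z.1 v) := by
        intro g hg v
        have h1 := hz ⟨g, hg⟩
        have h2 := congrArg (fun w : Co0 => w.1 v) h1
        exact h2.symm
      rcases center_aux z.1 z.2 hcomm with h | h
      · left
        apply Subtype.ext
        apply Equiv.ext
        exact h
      · right
        apply Subtype.ext
        apply Equiv.ext
        intro v
        rw [hnegE]
        exact h v
    · intro hz'
      rcases hz' with h | h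
      · rw [h]; intro g; simp
      · rw [h]
        intro g
        apply Subtype.ext
        apply Equiv.ext
        intro v
        show g.1 (negE.1 v) = negE.1 (g.1 v)
        rw [hnegE]
        simp only [Equiv.neg_apply]
        have hadd := g.2.1
        have h0 : g.1 0 = 0 := by
          have := hadd 0 0
          rw [add_zero] at this
          exact left_eq_add.mp this
        have h1 := hadd (-v) v
        rw [neg_add_cancel, h0] at h1
        exact eq_neg_of_add_eq_zero_left h1.symm
  have hne : (1 : Co0) ≠ negE := by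
    intro h
    have h1 := congrArg (fun w : Co0 => ((w.1 ⟨bvec none, bvec_mem none⟩ : leechLattice) :
      GolayPt → ℤ) none) h
    simp only [hnegE] at h1
    have h2 : (bvec none : GolayPt → ℤ) none = 8 := by simp [bvec]
    have h3 : (((1 : Co0).1 ⟨bvec none, bvec_mem none⟩ : leechLattice) : GolayPt → ℤ) none
        = 8 := h2
    have h4 : (((Equiv.neg leechLattice) ⟨bvec none, bvec_mem none⟩ : leechLattice) :
        GolayPt → ℤ) none = -8 := by
      show -(bvec none : GolayPt → ℤ) none = -8
      rw [h2]
    rw [h3, h4] at h1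
    norm_num at h1
  have hcard : Nat.card (Subgroup.center Co0) = (Subgroup.center Co0 : Set Co0).ncard :=
    Nat.card_coe_set_eq _
  rw [hcard, hset, Set.ncard_pair hne]

end Cfsg.Agent.H93
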