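import Mathlib
import Cfsg.Prelude.Def_Sporadic_a
import Cfsg.Agent.H9.Golay
import Cfsg.Agent.H93.Leech

/-!
The numbers of vectors of square length 32, 48 and 64 in the rank-24 lattice `Cfsg.leechLattice`,
by expanding a product of generating numbers and reading off digits.
-/

set_option autoImplicit false

namespace Cfsg.Agent.H93

open Cfsg Cfsg.Agent.H9

/-! ### Counting by digit extraction -/

/-- In a sum of powers of `B` with fewer than `B` terms, the digit number `j` in base `B` counts
the terms of exponent `j`. -/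
theorem digit_sum_pow {α : Type*} (S : Finset α) (e : α → ℕ) (B j : ℕ) (hB : S.card < B) :
    (∑ x ∈ S, B ^ e x) / B ^ j % B = (S.filter (fun x => e x = j)).card := by
  have hBpos : 0 < B := by omega
  have hsplit : ∀ x, B ^ e x = (if e x < j then B ^ e x else 0) + (if e x = j then 1 else 0) * B ^ j
      + B ^ j * (B * (if j < e x then B ^ (e x - j - 1) else 0)) := by
    intro x
    rcases lt_trichotomy (e x) j with h | h | h
    · have h1 : ¬ j < e x := by omega
      have h2 : e x ≠ j := by omega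
      simp [h, h1, h2]
    · subst h; simp
    · have h1 : ¬ e x < j := by omega
      have h2 : e x ≠ j := by omega
      simp only [h1, h2, h, if_true, if_false, zero_mul, zero_add, add_zero]
      rw [← pow_succ', ← pow_add]; congr 1; omega
  rw [Finset.sum_congr rfl (fun x _ => hsplit x), Finset.sum_add_distrib, Finset.sum_add_distrib,
    ← Finset.sum_mul, ← Finset.mul_sum, ← Finset.mul_sum]
  have hc : ∑ x ∈ S, (if e x = j then 1 else 0) = (S.filter (fun x => e x = j)).card := by
    rw [Finset.card_filter]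
  rw [hc]
  obtain ⟨r, hr⟩ : ∃ r, r = ∑ x ∈ S, (if e x < j then B ^ e x else 0) := ⟨_, rfl⟩
  obtain ⟨q, hq⟩ : ∃ q, q = ∑ x ∈ S, (if j < e x then B ^ (e x - j - 1) else 0) := ⟨_, rfl⟩
  rw [← hr, ← hq]
  have hrlt : r < B ^ j := by
    rcases Nat.eq_zero_or_pos j with rfl | hj
    · rw [hr]; simp
    · calc r ≤ ∑ x ∈ S, B ^ (j - 1) := by
            rw [hr]
            apply Finset.sum_le_sum
            intro x _
            split_ifs with h
            · exact Nat.pow_le_pow_right hBpos (by omega)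
            · exact Nat.zero_le _
        _ = S.card * B ^ (j - 1) := by simp
        _ < B * B ^ (j - 1) := Nat.mul_lt_mul_of_pos_right hB (by positivity)
        _ = B ^ j := by rw [← pow_succ']; congr 1; omega
  have e1 : r + (S.filter (fun x => e x = j)).card * B ^ j + B ^ j * (B * q)
      = r + B ^ j * ((S.filter (fun x => e x = j)).card + B * q) := by ring
  rw [e1, Nat.add_mul_div_left _ _ (by positivity), Nat.div_eq_of_lt hrlt, zero_add,
    Nat.add_mul_mod_self_left, Nat.mod_eq_of_lt]
  exact lt_of_le_of_lt (Finset.card_filter_le _ _) hB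

theorem prod_sum_pow {ι : Type*} [DecidableEq ι] [Fintype ι] (A : ι → Finset ℤ) (f : ℤ → ℕ)
    (B : ℕ) :
    ∏ i, ∑ a ∈ A i, B ^ f a = ∑ x ∈ Fintype.piFinset A, B ^ ∑ i, f (x i) := by
  rw [Finset.prod_univ_sum]
  apply Finset.sum_congr rfl
  intro x _
  rw [Finset.prod_pow_eq_pow_sum]

theorem card_filter_code {ι : Type*} [DecidableEq ι] [Fintype ι] (A : ι → Finset ℤ) (f : ℤ → ℕ)
    (B j : ℕ) (hB : (Fintype.piFinset A).card < B) :
    ((Fintype.piFinset A).filter (fun x => ∑ i, f (x i) = j)).card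
      = (∏ i, ∑ a ∈ A i, B ^ f a) / B ^ j % B := by
  rw [prod_sum_pow, digit_sum_pow _ _ _ _ hB]

/-! ### The generating numbers -/

/-- The base of the digit expansions. -/
def BB : ℕ := 2 ^ 56

/-- The exponent attached to a coordinate value `a` with `|a| ≤ 8`: it records the square and the
value of `a`. -/
def enc (a : ℤ) : ℕ := (a ^ 2 * 256 + a + 8).toNat

/-- The coordinate values of absolute value at most 8 in a residue class modulo 4. -/
noncomputable def AA (r : ℕ) : Finset ℤ := (Finset.Icc (-8 : ℤ) 8).filter (fun a => a % 4 = (r : ℤ) % 4)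

theorem mem_AA {r : ℕ} {a : ℤ} : a ∈ AA r ↔ -8 ≤ a ∧ a ≤ 8 ∧ a % 4 = (r : ℤ) % 4 := by
  simp [AA, Finset.mem_filter, Finset.mem_Icc, and_assoc]

theorem card_AA_le (r : ℕ) : (AA r).card ≤ 5 := by
  have h : ∀ r < 4, (AA r).card ≤ 5 := by decide
  have h2 : AA r = AA (r % 4) := by
    ext a
    simp only [mem_AA]
    have : ((r % 4 : ℕ) : ℤ) % 4 = (r : ℤ) % 4 := by omega
    rw [this]
  rw [h2]
  exact h _ (Nat.mod_lt _ (by norm_num))

/-- The generating number of a residue class modulo 4. -/
def Gn : ℕ → ℕ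
  | 0 => BB ^ 16384 + BB ^ 4100 + BB ^ 8 + BB ^ 4108 + BB ^ 16400
  | 1 => BB ^ 12545 + BB ^ 2309 + BB ^ 265 + BB ^ 6413
  | 2 => BB ^ 9218 + BB ^ 1030 + BB ^ 1034 + BB ^ 9230
  | 3 => BB ^ 6403 + BB ^ 263 + BB ^ 2315 + BB ^ 12559
  | _ => 0

theorem AA_zero : AA 0 = {-8, -4, 0, 4, 8} := by decide
theorem AA_one : AA 1 = {-7, -3, 1, 5} := by decide
theorem AA_two : AA 2 = {-6, -2, 2, 6} := by decide
theorem AA_three : AA 3 = {-5, -1, 3, 7} := by decide

theorem sum_AA : ∀ r < 4, ∑ a ∈ AA r, BB ^ enc a = Gn r := by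
  intro r hr
  interval_cases r
  · rw [AA_zero]; simp [enc, Gn, add_assoc]
  · rw [AA_one]; simp [enc, Gn, add_assoc]
  · rw [AA_two]; simp [enc, Gn, add_assoc]
  · rw [AA_three]; simp [enc, Gn, add_assoc]

theorem enc_cast {a : ℤ} (h1 : -8 ≤ a) (h2 : a ≤ 8) : ((enc a : ℕ) : ℤ) = a ^ 2 * 256 + a + 8 := by
  unfold enc
  have : 0 ≤ a ^ 2 := sq_nonneg a
  omega

/-- The set of allowed coordinate values at each point, for the parity `m` and the code word
number `k`. -/
noncomputable def Afam (m k : ℕ) (i : GolayPt) : Finset ℤ :=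
  if (cw k).testBit (gIdx i) = true then AA (m + 2) else AA m

theorem card_piFinset_Afam (m k : ℕ) : (Fintype.piFinset (Afam m k)).card < BB := by
  rw [Fintype.card_piFinset]
  calc ∏ i, (Afam m k i).card ≤ ∏ _i : GolayPt, 5 := by
        apply Finset.prod_le_prod'
        intro i _
        unfold Afam
        split_ifs
        · exact card_AA_le _
        · exact card_AA_le _
    _ = 5 ^ 24 := by simp
    _ < BB := by unfold BB; norm_num

theorem prod_Afam (m k : ℕ) (hm : m < 2) :
    ∏ i, ∑ a ∈ Afam m k i, BB ^ enc a = Gn m ^ (24 - pcT (cw k)) * Gn (m + 2) ^ pcT (cw k) := by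
  have h1 : ∀ i, ∑ a ∈ Afam m k i, BB ^ enc a
      = if (cw k).testBit (gIdx i) = true then Gn (m + 2) else Gn m := by
    intro i
    unfold Afam
    split_ifs
    · exact sum_AA _ (by omega)
    · exact sum_AA _ (by omega)
  rw [Finset.prod_congr rfl (fun i _ => h1 i), Finset.prod_ite, Finset.prod_const,
    Finset.prod_const]
  have h2 : (Finset.univ.filter (fun i : GolayPt => (cw k).testBit (gIdx i) = true)).card
      = pcT (cw k) := by
    rw [← card_fs']; rfl
  have h3 : (Finset.univ.filter (fun i : GolayPt => ¬ (cw k).testBit (gIdx i) = true)).card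
      = 24 - pcT (cw k) := by
    have := Finset.card_filter_add_card_filter_not (s := (Finset.univ : Finset GolayPt))
      (fun i : GolayPt => (cw k).testBit (gIdx i) = true)
    rw [h2, Finset.card_univ, card_golayPt] at this
    omega
  rw [h2, h3, mul_comm]

theorem sum_bounds (x : GolayPt → ℤ) : -(sqNorm x) ≤ ∑ i, x i ∧ ∑ i, x i ≤ sqNorm x := by
  unfold sqNorm
  constructor
  · rw [← Finset.sum_neg_distrib]
    apply Finset.sum_le_sum
    intro i _
    have : 0 ≤ x i ^ 2 + x i := by
      rcases le_or_gt 0 (x i) with h | h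
      · positivity
      · nlinarith
    linarith
  · apply Finset.sum_le_sum
    intro i _
    exact Int.le_self_sq (x i)

theorem code_cast (m k : ℕ) {x : GolayPt → ℤ} (hx : x ∈ Fintype.piFinset (Afam m k)) :
    ((∑ i, enc (x i) : ℕ) : ℤ) = 256 * sqNorm x + ∑ i, x i + 192 := by
  rw [Fintype.mem_piFinset] at hx
  have hb : ∀ i, -8 ≤ x i ∧ x i ≤ 8 := by
    intro i
    have := hx i
    unfold Afam at this
    split_ifs at this
    · exact ⟨(mem_AA.mp this).1, (mem_AA.mp this).2.1⟩
    · exact ⟨(mem_AA.mp this).1, (mem_AA.mp this).2.1⟩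
  push_cast
  rw [Finset.sum_congr rfl (fun i _ => enc_cast (hb i).1 (hb i).2)]
  unfold sqNorm
  rw [Finset.sum_add_distrib, Finset.sum_add_distrib, ← Finset.sum_mul, Finset.sum_const,
    Finset.card_univ, card_golayPt]
  simp
  ring

/-- The lattice vectors of square length `N` with parity `m` and code word number `k`. -/
noncomputable def SF (m k N : ℕ) : Finset (GolayPt → ℤ) :=
  (Fintype.piFinset (Afam m k)).filter
    (fun x => sqNorm x = (N : ℤ) ∧ (∑ i, x i) % 8 = 4 * (m : ℤ))

/-- Sum of the digits of `P` at the places `base + 8 j`, `j < n`. -/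
def sumDig (P base : ℕ) : ℕ → ℕ
  | 0 => 0
  | n + 1 => sumDig P base n + P / BB ^ (base + 8 * n) % BB

theorem sumDig_eq (P base n : ℕ) :
    sumDig P base n = ∑ j ∈ Finset.range n, P / BB ^ (base + 8 * j) % BB := by
  induction n with
  | zero => rfl
  | succ n ih => rw [sumDig, ih, Finset.sum_range_succ]

theorem card_SF (m k N : ℕ) (hm : m < 2) (hN : N ≤ 64) :
    (SF m k N).card
      = sumDig (Gn m ^ (24 - pcT (cw k)) * Gn (m + 2) ^ pcT (cw k)) (N * 256 + 128 + 4 * m) 17 := by
  have h1 : SF m k N = (Finset.range 17).biUnion (fun j =>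
      (Fintype.piFinset (Afam m k)).filter
        (fun x => ∑ i, enc (x i) = N * 256 + 128 + 4 * m + 8 * j)) := by
    ext x
    simp only [SF, Finset.mem_filter, Finset.mem_biUnion, Finset.mem_range]
    constructor
    · rintro ⟨hx, hn, hs⟩
      have hc := code_cast m k hx
      have hb := sum_bounds x
      refine ⟨((∑ i, x i + 64 - 4 * (m : ℤ)) / 8).toNat, ?_, hx, ?_⟩
      · omega
      · omega
    · rintro ⟨j, hj, hx, he⟩
      have hc := code_cast m k hx
      have hb := sum_bounds x
      refine ⟨hx, ?_, ?_⟩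
      · omega
      · omega
  rw [h1, Finset.card_biUnion, sumDig_eq]
  · apply Finset.sum_congr rfl
    intro j _
    rw [card_filter_code _ _ BB _ (card_piFinset_Afam m k), prod_Afam m k hm]
  · intro j _ j' _ hjj'
    rw [Function.onFun, Finset.disjoint_left]
    intro x hx hx'
    simp only [Finset.mem_filter] at hx hx'
    apply hjj'
    omega

/-- The number of lattice vectors of square length `N` with parity `m` attached to a code word of
weight `w`. -/
def Phi (N m w : ℕ) : ℕ :=
  sumDig (Gn m ^ (24 - w) * Gn (m + 2) ^ w) (N * 256 + 128 + 4 * m) 17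

/-- The total number of lattice vectors of square length `N`. -/
def PhiTot (N : ℕ) : ℕ :=
  (Phi N 0 0 + 759 * Phi N 0 8 + 2576 * Phi N 0 12 + 759 * Phi N 0 16 + Phi N 0 24)
    + (Phi N 1 0 + 759 * Phi N 1 8 + 2576 * Phi N 1 12 + 759 * Phi N 1 16 + Phi N 1 24)

theorem dec_apply (n : ℕ) (i : GolayPt) :
    dec n i = if n.testBit (gIdx i) = true then 1 else 0 := rfl

theorem mem_SF {m k N : ℕ} {x : GolayPt → ℤ} :
    x ∈ SF m k N ↔ (∀ i, x i ∈ Afam m k i) ∧ sqNorm x = (N : ℤ) ∧
      (∑ i, x i) % 8 = 4 * (m : ℤ) := by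
  simp [SF, Finset.mem_filter, Fintype.mem_piFinset]

theorem mem_Afam_iff {m k : ℕ} {i : GolayPt} {a : ℤ} :
    a ∈ Afam m k i ↔ -8 ≤ a ∧ a ≤ 8 ∧
      a % 4 = ((m : ℤ) + 2 * (if (cw k).testBit (gIdx i) = true then 1 else 0)) % 4 := by
  unfold Afam
  split_ifs with h
  · rw [mem_AA]; push_cast; simp
  · rw [mem_AA]; simp

theorem coord_bound {x : GolayPt → ℤ} {N : ℕ} (hN : N ≤ 64) (hx : sqNorm x = (N : ℤ))
    (i : GolayPt) : -8 ≤ x i ∧ x i ≤ 8 := by
  have h1 : x i ^ 2 ≤ sqNorm x :=
    Finset.single_le_sum (f := fun i => x i ^ 2) (fun j _ => sq_nonneg _) (Finset.mem_univ i)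
  have h2 : x i ^ 2 ≤ 64 := by
    rw [hx] at h1
    have : (N : ℤ) ≤ 64 := by exact_mod_cast hN
    linarith
  constructor <;> nlinarith

theorem mem_leech_norm_iff {N : ℕ} (hN : N ≤ 64) (x : GolayPt → ℤ) :
    (x ∈ leechLattice ∧ sqNorm x = (N : ℤ)) ↔ ∃ m, m < 2 ∧ ∃ k, k < 4096 ∧ x ∈ SF m k N := by
  constructor
  · rintro ⟨hx, hn⟩
    obtain ⟨m, hm, hp, hs, hc⟩ := isL_norm (mem_leechLattice_iff.mp hx)
    obtain ⟨k, hk, hw⟩ := (mem_golayCode_iff _).mp hc
    have hm' : ∃ m' : ℕ, m' < 2 ∧ m = (m' : ℤ) := by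
      rcases hm with rfl | rfl
      · exact ⟨0, by norm_num, rfl⟩
      · exact ⟨1, by norm_num, rfl⟩
    obtain ⟨m', hm'lt, rfl⟩ := hm'
    refine ⟨m', hm'lt, k, hk, mem_SF.mpr ⟨fun i => ?_, hn, ?_⟩⟩
    · rw [mem_Afam_iff]
      have hb := coord_bound hN hn i
      refine ⟨hb.1, hb.2, ?_⟩
      have h1 := wd_ne_zero_iff m' x i (hp i)
      have h2 := congrFun hw i
      rw [dec_apply] at h2
      have hpi := hp i
      unfold Int.ModEq at h1 hpi
      by_cases hbit : (cw k).testBit (gIdx i) = true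
      · rw [if_pos hbit] at h2 ⊢
        have h3 : wd (m' : ℤ) x i ≠ 0 := by rw [h2]; decide
        have h4 := h1.mp h3
        omega
      · rw [if_neg hbit] at h2 ⊢
        have h3 : ¬ (wd (m' : ℤ) x i ≠ 0) := by rw [h2]; decide
        have h4 := h1.not.mp h3
        omega
    · unfold Int.ModEq at hs
      omega
  · rintro ⟨m, hm, k, hk, hx⟩
    obtain ⟨hA, hn, hs⟩ := mem_SF.mp hx
    have hp : ∀ i, x i ≡ (m : ℤ) [ZMOD 2] := by
      intro i
      have h1 := (mem_Afam_iff.mp (hA i)).2.2
      unfold Int.ModEq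
      by_cases hbit : (cw k).testBit (gIdx i) = true
      · rw [if_pos hbit] at h1; omega
      · rw [if_neg hbit] at h1; omega
    refine ⟨mem_leechLattice_iff.mpr ⟨(m : ℤ), hp, ?_, ?_⟩, hn⟩
    · unfold Int.ModEq; omega
    · have h5 : wd (m : ℤ) x = dec (cw k) := by
        funext i
        apply zmod2_eq_of_ne_zero_iff
        rw [wd_ne_zero_iff _ x i (hp i), dec_apply]
        have h1 := (mem_Afam_iff.mp (hA i)).2.2
        unfold Int.ModEq
        by_cases hbit : (cw k).testBit (gIdx i) = true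
        · rw [if_pos hbit] at h1 ⊢
          constructor
          · intro _; decide
          · intro _; omega
        · rw [if_neg hbit] at h1 ⊢
          constructor
          · intro h; omega
          · intro h; exact absurd rfl h
      rw [h5]; exact dec_cw_mem k

theorem SF_disjoint {m k m' k' N : ℕ} (hm : m < 2) (hm' : m' < 2) (hk : k < 4096)
    (hk' : k' < 4096) (hne : (m, k) ≠ (m', k')) : Disjoint (SF m k N) (SF m' k' N) := by
  rw [Finset.disjoint_left]
  intro x hx hx'
  obtain ⟨hA, -, -⟩ := mem_SF.mp hx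
  obtain ⟨hA', -, -⟩ := mem_SF.mp hx'
  have e1 : m = m' := by
    have h1 := (mem_Afam_iff.mp (hA none)).2.2
    have h2 := (mem_Afam_iff.mp (hA' none)).2.2
    split_ifs at h1 h2 <;> omega
  subst e1
  have e2 : k = k' := by
    apply cw_inj hk hk'
    apply dec_inj (cw_lt k) (cw_lt k')
    funext i
    rw [dec_apply, dec_apply]
    have h1 := (mem_Afam_iff.mp (hA i)).2.2
    have h2 := (mem_Afam_iff.mp (hA' i)).2.2
    by_cases hbit : (cw k).testBit (gIdx i) = true
    · by_cases hbit' : (cw k').testBit (gIdx i) = true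
      · rw [if_pos hbit, if_pos hbit']
      · rw [if_pos hbit] at h1; rw [if_neg hbit'] at h2; omega
    · by_cases hbit' : (cw k').testBit (gIdx i) = true
      · rw [if_neg hbit] at h1; rw [if_pos hbit'] at h2; omega
      · rw [if_neg hbit, if_neg hbit']
  exact hne (by rw [e2])

theorem count_weight0 : countB (fun k => Nat.beq (pcT (cwN k)) 0) 4096 = 1 := by decide +kernel

theorem count_weight24 : countB (fun k => Nat.beq (pcT (cwN k)) 24) 4096 = 1 := by decide +kernel

theorem card_weight (v : ℕ) :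
    ((Finset.range 4096).filter (fun k => pcT (cw k) = v)).card
      = countB (fun k => Nat.beq (pcT (cwN k)) v) 4096 := by
  rw [countB_eq]
  have h : (Finset.range 4096).filter (fun k => pcT (cw k) = v)
      = (Finset.range 4096).filter (fun k => Nat.beq (pcT (cwN k)) v = true) := by
    apply Finset.filter_congr
    intro k _
    rw [cwN_eq]
    exact ⟨fun h => by rw [h]; exact Nat.beq_refl v, fun h => Nat.eq_of_beq_eq_true h⟩
  rw [h]

/-- Sums over the code words of a function of the weight. -/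
theorem sum_weights (F : ℕ → ℕ) :
    ∑ k ∈ Finset.range 4096, F (pcT (cw k))
      = F 0 + 759 * F 8 + 2576 * F 12 + 759 * F 16 + F 24 := by
  have hmaps : ∀ k ∈ Finset.range 4096, pcT (cw k) ∈ ({0, 8, 12, 16, 24} : Finset ℕ) := by
    intro k hk
    have := weights_cw k (Finset.mem_range.mp hk)
    rw [pcT_eq]
    simp only [Finset.mem_insert, Finset.mem_singleton]
    exact this
  rw [← Finset.sum_fiberwise_of_maps_to hmaps]
  have hfib : ∀ v, ∑ k ∈ (Finset.range 4096).filter (fun k => pcT (cw k) = v), F (pcT (cw k))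
      = countB (fun k => Nat.beq (pcT (cwN k)) v) 4096 * F v := by
    intro v
    rw [← card_weight, Finset.sum_congr rfl (fun k hk => by rw [(Finset.mem_filter.mp hk).2]),
      Finset.sum_const, smul_eq_mul]
  simp only [hfib]
  rw [Finset.sum_insert (by decide), Finset.sum_insert (by decide), Finset.sum_insert (by decide),
    Finset.sum_insert (by decide), Finset.sum_singleton, count_weight0, count_weight8,
    count_weight12, count_weight16, count_weight24]
  ring

/-- The number of lattice vectors of a given square length at most 64. -/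
theorem ncard_norm (N : ℕ) (hN : N ≤ 64) :
    {x : GolayPt → ℤ | x ∈ leechLattice ∧ sqNorm x = (N : ℤ)}.ncard = PhiTot N := by
  have h1 : {x : GolayPt → ℤ | x ∈ leechLattice ∧ sqNorm x = (N : ℤ)}
      = ↑((Finset.range 2 ×ˢ Finset.range 4096).biUnion (fun p => SF p.1 p.2 N)) := by
    ext x
    rw [Set.mem_ofPred_eq, mem_leech_norm_iff hN, Finset.mem_coe, Finset.mem_biUnion]
    constructor
    · rintro ⟨m, hm, k, hk, hx⟩
      exact ⟨(m, k), Finset.mem_product.mpr ⟨Finset.mem_range.mpr hm, Finset.mem_range.mpr hk⟩, hx⟩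
    · rintro ⟨⟨m, k⟩, hp, hx⟩
      obtain ⟨hm, hk⟩ := Finset.mem_product.mp hp
      exact ⟨m, Finset.mem_range.mp hm, k, Finset.mem_range.mp hk, hx⟩
  rw [h1, Set.ncard_coe_finset, Finset.card_biUnion, Finset.sum_product]
  · have h2 : ∀ m ∈ Finset.range 2, ∑ k ∈ Finset.range 4096, (SF m k N).card
        = Phi N m 0 + 759 * Phi N m 8 + 2576 * Phi N m 12 + 759 * Phi N m 16 + Phi N m 24 := by
      intro m hm
      rw [Finset.sum_congr rfl (fun k _ => card_SF m k N (Finset.mem_range.mp hm) hN)]
      exact sum_weights (fun w => Phi N m w)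
    rw [Finset.sum_congr rfl h2, Finset.sum_range_succ, Finset.sum_range_one]
    rfl
  · rintro ⟨m, k⟩ hp ⟨m', k'⟩ hq hpq
    obtain ⟨hm, hk⟩ := Finset.mem_product.mp hp
    obtain ⟨hm', hk'⟩ := Finset.mem_product.mp hq
    exact SF_disjoint (Finset.mem_range.mp hm) (Finset.mem_range.mp hm') (Finset.mem_range.mp hk)
      (Finset.mem_range.mp hk') hpq

set_option maxRecDepth 100000 in
theorem phiTot_32 : PhiTot 32 = 196560 := by decide +kernel

set_option maxRecDepth 100000 in
theorem phiTot_48 : PhiTot 48 = 16773120 := by decide +kernel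

set_option maxRecDepth 100000 in
theorem phiTot_64 : PhiTot 64 = 398034000 := by decide +kernel

theorem ncard_norm_32 :
    {x : GolayPt → ℤ | x ∈ leechLattice ∧ sqNorm x = 32}.ncard = 196560 := by
  have h := ncard_norm 32 (by norm_num)
  rw [phiTot_32] at h
  exact_mod_cast h

theorem ncard_norm_48 :
    {x : GolayPt → ℤ | x ∈ leechLattice ∧ sqNorm x = 48}.ncard = 16773120 := by
  have h := ncard_norm 48 (by norm_num)
  rw [phiTot_48] at h
  exact_mod_cast h

theorem ncard_norm_64 :
    {x : GolayPt → ℤ | x ∈ leechLattice ∧ sqNorm x = 64}.ncard = 398034000 := by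
  have h := ncard_norm 64 (by norm_num)
  rw [phiTot_64] at h
  exact_mod_cast h

end Cfsg.Agent.H93
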