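import Mathlib
import Cfsg.Prelude.Def_Sporadic_a
import Cfsg.Agent.S0358
import Cfsg.Agent.H93.Leech

/-!
The index of the rank-24 lattice `Cfsg.leechLattice` in the ambient group of integer vectors, and a
subgroup of it on which the square lengths are divisible by 32.
-/

set_option autoImplicit false

namespace Cfsg.Agent.H93

open Cfsg

/-- Reduction modulo 2 of integer vectors. -/
def red2 : (GolayPt → ℤ) →+ (GolayPt → ZMod 2) where
  toFun x := fun i => ((x i : ℤ) : ZMod 2)
  map_zero' := by funext i; simp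
  map_add' x y := by funext i; simp

theorem red2_apply (x : GolayPt → ℤ) (i : GolayPt) : red2 x i = ((x i : ℤ) : ZMod 2) := rfl

theorem red2_surjective : Function.Surjective red2 := by
  intro c
  refine ⟨fun i => ((c i).val : ℤ), ?_⟩
  funext i
  simp [red2_apply]

/-- Doubling of integer vectors. -/
def dbl : (GolayPt → ℤ) →+ (GolayPt → ℤ) where
  toFun x := fun i => 2 * x i
  map_zero' := by funext i; simp
  map_add' x y := by funext i; simp [mul_add]

theorem dbl_apply (x : GolayPt → ℤ) (i : GolayPt) : dbl x i = 2 * x i := rfl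

theorem dbl_injective : Function.Injective dbl := by
  intro x y h
  funext i
  have := congrFun h i
  simp only [dbl_apply] at this
  linarith

theorem dbl_range : dbl.range = red2.ker := by
  ext x
  simp only [AddMonoidHom.mem_range, AddMonoidHom.mem_ker]
  constructor
  · rintro ⟨y, rfl⟩
    funext i
    rw [red2_apply, dbl_apply]
    push_cast
    have : (2 : ZMod 2) = 0 := by decide
    rw [this, zero_mul]; rfl
  · intro h
    have h' : ∀ i, (2 : ℤ) ∣ x i := fun i => by
      have := congrFun h i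
      rw [red2_apply] at this
      exact (ZMod.intCast_zmod_eq_zero_iff_dvd _ _).mp this
    choose y hy using h'
    exact ⟨y, by funext i; rw [dbl_apply, hy i]⟩

theorem card_words : Nat.card (GolayPt → ZMod 2) = 2 ^ 24 := by
  rw [Nat.card_eq_fintype_card]
  simp

theorem dbl_range_index : dbl.range.index = 2 ^ 24 := by
  rw [dbl_range, AddSubgroup.index_ker, AddMonoidHom.range_eq_top.mpr red2_surjective,
    AddSubgroup.card_top, card_words]

/-- The vectors `2 y` with `y` modulo 2 in a given subgroup `D` of binary words. -/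
def FD (D : AddSubgroup (GolayPt → ZMod 2)) : AddSubgroup (GolayPt → ℤ) :=
  (D.comap red2).map dbl

theorem mem_FD {D : AddSubgroup (GolayPt → ZMod 2)} {x : GolayPt → ℤ} :
    x ∈ FD D ↔ ∃ y, red2 y ∈ D ∧ dbl y = x := by
  simp [FD, AddSubgroup.mem_map, AddSubgroup.mem_comap]

theorem FD_index (D : AddSubgroup (GolayPt → ZMod 2)) : (FD D).index * Nat.card D = 2 ^ 48 := by
  unfold FD
  rw [AddSubgroup.index_map_of_injective _ dbl_injective,
    AddSubgroup.index_comap_of_surjective _ red2_surjective, dbl_range_index]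
  have := AddSubgroup.index_mul_card D
  rw [card_words] at this
  calc D.index * 2 ^ 24 * Nat.card D = (D.index * Nat.card D) * 2 ^ 24 := by ring
    _ = 2 ^ 24 * 2 ^ 24 := by rw [this]
    _ = 2 ^ 48 := by norm_num

theorem sq_eq_self_add (z : ℤ) : ∃ u, z ^ 2 = z + 2 * u := by
  rcases Int.emod_two_eq_zero_or_one z with h | h
  · obtain ⟨k, hk⟩ : ∃ k, z = 2 * k := ⟨z / 2, by omega⟩
    exact ⟨2 * k ^ 2 - k, by rw [hk]; ring⟩
  · obtain ⟨k, hk⟩ : ∃ k, z = 2 * k + 1 := ⟨z / 2, by omega⟩
    exact ⟨2 * k ^ 2 + k, by rw [hk]; ring⟩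

theorem sum_sq_eq_sum_add (z : GolayPt → ℤ) : ∃ U, ∑ i, z i ^ 2 = ∑ i, z i + 2 * U := by
  choose u hu using fun i => sq_eq_self_add (z i)
  exact ⟨∑ i, u i, by
    rw [Finset.sum_congr rfl (fun i _ => hu i), Finset.sum_add_distrib, ← Finset.mul_sum]⟩

theorem red2_eq_wd (y : GolayPt → ℤ) : wd 0 (dbl y) = red2 y := by
  funext i
  simp only [wd, dbl_apply, red2_apply, sub_zero]
  rw [Int.mul_ediv_cancel_left _ (by norm_num : (2 : ℤ) ≠ 0)]

theorem sum_dbl (y : GolayPt → ℤ) : ∑ i, dbl y i = 2 * ∑ i, y i := by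
  simp only [dbl_apply]
  rw [Finset.mul_sum]

/-- For a word of the code, the sum of the coordinates of a lift is even. -/
theorem sum_even_of_code {y : GolayPt → ℤ} (hy : red2 y ∈ golayCode) : (2 : ℤ) ∣ ∑ i, y i := by
  obtain ⟨Z, hZ⟩ := sum_sq_mod_four y
  obtain ⟨w', hw'⟩ := Cfsg.Agent.H10.golay_card_dvd hy
  obtain ⟨U, hU⟩ := sum_sq_eq_sum_add y
  have h1 : (support₂ (fun i => ((y i : ℤ) : ZMod 2))).card = 4 * w' := hw'
  rw [h1] at hZ
  push_cast at hZ
  exact ⟨2 * w' + 2 * Z - U, by linarith⟩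

theorem FD_mem_leech_iff {D : AddSubgroup (GolayPt → ZMod 2)}
    (hD : D ≤ golayCode.toAddSubgroup) {x : GolayPt → ℤ} (hx : x ∈ FD D) :
    x ∈ leechLattice ↔ (8 : ℤ) ∣ ∑ i, x i := by
  obtain ⟨y, hy, rfl⟩ := mem_FD.mp hx
  have hyC : red2 y ∈ golayCode := hD hy
  constructor
  · intro h
    obtain ⟨m, hm, hp, hs, hc⟩ := isL_norm (mem_leechLattice_iff.mp h)
    rcases hm with rfl | rfl
    · exact (Int.modEq_zero_iff_dvd.mp (by simpa using hs))
    · exfalso
      obtain ⟨i⟩ : Nonempty GolayPt := ⟨none⟩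
      have := hp i
      rw [dbl_apply] at this
      unfold Int.ModEq at this
      omega
  · intro h
    refine mem_leechLattice_iff.mpr ⟨0, fun i => ?_, ?_, ?_⟩
    · rw [dbl_apply]
      unfold Int.ModEq
      omega
    · simpa using (Int.modEq_zero_iff_dvd.mpr h)
    · rw [red2_eq_wd]; exact hyC

theorem FD_sum_mod_four {D : AddSubgroup (GolayPt → ZMod 2)}
    (hD : D ≤ golayCode.toAddSubgroup) {x : GolayPt → ℤ} (hx : x ∈ FD D) :
    (4 : ℤ) ∣ ∑ i, x i := by
  obtain ⟨y, hy, rfl⟩ := mem_FD.mp hx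
  obtain ⟨t, ht⟩ := sum_even_of_code (hD hy)
  exact ⟨t, by rw [sum_dbl, ht]; ring⟩

/-- The vector `(4, 0, …, 0)`. -/
def vec4 : GolayPt → ℤ := fun i => if i = none then 4 else 0

theorem sum_vec4 : ∑ i, vec4 i = 4 := by
  simp [vec4]

theorem vec4_mem_FD (D : AddSubgroup (GolayPt → ZMod 2)) : vec4 ∈ FD D := by
  refine mem_FD.mpr ⟨fun i => if i = none then 2 else 0, ?_, ?_⟩
  · have : red2 (fun i => if i = none then 2 else 0) = 0 := by
      funext i
      rw [red2_apply]
      by_cases h : i = none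
      · simp only [h, if_true, Pi.zero_apply]; decide
      · simp only [h, if_false, Pi.zero_apply]; decide
    rw [this]; exact zero_mem _
  · funext i
    rw [dbl_apply]
    by_cases h : i = none
    · simp [vec4, h]
    · simp [vec4, h]

theorem leech_relIndex_FD {D : AddSubgroup (GolayPt → ZMod 2)}
    (hD : D ≤ golayCode.toAddSubgroup) : leechLattice.relIndex (FD D) = 2 := by
  rw [AddSubgroup.relIndex_eq_two_iff]
  refine ⟨vec4, vec4_mem_FD D, fun b hb => ?_⟩
  have hb4 := FD_sum_mod_four hD hb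
  rw [FD_mem_leech_iff hD hb, FD_mem_leech_iff hD (add_mem hb (vec4_mem_FD D))]
  have : ∑ i, (b + vec4) i = ∑ i, b i + 4 := by
    simp only [Pi.add_apply]
    rw [Finset.sum_add_distrib, sum_vec4]
  rw [this]
  unfold Xor
  omega

/-- The vector `(-3, 1, …, 1)`. -/
def vec3 : GolayPt → ℤ := fun i => if i = none then -3 else 1

theorem vec3_odd (i : GolayPt) : vec3 i % 2 = 1 := by
  unfold vec3
  by_cases h : i = none
  · simp [h]
  · simp [h]

theorem vec3_mem : vec3 ∈ leechLattice := by
  refine mem_leechLattice_iff.mpr ⟨1, fun i => ?_, ?_, ?_⟩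
  · have := vec3_odd i
    unfold Int.ModEq
    omega
  · have : ∑ i, vec3 i = 20 := by decide
    rw [this]; decide
  · have : wd 1 vec3 = 0 := by
      funext i
      simp only [wd, vec3]
      by_cases h : i = none
      · simp only [h, if_true, Pi.zero_apply]; decide
      · simp only [h, if_false, Pi.zero_apply]; decide
    rw [this]; exact zero_mem _

theorem FD_even {D : AddSubgroup (GolayPt → ZMod 2)} {x : GolayPt → ℤ} (hx : x ∈ FD D)
    (i : GolayPt) : x i % 2 = 0 := by
  obtain ⟨y, -, rfl⟩ := mem_FD.mp hx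
  rw [dbl_apply]; omega

theorem mem_FD_code_of_even {x : GolayPt → ℤ} (hx : x ∈ leechLattice) (i₀ : GolayPt)
    (he : x i₀ % 2 = 0) : x ∈ FD golayCode.toAddSubgroup := by
  obtain ⟨m, hm, hp, hs, hc⟩ := isL_norm (mem_leechLattice_iff.mp hx)
  rcases hm with rfl | rfl
  · obtain ⟨y, hy, hw⟩ := exists_half hp
    refine mem_FD.mpr ⟨y, ?_, ?_⟩
    · have : red2 y = wd 0 x := by rw [hw]; rfl
      rw [this]; exact hc
    · funext i
      rw [dbl_apply, hy i]; ring
  · exfalso
    have := hp i₀
    unfold Int.ModEq at this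
    omega

theorem FD_relIndex_leech : (FD golayCode.toAddSubgroup).relIndex leechLattice = 2 := by
  rw [AddSubgroup.relIndex_eq_two_iff]
  refine ⟨vec3, vec3_mem, fun b hb => ?_⟩
  have h3 := vec3_odd none
  by_cases he : b none % 2 = 0
  · have h1 : b ∈ FD golayCode.toAddSubgroup := mem_FD_code_of_even hb none he
    have h2 : b + vec3 ∉ FD golayCode.toAddSubgroup := by
      intro h
      have := FD_even h none
      rw [Pi.add_apply] at this
      omega
    exact Or.inr ⟨h1, h2⟩
  · have h1 : b ∉ FD golayCode.toAddSubgroup := fun h => he (FD_even h none)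
    have h2 : b + vec3 ∈ FD golayCode.toAddSubgroup := by
      apply mem_FD_code_of_even (add_mem hb vec3_mem) none
      rw [Pi.add_apply]
      omega
    exact Or.inl ⟨h2, h1⟩

theorem card_golayCode : Nat.card golayCode.toAddSubgroup = 2 ^ 12 := by
  have h := Module.natCard_eq_pow_finrank (K := ZMod 2) (V := golayCode)
  rw [Cfsg.Agent.S0358.result] at h
  have h2 : Nat.card (ZMod 2) = 2 := by simp
  rw [h2] at h
  exact h

theorem FD_code_index : (FD golayCode.toAddSubgroup).index = 2 ^ 36 := by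
  have h := FD_index golayCode.toAddSubgroup
  rw [card_golayCode] at h
  have : (2 : ℕ) ^ 48 = 2 ^ 36 * 2 ^ 12 := by norm_num
  rw [this] at h
  exact Nat.eq_of_mul_eq_mul_right (by norm_num) h

/-- The lattice has index `2 ^ 36` in the group of all integer vectors. -/
theorem leech_index : leechLattice.index = 2 ^ 36 := by
  have h1 := AddSubgroup.relIndex_mul_index
    (inf_le_left : leechLattice ⊓ FD golayCode.toAddSubgroup ≤ leechLattice)
  have h2 := AddSubgroup.relIndex_mul_index
    (inf_le_right : leechLattice ⊓ FD golayCode.toAddSubgroup ≤ FD golayCode.toAddSubgroup)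
  rw [AddSubgroup.inf_relIndex_left, FD_relIndex_leech] at h1
  rw [AddSubgroup.inf_relIndex_right, leech_relIndex_FD le_rfl, FD_code_index] at h2
  omega

/-- The two constant words. -/
def constWords : AddSubgroup (GolayPt → ZMod 2) := AddSubgroup.zmultiples 1

theorem constWords_le : constWords ≤ golayCode.toAddSubgroup := by
  unfold constWords
  rw [AddSubgroup.zmultiples_le]
  exact Cfsg.Agent.H10.one_mem_golayCode

theorem card_constWords : Nat.card constWords = 2 := by
  unfold constWords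
  rw [Nat.card_zmultiples]
  apply addOrderOf_eq_prime
  · funext i
    exact (by decide : (2 : ℕ) • (1 : ZMod 2) = 0)
  · intro h
    have := congrFun h none
    simp only [Pi.one_apply, Pi.zero_apply] at this
    exact absurd this (by decide)

/-- The subgroup of the lattice: even coordinates, all congruent modulo 4. -/
def leechA : AddSubgroup (GolayPt → ℤ) := leechLattice ⊓ FD constWords

theorem leechA_le : leechA ≤ leechLattice := inf_le_left

theorem two_smul_mem_leechA {v : GolayPt → ℤ} (hv : v ∈ leechLattice) : (2 : ℤ) • v ∈ leechA := by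
  refine ⟨zsmul_mem hv 2, mem_FD.mpr ⟨v, ?_, ?_⟩⟩
  · obtain ⟨m, hp, -, -⟩ := mem_leechLattice_iff.mp hv
    unfold constWords
    rw [AddSubgroup.mem_zmultiples_iff]
    refine ⟨m, ?_⟩
    funext i
    rw [red2_apply]
    simp only [Pi.smul_apply, Pi.one_apply, zsmul_eq_mul, mul_one]
    exact ((ZMod.intCast_eq_intCast_iff _ _ _).mpr (hp i)).symm
  · funext i
    rw [dbl_apply]
    simp

theorem FD_constWords_index : (FD constWords).index = 2 ^ 47 := by
  have h := FD_index constWords
  rw [card_constWords] at h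
  omega

theorem leechA_relIndex : leechA.relIndex leechLattice = 2 ^ 12 := by
  have h1 := AddSubgroup.relIndex_mul_index (inf_le_left : leechLattice ⊓ FD constWords ≤ leechLattice)
  have h2 := AddSubgroup.relIndex_mul_index
    (inf_le_right : leechLattice ⊓ FD constWords ≤ FD constWords)
  rw [AddSubgroup.inf_relIndex_right, leech_relIndex_FD constWords_le, FD_constWords_index] at h2
  rw [leech_index, ← h2] at h1
  have : (2 : ℕ) * 2 ^ 47 = 2 ^ 12 * 2 ^ 36 := by norm_num
  rw [this] at h1
  exact Nat.eq_of_mul_eq_mul_right (by norm_num) h1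

theorem leechA_sqNorm {v : GolayPt → ℤ} (hv : v ∈ leechA) : (32 : ℤ) ∣ sqNorm v := by
  obtain ⟨hvL, hvF⟩ := hv
  have h8 := (FD_mem_leech_iff constWords_le hvF).mp hvL
  obtain ⟨y, hy, rfl⟩ := mem_FD.mp hvF
  unfold constWords at hy
  rw [AddSubgroup.mem_zmultiples_iff] at hy
  obtain ⟨k, hk⟩ := hy
  have hp : ∀ i, y i ≡ k [ZMOD 2] := fun i => by
    have := congrFun hk i
    rw [red2_apply] at this
    simp only [Pi.smul_apply, Pi.one_apply, zsmul_eq_mul, mul_one] at this
    exact ((ZMod.intCast_eq_intCast_iff _ _ _).mp this).symm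
  obtain ⟨z, hz, -⟩ := exists_half hp
  obtain ⟨U, hU⟩ := sum_sq_eq_sum_add z
  have e1 : ∑ i, dbl y i = 2 * (24 * k + 2 * ∑ i, z i) := by
    rw [sum_dbl, Finset.sum_congr rfl (fun i _ => hz i), sum_expand]
  have e2 : sqNorm (dbl y) = 4 * (24 * k ^ 2 + 4 * k * ∑ i, z i + 4 * ∑ i, z i ^ 2) := by
    unfold sqNorm
    rw [← sum_sq_expand, Finset.mul_sum]
    apply Finset.sum_congr rfl
    intro i _
    rw [dbl_apply, hz i]; ring
  rw [e1] at h8
  obtain ⟨t, ht⟩ := h8
  obtain ⟨s, hs⟩ : ∃ s, ∑ i, z i = 2 * s := ⟨t - 6 * k, by linarith⟩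
  refine ⟨3 * k ^ 2 + k * s + s + U, ?_⟩
  rw [e2, hU, hs]
  ring

end Cfsg.Agent.H93
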