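import Mathlib
import Cfsg.Prelude.Def_Sporadic_a
import Cfsg.Agent.H93.LeechIndex
import Cfsg.Agent.H93.LeechCount

/-!
The classes of the rank-24 lattice `Cfsg.leechLattice` modulo twice the lattice: every class
contains a vector of square length at most 64, and the vectors of square length 64 in a class
number exactly 48.  The proof is the classical count
`1 + 196560 / 2 + 16773120 / 2 + 398034000 / 48 = 2 ^ 24`.
-/

set_option autoImplicit false

namespace Cfsg.Agent.H93

open Cfsg

theorem dbl_eq_smul (z : GolayPt → ℤ) : dbl z = (2 : ℕ) • z := by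
  funext i
  simp [dbl_apply]

/-- Twice the lattice. -/
def twoL : AddSubgroup (GolayPt → ℤ) := leechLattice.map dbl

theorem twoL_le : twoL ≤ leechLattice := by
  intro x hx
  obtain ⟨z, hz, rfl⟩ := AddSubgroup.mem_map.mp hx
  rw [dbl_eq_smul]
  exact nsmul_mem hz 2

theorem twoL_relIndex : twoL.relIndex leechLattice = 2 ^ 24 := by
  have h1 := AddSubgroup.relIndex_mul_index twoL_le
  have h2 : twoL.index = 2 ^ 36 * 2 ^ 24 := by
    unfold twoL
    rw [AddSubgroup.index_map_of_injective _ dbl_injective, leech_index, dbl_range_index]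
  rw [leech_index, h2] at h1
  have h3 : (2 : ℕ) ^ 36 * 2 ^ 24 = 2 ^ 24 * 2 ^ 36 := by norm_num
  rw [h3] at h1
  exact Nat.eq_of_mul_eq_mul_right (by norm_num) h1

/-- The class of a vector modulo twice the lattice. -/
def cl (x : GolayPt → ℤ) : (GolayPt → ℤ) ⧸ twoL := QuotientAddGroup.mk x

theorem cl_eq_iff {x y : GolayPt → ℤ} :
    cl x = cl y ↔ ∃ z ∈ leechLattice, x - y = (2 : ℕ) • z := by
  unfold cl
  rw [QuotientAddGroup.eq]
  constructor
  · intro h
    obtain ⟨z, hz, hzz⟩ := AddSubgroup.mem_map.mp h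
    refine ⟨-z, neg_mem hz, ?_⟩
    rw [smul_neg, ← dbl_eq_smul, hzz]; abel
  · rintro ⟨z, hz, h⟩
    refine AddSubgroup.mem_map.mpr ⟨-z, neg_mem hz, ?_⟩
    rw [map_neg, dbl_eq_smul, ← h]; abel

theorem card_classes :
    Nat.card (leechLattice.map (QuotientAddGroup.mk' twoL)) = 2 ^ 24 := by
  rw [← AddSubgroup.relIndex_ker, QuotientAddGroup.ker_mk', twoL_relIndex]

/-! ### Orthogonal families -/

/-- The real vector attached to an integer vector. -/
noncomputable def toEuc (v : GolayPt → ℤ) : EuclideanSpace ℝ GolayPt :=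
  WithLp.toLp 2 (fun i => (v i : ℝ))

theorem inner_toEuc (v w : GolayPt → ℤ) :
    inner ℝ (toEuc v) (toEuc w) = ((dotInt v w : ℤ) : ℝ) := by
  unfold toEuc dotInt
  simp [PiLp.inner_apply, mul_comm]

theorem toEuc_ne_zero {v : GolayPt → ℤ} (hv : v ≠ 0) : toEuc v ≠ 0 := by
  intro h
  apply hv
  funext i
  have := congrArg (fun u : EuclideanSpace ℝ GolayPt => u.ofLp i) h
  simp only [toEuc, PiLp.zero_apply] at this
  exact_mod_cast this

theorem card_le_of_orth (F : Finset (GolayPt → ℤ)) (h0 : ∀ v ∈ F, v ≠ 0)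
    (horth : ∀ v ∈ F, ∀ w ∈ F, v ≠ w → dotInt v w = 0) : F.card ≤ 24 := by
  have hli : LinearIndependent ℝ (fun v : F => toEuc v.1) := by
    apply linearIndependent_of_ne_zero_of_inner_eq_zero
    · intro v
      exact toEuc_ne_zero (h0 v.1 v.2)
    · intro v w hvw
      rw [inner_toEuc, horth v.1 v.2 w.1 w.2 (fun h => hvw (Subtype.ext h))]
      simp
  have h := hli.fintype_card_le_finrank
  rw [finrank_euclideanSpace, Fintype.card_coe] at h
  have h24 : Fintype.card GolayPt = 24 := card_golayPt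
  omega

open Classical in
theorem card_le_of_orth_or_neg (F : Finset (GolayPt → ℤ)) (h0 : ∀ v ∈ F, v ≠ 0)
    (h : ∀ v ∈ F, ∀ w ∈ F, w = v ∨ w = -v ∨ dotInt v w = 0) : F.card ≤ 48 := by
  obtain ⟨pr, hpr⟩ : ∃ pr : (GolayPt → ℤ) → Finset (GolayPt → ℤ), ∀ v, pr v = {v, -v} :=
    ⟨fun v => {v, -v}, fun _ => rfl⟩
  have h1 : F.card ≤ 2 * (F.image pr).card := by
    apply Finset.card_le_mul_card_image
    intro p hp
    obtain ⟨v, hv, rfl⟩ := Finset.mem_image.mp hp
    calc _ ≤ ({v, -v} : Finset (GolayPt → ℤ)).card := Finset.card_le_card (by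
            intro x hx
            obtain ⟨hxF, hxp⟩ := Finset.mem_filter.mp hx
            have h2 : x ∈ pr x := by rw [hpr]; simp
            rw [hxp, hpr] at h2
            exact h2)
      _ ≤ 2 := Finset.card_le_two
  have hrep : ∀ p ∈ F.image pr, ∃ v, v ∈ F ∧ pr v = p := fun p hp => by
    obtain ⟨v, hv, hvp⟩ := Finset.mem_image.mp hp
    exact ⟨v, hv, hvp⟩
  choose! r hrF hrp using hrep
  have hinj : Set.InjOn r (F.image pr : Finset _) := by
    intro p hp q hq hpq
    rw [← hrp p hp, ← hrp q hq, hpq]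
  have h2 : (F.image pr).card ≤ 24 := by
    have h3 : ((F.image pr).image r).card ≤ 24 := by
      apply card_le_of_orth
      · intro v hv
        obtain ⟨p, hp, rfl⟩ := Finset.mem_image.mp hv
        exact h0 _ (hrF p hp)
      · intro v hv w hw hvw
        obtain ⟨p, hp, rfl⟩ := Finset.mem_image.mp hv
        obtain ⟨q, hq, rfl⟩ := Finset.mem_image.mp hw
        rcases h (r p) (hrF p hp) (r q) (hrF q hq) with h' | h' | h'
        · exact absurd h'.symm hvw
        · exfalso
          apply hvw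
          have hpq : p = q := by
            rw [← hrp p hp, ← hrp q hq, hpr, hpr, h', neg_neg, Finset.pair_comm]
          rw [hpq]
        · exact h'
    rwa [Finset.card_image_of_injOn hinj] at h3
  omega

/-! ### Short vectors in a class -/

theorem congruent_64 {v w : GolayPt → ℤ} (_hv : v ∈ leechLattice) (hw : w ∈ leechLattice)
    (hvn : sqNorm v = 64) (hwn : sqNorm w = 64)
    (hc : ∃ z ∈ leechLattice, v - w = (2 : ℕ) • z) : w = v ∨ w = -v ∨ dotInt v w = 0 := by
  obtain ⟨z, hz, hvw⟩ := hc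
  have hz' : z + w ∈ leechLattice := add_mem hz hw
  have hvw' : v + w = (2 : ℕ) • (z + w) := by
    have : v = (2 : ℕ) • z + w := by rw [← hvw]; abel
    rw [this]; simp only [smul_add, two_smul]; abel
  have hpar := sqNorm_sub_add v w
  rw [hvw, hvw', sqNorm_two_smul, sqNorm_two_smul] at hpar
  by_cases h1 : z = 0
  · left
    have : v - w = 0 := by rw [hvw, h1]; simp
    exact (sub_eq_zero.mp this).symm
  · by_cases h2 : z + w = 0
    · right; left
      have : v + w = 0 := by rw [hvw', h2]; simp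
      rw [eq_neg_iff_add_eq_zero, add_comm]; exact this
    · right; right
      have m1 := min_sqNorm hz h1
      have m2 := min_sqNorm hz' h2
      have h3 := sqNorm_add v w
      rw [hvw', sqNorm_two_smul] at h3
      linarith

theorem VN_finite (N : ℕ) (hN : N ≤ 64) :
    {x : GolayPt → ℤ | x ∈ leechLattice ∧ sqNorm x = (N : ℤ)}.Finite := by
  apply Set.Finite.subset
    (Finset.finite_toSet (Fintype.piFinset (fun _ : GolayPt => Finset.Icc (-8 : ℤ) 8)))
  intro x hx
  have hx2 : sqNorm x = (N : ℤ) := hx.2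
  rw [Finset.mem_coe, Fintype.mem_piFinset]
  intro i
  rw [Finset.mem_Icc]
  exact coord_bound hN hx2 i

open Classical in
/-- The lattice vectors of square length `N`, as a finite set. -/
noncomputable def V (N : ℕ) : Finset (GolayPt → ℤ) :=
  if h : N ≤ 64 then (VN_finite N h).toFinset else ∅

theorem mem_V {N : ℕ} (hN : N ≤ 64) {x : GolayPt → ℤ} :
    x ∈ V N ↔ x ∈ leechLattice ∧ sqNorm x = (N : ℤ) := by
  simp [V, hN]

theorem card_V (N : ℕ) (hN : N ≤ 64) : (V N).card = PhiTot N := by
  rw [← ncard_norm N hN, Set.ncard_eq_toFinset_card _ (VN_finite N hN)]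
  simp [V, hN]

theorem V_zero : V 0 = {0} := by
  ext x
  rw [mem_V (by norm_num), Finset.mem_singleton]
  constructor
  · rintro ⟨hx, hn⟩
    by_contra h0
    have := min_sqNorm hx h0
    rw [hn] at this
    norm_num at this
  · rintro rfl
    exact ⟨zero_mem _, by simp [sqNorm]⟩

theorem card_V32 : (V 32).card = 196560 := (card_V 32 (by norm_num)).trans phiTot_32

theorem card_V48 : (V 48).card = 16773120 := (card_V 48 (by norm_num)).trans phiTot_48

theorem card_V64 : (V 64).card = 398034000 := (card_V 64 (by norm_num)).trans phiTot_64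

section Counting

open Classical

theorem fiber_small {N : ℕ} (hN : N < 64) (a : GolayPt → ℤ) (ha : a ∈ V N) :
    ((V N).filter (fun x => cl x = cl a)).card ≤ 2 := by
  have hN' : N ≤ 64 := hN.le
  obtain ⟨haL, han⟩ := (mem_V hN').mp ha
  calc _ ≤ ({a, -a} : Finset (GolayPt → ℤ)).card := Finset.card_le_card (by
          intro x hx
          obtain ⟨hxV, hxc⟩ := Finset.mem_filter.mp hx
          obtain ⟨hxL, hxn⟩ := (mem_V hN').mp hxV
          have hc := cl_eq_iff.mp hxc.symm
          have h1 : sqNorm a ≤ 64 := by rw [han]; exact_mod_cast hN'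
          have h2 : sqNorm x ≤ 64 := by rw [hxn]; exact_mod_cast hN'
          have h3 : sqNorm a < 64 := by rw [han]; exact_mod_cast hN
          have := (short_congruent haL hxL h1 h2 hc).2 h3
          simpa using this)
    _ ≤ 2 := Finset.card_le_two

theorem fiber_64 (a : GolayPt → ℤ) (_ha : a ∈ V 64) :
    ((V 64).filter (fun x => cl x = cl a)).card ≤ 48 := by
  apply card_le_of_orth_or_neg
  · intro v hv h0
    obtain ⟨hvV, -⟩ := Finset.mem_filter.mp hv
    obtain ⟨-, hvn⟩ := (mem_V le_rfl).mp hvV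
    rw [h0] at hvn
    simp [sqNorm] at hvn
  · intro v hv w hw
    obtain ⟨hvV, hvc⟩ := Finset.mem_filter.mp hv
    obtain ⟨hwV, hwc⟩ := Finset.mem_filter.mp hw
    obtain ⟨hvL, hvn⟩ := (mem_V le_rfl).mp hvV
    obtain ⟨hwL, hwn⟩ := (mem_V le_rfl).mp hwV
    exact congruent_64 hvL hwL (by rw [hvn]; norm_num) (by rw [hwn]; norm_num)
      (cl_eq_iff.mp (hvc.trans hwc.symm))

theorem image_subset (N : ℕ) (hN : N ≤ 64) :
    (((V N).image cl : Finset _) : Set ((GolayPt → ℤ) ⧸ twoL))
      ⊆ (leechLattice.map (QuotientAddGroup.mk' twoL) : Set ((GolayPt → ℤ) ⧸ twoL)) := by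
  intro q hq
  obtain ⟨x, hx, rfl⟩ := Finset.mem_image.mp (Finset.mem_coe.mp hq)
  exact AddSubgroup.mem_map_of_mem _ ((mem_V hN).mp hx).1

theorem image_disjoint {N N' : ℕ} (hN : N ≤ 64) (hN' : N' ≤ 64) (hne : N ≠ N') :
    Disjoint ((V N).image cl) ((V N').image cl) := by
  rw [Finset.disjoint_left]
  intro q hq hq'
  obtain ⟨x, hx, rfl⟩ := Finset.mem_image.mp hq
  obtain ⟨y, hy, hxy⟩ := Finset.mem_image.mp hq'
  obtain ⟨hxL, hxn⟩ := (mem_V hN).mp hx
  obtain ⟨hyL, hyn⟩ := (mem_V hN').mp hy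
  have h1 : sqNorm x ≤ 64 := by rw [hxn]; exact_mod_cast hN
  have h2 : sqNorm y ≤ 64 := by rw [hyn]; exact_mod_cast hN'
  have := (short_congruent hxL hyL h1 h2 (cl_eq_iff.mp hxy.symm)).1
  rw [hxn, hyn] at this
  exact hne (by exact_mod_cast this)

/-- The classes containing a vector of square length at most 64. -/
noncomputable def UU : Finset ((GolayPt → ℤ) ⧸ twoL) :=
  (V 0).image cl ∪ (V 32).image cl ∪ (V 48).image cl ∪ (V 64).image cl

theorem card_UU : UU.card = ((V 0).image cl).card + ((V 32).image cl).card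
    + ((V 48).image cl).card + ((V 64).image cl).card := by
  unfold UU
  rw [Finset.card_union_of_disjoint, Finset.card_union_of_disjoint, Finset.card_union_of_disjoint]
  · exact image_disjoint (by norm_num) (by norm_num) (by norm_num)
  · rw [Finset.disjoint_union_left]
    exact ⟨image_disjoint (by norm_num) (by norm_num) (by norm_num),
      image_disjoint (by norm_num) (by norm_num) (by norm_num)⟩
  · rw [Finset.disjoint_union_left, Finset.disjoint_union_left]
    exact ⟨⟨image_disjoint (by norm_num) (by norm_num) (by norm_num),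
      image_disjoint (by norm_num) (by norm_num) (by norm_num)⟩,
      image_disjoint (by norm_num) (by norm_num) (by norm_num)⟩

theorem UU_subset : ((UU : Finset _) : Set ((GolayPt → ℤ) ⧸ twoL))
    ⊆ (leechLattice.map (QuotientAddGroup.mk' twoL) : Set ((GolayPt → ℤ) ⧸ twoL)) := by
  unfold UU
  simp only [Finset.coe_union]
  intro q hq
  rcases hq with ((hq | hq) | hq) | hq
  · exact image_subset 0 (by norm_num) hq
  · exact image_subset 32 (by norm_num) hq
  · exact image_subset 48 (by norm_num) hq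
  · exact image_subset 64 (by norm_num) hq

theorem ncard_classes :
    (leechLattice.map (QuotientAddGroup.mk' twoL) : Set ((GolayPt → ℤ) ⧸ twoL)).ncard = 2 ^ 24 := by
  rw [← card_classes]
  exact (Nat.card_coe_set_eq _).symm

theorem classes_finite :
    (leechLattice.map (QuotientAddGroup.mk' twoL) : Set ((GolayPt → ℤ) ⧸ twoL)).Finite :=
  Set.finite_of_ncard_ne_zero (by rw [ncard_classes]; norm_num)

theorem key_counts : UU.card = 2 ^ 24 ∧ ((V 64).image cl).card = 8292375 := by
  have hU := card_UU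
  have hle : UU.card ≤ 2 ^ 24 := by
    rw [← ncard_classes, ← Set.ncard_coe_finset]
    exact Set.ncard_le_ncard UU_subset classes_finite
  have h0 : ((V 0).image cl).card = 1 := by rw [V_zero]; simp
  have h32 : (V 32).card ≤ 2 * ((V 32).image cl).card :=
    Finset.card_le_mul_card_image _ _ (fun b hb => by
      obtain ⟨a, ha, rfl⟩ := Finset.mem_image.mp hb
      exact fiber_small (by norm_num) a ha)
  have h48 : (V 48).card ≤ 2 * ((V 48).image cl).card :=
    Finset.card_le_mul_card_image _ _ (fun b hb => by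
      obtain ⟨a, ha, rfl⟩ := Finset.mem_image.mp hb
      exact fiber_small (by norm_num) a ha)
  have h64 : (V 64).card ≤ 48 * ((V 64).image cl).card :=
    Finset.card_le_mul_card_image _ _ (fun b hb => by
      obtain ⟨a, ha, rfl⟩ := Finset.mem_image.mp hb
      exact fiber_64 a ha)
  rw [card_V32] at h32
  rw [card_V48] at h48
  rw [card_V64] at h64
  constructor <;> omega

/-- Every class of the lattice modulo twice the lattice contains a vector of square length at
most 64. -/
theorem exists_short {x : GolayPt → ℤ} (hx : x ∈ leechLattice) :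
    ∃ y ∈ leechLattice, sqNorm y ≤ 64 ∧ ∃ z ∈ leechLattice, x - y = (2 : ℕ) • z := by
  have hUM : ((UU : Finset _) : Set ((GolayPt → ℤ) ⧸ twoL))
      = (leechLattice.map (QuotientAddGroup.mk' twoL) : Set ((GolayPt → ℤ) ⧸ twoL)) :=
    Set.eq_of_subset_of_ncard_le UU_subset
      (by rw [ncard_classes, Set.ncard_coe_finset, key_counts.1]) classes_finite
  have hmem : cl x ∈ ((UU : Finset _) : Set ((GolayPt → ℤ) ⧸ twoL)) := by
    rw [hUM]; exact AddSubgroup.mem_map_of_mem _ hx
  unfold UU at hmem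
  simp only [Finset.coe_union, Set.mem_union, Finset.mem_coe, Finset.mem_image] at hmem
  rcases hmem with ((⟨y, hy, hxy⟩ | ⟨y, hy, hxy⟩) | ⟨y, hy, hxy⟩) | ⟨y, hy, hxy⟩
  · obtain ⟨hyL, hyn⟩ := (mem_V (by norm_num)).mp hy
    exact ⟨y, hyL, by rw [hyn]; norm_num, cl_eq_iff.mp hxy.symm⟩
  · obtain ⟨hyL, hyn⟩ := (mem_V (by norm_num)).mp hy
    exact ⟨y, hyL, by rw [hyn]; norm_num, cl_eq_iff.mp hxy.symm⟩
  · obtain ⟨hyL, hyn⟩ := (mem_V (by norm_num)).mp hy
    exact ⟨y, hyL, by rw [hyn]; norm_num, cl_eq_iff.mp hxy.symm⟩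
  · obtain ⟨hyL, hyn⟩ := (mem_V (by norm_num)).mp hy
    exact ⟨y, hyL, by rw [hyn]; norm_num, cl_eq_iff.mp hxy.symm⟩

/-- The vectors of square length 64 in the class of a given one number 48. -/
theorem cross_ncard {x : GolayPt → ℤ} (hx : x ∈ leechLattice) (hxn : sqNorm x = 64) :
    {y : GolayPt → ℤ | y ∈ leechLattice ∧ sqNorm y = sqNorm x ∧
      ∃ z ∈ leechLattice, x - y = (2 : ℕ) • z}.ncard = 48 := by
  have hxV : x ∈ V 64 := (mem_V le_rfl).mpr ⟨hx, by rw [hxn]; norm_num⟩
  have hset : {y : GolayPt → ℤ | y ∈ leechLattice ∧ sqNorm y = sqNorm x ∧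
      ∃ z ∈ leechLattice, x - y = (2 : ℕ) • z}
      = ↑((V 64).filter (fun y => cl y = cl x)) := by
    ext y
    rw [Set.mem_ofPred_eq, Finset.mem_coe, Finset.mem_filter, mem_V le_rfl, hxn]
    constructor
    · rintro ⟨hy, hyn, hc⟩
      exact ⟨⟨hy, by rw [hyn]; norm_num⟩, (cl_eq_iff.mpr hc).symm⟩
    · rintro ⟨⟨hy, hyn⟩, hc⟩
      exact ⟨hy, by rw [hyn]; norm_num, cl_eq_iff.mp hc.symm⟩
  rw [hset, Set.ncard_coe_finset]
  have hle := fiber_64 x hxV
  by_contra hne
  have hlt : ((V 64).filter (fun y => cl y = cl x)).card < 48 := lt_of_le_of_ne hle hne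
  have hsum := Finset.card_eq_sum_card_image cl (V 64)
  have hlt2 : ∑ b ∈ (V 64).image cl, ((V 64).filter (fun a => cl a = b)).card
      < ∑ _b ∈ (V 64).image cl, 48 := by
    apply Finset.sum_lt_sum
    · intro b hb
      obtain ⟨a, ha, rfl⟩ := Finset.mem_image.mp hb
      exact fiber_64 a ha
    · exact ⟨cl x, Finset.mem_image_of_mem _ hxV, hlt⟩
  rw [← hsum, card_V64, Finset.sum_const, key_counts.2] at hlt2
  norm_num at hlt2

end Counting

end Cfsg.Agent.H93
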