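import Mathlib
import Cfsg.Prelude.Def_Sporadic_a
import Cfsg.Agent.H93.LeechIndex

/-!
The rank-24 lattice `Cfsg.leechLattice` is generated by its vectors of square length 32.
-/

set_option autoImplicit false

namespace Cfsg.Agent.H93

open Cfsg

/-- The subgroup generated by the vectors of square length 32. -/
def minGen : AddSubgroup (GolayPt → ℤ) :=
  AddSubgroup.closure {x : GolayPt → ℤ | x ∈ leechLattice ∧ sqNorm x = 32}

theorem minGen_le : minGen ≤ leechLattice :=
  (AddSubgroup.closure_le _).mpr (fun _ hx => hx.1)

theorem mem_minGen_of {x : GolayPt → ℤ} (hx : x ∈ leechLattice) (hn : sqNorm x = 32) :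
    x ∈ minGen := AddSubgroup.subset_closure ⟨hx, hn⟩

/-- The vectors with two nonzero coordinates `±4`. -/
def dvec (i : GolayPt) (a : ℤ) (j : GolayPt) (b : ℤ) : GolayPt → ℤ :=
  fun l => (if l = i then a else 0) + (if l = j then b else 0)

theorem dvec_mem {i j : GolayPt} (_hij : i ≠ j) {a b : ℤ} (ha : a = 4 ∨ a = -4)
    (hb : b = 4 ∨ b = -4) : dvec i a j b ∈ leechLattice := by
  refine mem_leechLattice_iff.mpr ⟨0, fun l => ?_, ?_, ?_⟩
  · unfold dvec Int.ModEq
    split_ifs <;> rcases ha with rfl | rfl <;> rcases hb with rfl | rfl <;> norm_num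
  · unfold dvec
    rw [Finset.sum_add_distrib, Finset.sum_ite_eq', Finset.sum_ite_eq']
    simp only [Finset.mem_univ, if_true]
    unfold Int.ModEq
    rcases ha with rfl | rfl <;> rcases hb with rfl | rfl <;> norm_num
  · have : wd 0 (dvec i a j b) = 0 := by
      funext l
      unfold wd dvec
      rw [Pi.zero_apply, ZMod.intCast_zmod_eq_zero_iff_dvd]
      split_ifs <;> rcases ha with rfl | rfl <;> rcases hb with rfl | rfl <;> norm_num
    rw [this]; exact zero_mem _

theorem dvec_sqNorm {i j : GolayPt} (hij : i ≠ j) {a b : ℤ} (ha : a = 4 ∨ a = -4)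
    (hb : b = 4 ∨ b = -4) : sqNorm (dvec i a j b) = 32 := by
  unfold sqNorm dvec
  have h : ∀ l, ((if l = i then a else 0) + (if l = j then b else 0)) ^ 2
      = (if l = i then a ^ 2 else 0) + (if l = j then b ^ 2 else 0) := by
    intro l
    by_cases h1 : l = i
    · simp [h1, hij]
    · by_cases h2 : l = j
      · have h3 : ¬ j = i := fun h => hij h.symm
        subst h2
        simp [h3]
      · simp [h1, h2]
  rw [Finset.sum_congr rfl (fun l _ => h l), Finset.sum_add_distrib, Finset.sum_ite_eq',
    Finset.sum_ite_eq']
  simp only [Finset.mem_univ, if_true]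
  rcases ha with rfl | rfl <;> rcases hb with rfl | rfl <;> norm_num

theorem dvec_mem_minGen {i j : GolayPt} (hij : i ≠ j) {a b : ℤ} (ha : a = 4 ∨ a = -4)
    (hb : b = 4 ∨ b = -4) : dvec i a j b ∈ minGen :=
  mem_minGen_of (dvec_mem hij ha hb) (dvec_sqNorm hij ha hb)

/-- The vector `8 e_∞`. -/
theorem eight_mem_minGen : (fun l : GolayPt => if l = none then (8 : ℤ) else 0) ∈ minGen := by
  have h1 : dvec none 4 (some 0) 4 ∈ minGen :=
    dvec_mem_minGen (by simp) (Or.inl rfl) (Or.inl rfl)
  have h2 : dvec none 4 (some 0) (-4) ∈ minGen :=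
    dvec_mem_minGen (by simp) (Or.inl rfl) (Or.inr rfl)
  have e : (fun l : GolayPt => if l = none then (8 : ℤ) else 0)
      = dvec none 4 (some 0) 4 + dvec none 4 (some 0) (-4) := by
    funext l
    simp only [dvec, Pi.add_apply]
    split_ifs <;> norm_num
  rw [e]; exact add_mem h1 h2

/-- The odd vector of square length 32 attached to a word `w`: `±1` off the extra point, `±3`
at the extra point. -/
def vcode (w : GolayPt → ZMod 2) : GolayPt → ℤ :=
  fun i => if i = none then (if w i = 0 then -3 else 3) else (if w i = 0 then 1 else -1)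

theorem vcode_eq (w : GolayPt → ZMod 2) (i : GolayPt) :
    vcode w i = 1 - 2 * (if w i ≠ 0 then 1 else 0)
      - (if i = none then 4 * (1 - 2 * (if w none ≠ 0 then 1 else 0)) else 0) := by
  unfold vcode
  by_cases h1 : i = none
  · subst h1
    by_cases h2 : w none = 0
    · simp [h2]
    · simp [h2]
  · by_cases h2 : w i = 0
    · simp [h1, h2]
    · simp [h1, h2]

theorem vcode_mem {w : GolayPt → ZMod 2} (hw : w ∈ golayCode) : vcode w ∈ leechLattice := by
  refine mem_leechLattice_iff.mpr ⟨1, fun i => ?_, ?_, ?_⟩
  · unfold vcode Int.ModEq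
    split_ifs <;> norm_num
  · obtain ⟨w', hw'⟩ := Cfsg.Agent.H10.golay_card_dvd hw
    have hsum : ∑ i, vcode w i = 24 - 2 * ((support₂ w).card : ℤ)
        - 4 * (1 - 2 * (if w none ≠ 0 then 1 else 0)) := by
      rw [Finset.sum_congr rfl (fun i _ => vcode_eq w i), Finset.sum_sub_distrib,
        Finset.sum_sub_distrib, Finset.sum_ite_eq', ← Finset.mul_sum, Finset.sum_boole]
      simp [support₂]
    rw [hsum, hw']
    unfold Int.ModEq
    push_cast
    split_ifs <;> omega
  · have : wd 1 (vcode w) = w := by
      funext i
      unfold wd vcode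
      have hcases : w i = 0 ∨ w i = 1 := by
        generalize w i = a
        revert a; decide
      by_cases h1 : i = none
      · rcases hcases with h | h
        · simp only [h1, if_true] at h ⊢
          rw [if_pos h, h]; decide
        · have h' : ¬ w i = 0 := by rw [h]; decide
          simp only [h1, if_true] at h h' ⊢
          rw [if_neg h', h]; decide
      · rcases hcases with h | h
        · simp only [h1, if_false]
          rw [if_pos h, h]; decide
        · have h' : ¬ w i = 0 := by rw [h]; decide
          simp only [h1, if_false]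
          rw [if_neg h', h]; decide
    rw [this]; exact hw

theorem vcode_sqNorm (w : GolayPt → ZMod 2) : sqNorm (vcode w) = 32 := by
  unfold sqNorm
  have h : ∀ i, vcode w i ^ 2 = 1 + (if i = none then 8 else 0) := by
    intro i
    unfold vcode
    split_ifs <;> norm_num
  rw [Finset.sum_congr rfl (fun i _ => h i), Finset.sum_add_distrib, Finset.sum_ite_eq']
  simp

/-- Twice the `0/1` lift of a word. -/
def twoW (w : GolayPt → ZMod 2) : GolayPt → ℤ := fun i => if w i = 0 then 0 else 2

theorem twoW_mem_minGen {w : GolayPt → ZMod 2} (hw : w ∈ golayCode) : twoW w ∈ minGen := by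
  have h0 : vcode 0 ∈ minGen := mem_minGen_of (vcode_mem (zero_mem _)) (vcode_sqNorm 0)
  have h1 : vcode w ∈ minGen := mem_minGen_of (vcode_mem hw) (vcode_sqNorm w)
  by_cases hn : w none = 0
  · have e : twoW w = vcode 0 - vcode w := by
      funext i
      simp only [twoW, vcode, Pi.sub_apply, Pi.zero_apply]
      by_cases h1 : i = none
      · subst h1; simp [hn]
      · by_cases h2 : w i = 0
        · simp [h1, h2]
        · simp [h1, h2]
    rw [e]; exact sub_mem h0 h1
  · have e : twoW w = vcode 0 - vcode w + (fun l : GolayPt => if l = none then (8 : ℤ) else 0) := by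
      funext i
      simp only [twoW, vcode, Pi.sub_apply, Pi.add_apply, Pi.zero_apply]
      by_cases h1 : i = none
      · subst h1; simp [hn]
      · by_cases h2 : w i = 0
        · simp [h1, h2]
        · simp [h1, h2]
    rw [e]; exact add_mem (sub_mem h0 h1) eight_mem_minGen

/-- Lattice vectors with all coordinates divisible by 4 are generated by short vectors. -/
theorem four_mem_minGen {y : GolayPt → ℤ} (hy : y ∈ leechLattice) (h4 : ∀ i, y i % 4 = 0) :
    y ∈ minGen := by
  obtain ⟨m, hp, hs, -⟩ := mem_leechLattice_iff.mp hy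
  have hw : ∀ i, ∃ a, y i = 4 * a := fun i => ⟨y i / 4, by have := h4 i; omega⟩
  choose w hw using hw
  have hsum : ∑ i, y i = 4 * ∑ i, w i := by
    rw [Finset.sum_congr rfl (fun i _ => hw i), Finset.mul_sum]
  have hm : m % 2 = 0 := by
    have h1 := hp none
    have h2 := h4 none
    unfold Int.ModEq at h1
    omega
  obtain ⟨t, ht⟩ : ∃ t, ∑ i, w i = 2 * t := by
    unfold Int.ModEq at hs
    rw [hsum] at hs
    exact ⟨(∑ i, w i) / 2, by omega⟩
  -- the generators
  have hd : ∀ i : GolayPt, dvec i 4 none (-4) ∈ minGen := by
    intro i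
    by_cases hi : i = none
    · have : dvec i 4 none (-4) = 0 := by
        funext l
        simp only [dvec, hi, Pi.zero_apply]
        split_ifs <;> norm_num
      rw [this]; exact zero_mem _
    · exact dvec_mem_minGen hi (Or.inl rfl) (Or.inr rfl)
  have e : y = ∑ i, w i • dvec i 4 none (-4)
      + t • (fun l : GolayPt => if l = none then (8 : ℤ) else 0) := by
    funext j
    simp only [Pi.add_apply, Finset.sum_apply, Pi.smul_apply, dvec, smul_eq_mul]
    have h1 : ∑ i, w i * ((if j = i then 4 else 0) + (if j = none then -4 else 0))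
        = 4 * w j + (if j = none then -4 else 0) * ∑ i, w i := by
      have : ∀ i, w i * ((if j = i then (4 : ℤ) else 0) + (if j = none then -4 else 0))
          = (if j = i then 4 * w i else 0) + (if j = none then -4 else 0) * w i := by
        intro i
        split_ifs <;> ring
      rw [Finset.sum_congr rfl (fun i _ => this i), Finset.sum_add_distrib, Finset.sum_ite_eq,
        ← Finset.mul_sum]
      simp
    rw [h1, ht, hw j]
    split_ifs <;> ring
  rw [e]
  exact add_mem (AddSubgroup.sum_mem _ (fun i _ => zsmul_mem (hd i) _))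
    (zsmul_mem eight_mem_minGen _)

/-- Lattice vectors with even coordinates are generated by short vectors. -/
theorem even_mem_minGen {x : GolayPt → ℤ} (hx : x ∈ leechLattice) (h2 : ∀ i, x i % 2 = 0) :
    x ∈ minGen := by
  obtain ⟨m, hm, hp, hs, hc⟩ := isL_norm (mem_leechLattice_iff.mp hx)
  rcases hm with rfl | rfl
  · have hw := twoW_mem_minGen hc
    have hy : x - twoW (wd 0 x) ∈ leechLattice := sub_mem hx (minGen_le hw)
    have h4 : ∀ i, (x - twoW (wd 0 x)) i % 4 = 0 := by
      intro i
      have h1 := wd_ne_zero_iff 0 x i (hp i)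
      have h3 := h2 i
      unfold Int.ModEq at h1
      simp only [Pi.sub_apply, twoW]
      by_cases h : wd 0 x i = 0
      · rw [if_pos h]
        have := h1.not.mp (not_not.mpr h)
        omega
      · rw [if_neg h]
        have := h1.mp h
        omega
    have := add_mem (four_mem_minGen hy h4) hw
    rwa [sub_add_cancel] at this
  · exfalso
    have h1 := hp none
    have h3 := h2 none
    unfold Int.ModEq at h1
    omega

/-- The lattice is generated by its vectors of square length 32. -/
theorem minGen_eq : minGen = leechLattice := by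
  apply le_antisymm minGen_le
  intro x hx
  by_cases h2 : ∀ i, x i % 2 = 0
  · exact even_mem_minGen hx h2
  · have hv : vcode 0 ∈ minGen := mem_minGen_of (vcode_mem (zero_mem _)) (vcode_sqNorm 0)
    have hy : x - vcode 0 ∈ leechLattice := sub_mem hx (minGen_le hv)
    have he : ∀ i, (x - vcode 0) i % 2 = 0 := by
      obtain ⟨m, hp, -, -⟩ := mem_leechLattice_iff.mp hx
      have hodd : m % 2 = 1 := by
        by_contra hm
        apply h2
        intro i
        have := hp i
        unfold Int.ModEq at this
        omega
      intro i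
      have h1 := hp i
      unfold Int.ModEq at h1
      simp only [Pi.sub_apply, vcode, Pi.zero_apply]
      split_ifs <;> omega
    have := add_mem (even_mem_minGen hy he) hv
    rwa [sub_add_cancel] at this

end Cfsg.Agent.H93
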