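import Mathlib
import Cfsg.Prelude.Def_Sporadic_a
import Cfsg.Prelude.Def_SporadicCombinatorics
import Cfsg.Agent.S0364
import Cfsg.Agent.H9.Golay2
import Cfsg.Agent.H93.Co0Center
import Cfsg.Agent.H93.LeechGen

/-!
The stabiliser of the standard cross in the automorphism group of the rank-24 lattice is the
monomial group of the code.
-/

set_option autoImplicit false

namespace Cfsg.Agent.H93

open Cfsg

/-- The structure of an automorphism mapping the standard cross into itself. -/
theorem cross_structure (z : Equiv.Perm leechLattice) (hz : z ∈ Co0)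
    (hcr : ∀ v : leechLattice, (v : GolayPt → ℤ) ∈ stdCross →
      ((z v : leechLattice) : GolayPt → ℤ) ∈ stdCross) :
    ∃ σ ∈ M24, ∃ c ∈ supports (golayCode : Set (GolayPt → ZMod 2)),
      ∀ v : leechLattice, ((z v : leechLattice) : GolayPt → ℤ)
        = signedPerm σ c (v : GolayPt → ℤ) := by
  classical
  obtain ⟨B, hB⟩ : ∃ B : GolayPt → leechLattice, ∀ i, ((B i : leechLattice) : GolayPt → ℤ) = bvec i :=
    ⟨fun i => ⟨bvec i, bvec_mem i⟩, fun _ => rfl⟩
  have h1 : ∀ i, ∃ j s, (s = 8 ∨ s = -8) ∧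
      ((z (B i) : leechLattice) : GolayPt → ℤ) = Pi.single j s := by
    intro i
    exact hcr (B i) (by rw [hB]; exact ⟨i, 8, Or.inl rfl, rfl⟩)
  choose π u hu hπ using h1
  have hinj : Function.Injective π := by
    intro i j hij
    by_contra hne
    have h2 := dot_preserved hz (B i) (B j)
    rw [hπ i, hπ j, hB, hB, hij] at h2
    unfold bvec at h2
    rw [dotInt_bvec, dotInt_bvec, Pi.single_eq_same, Pi.single_eq_of_ne (Ne.symm hne)] at h2
    rcases hu i with h | h <;> rcases hu j with h' | h' <;> rw [h, h'] at h2 <;> norm_num at h2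
  obtain ⟨σ, hσ⟩ : ∃ σ : Equiv.Perm GolayPt, ∀ i, σ i = π i :=
    ⟨Equiv.ofBijective π (Finite.injective_iff_bijective.mp hinj), fun _ => rfl⟩
  have hdot : ∀ (v : leechLattice) (i : GolayPt),
      ((z v : leechLattice) : GolayPt → ℤ) (π i) * u i = (v : GolayPt → ℤ) i * 8 := by
    intro v i
    have h2 := dot_preserved hz v (B i)
    rw [hπ i, dotInt_bvec, hB] at h2
    unfold bvec at h2
    rw [dotInt_bvec] at h2
    exact h2
  obtain ⟨c, hc⟩ : ∃ c : Finset GolayPt, ∀ j, j ∈ c ↔ u (σ.symm j) = -8 :=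
    ⟨Finset.univ.filter (fun j => u (σ.symm j) = -8), fun j => by simp⟩
  have hform : ∀ v : leechLattice, ((z v : leechLattice) : GolayPt → ℤ)
      = signedPerm σ c (v : GolayPt → ℤ) := by
    intro v
    funext j
    have h2 := hdot v (σ.symm j)
    rw [← hσ, Equiv.apply_symm_apply] at h2
    unfold signedPerm
    by_cases hj : j ∈ c
    · rw [if_pos hj]
      rw [(hc j).mp hj] at h2
      omega
    · rw [if_neg hj]
      have h3 : u (σ.symm j) = 8 := by
        rcases hu (σ.symm j) with h | h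
        · exact h
        · exact absurd ((hc j).mpr h) hj
      rw [h3] at h2
      omega
  have hcC : c ∈ supports (golayCode : Set (GolayPt → ZMod 2)) := by
    obtain ⟨T, hT⟩ : ∃ T : leechLattice, (T : GolayPt → ℤ) = vcode 0 :=
      ⟨⟨vcode 0, vcode_mem (zero_mem _)⟩, rfl⟩
    have hy : ((z T : leechLattice) : GolayPt → ℤ) ∈ leechLattice := (z T).2
    rw [hform T, hT] at hy
    obtain ⟨m, hm, hp, -, hcode⟩ := isL_norm (mem_leechLattice_iff.mp hy)
    have hval : ∀ j, signedPerm σ c (vcode 0) j % 4 = if j ∈ c then 3 else 1 := by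
      intro j
      unfold signedPerm vcode
      simp only [Pi.zero_apply, if_true]
      split_ifs <;> norm_num
    have hm1 : m = 1 := by
      rcases hm with rfl | rfl
      · exfalso
        have h2 := hp none
        have h3 := hval none
        unfold Int.ModEq at h2
        split_ifs at h3 <;> omega
      · rfl
    subst hm1
    refine ⟨wd 1 (signedPerm σ c (vcode 0)), hcode, ?_⟩
    ext j
    rw [mem_support₂_iff, wd_ne_zero_iff 1 _ j (hp j)]
    have h3 := hval j
    unfold Int.ModEq
    by_cases hj : j ∈ c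
    · rw [if_pos hj] at h3
      constructor
      · intro _; exact hj
      · intro _; omega
    · rw [if_neg hj] at h3
      constructor
      · intro h; omega
      · intro h; exact absurd h hj
  have hσM : σ ∈ M24 := by
    rw [Cfsg.Agent.H9.mem_M24_iff]
    rintro s ⟨w, hw, rfl⟩
    obtain ⟨T, hT⟩ : ∃ T : leechLattice, (T : GolayPt → ℤ) = twoW w :=
      ⟨⟨twoW w, minGen_le (twoW_mem_minGen hw)⟩, rfl⟩
    have hy : ((z T : leechLattice) : GolayPt → ℤ) ∈ leechLattice := (z T).2
    rw [hform T, hT] at hy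
    obtain ⟨m, hm, hp, -, hcode⟩ := isL_norm (mem_leechLattice_iff.mp hy)
    have hval : ∀ j, signedPerm σ c (twoW w) j % 4 = if w (σ.symm j) = 0 then 0 else 2 := by
      intro j
      unfold signedPerm twoW
      split_ifs <;> norm_num
    have hm0 : m = 0 := by
      rcases hm with rfl | rfl
      · rfl
      · exfalso
        have h2 := hp none
        have h3 := hval none
        unfold Int.ModEq at h2
        split_ifs at h3 <;> omega
    subst hm0
    refine ⟨wd 0 (signedPerm σ c (twoW w)), hcode, ?_⟩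
    ext j
    rw [mem_support₂_iff, wd_ne_zero_iff 0 _ j (hp j), ← Finset.inv_smul_mem_iff,
      mem_support₂_iff]
    have h3 := hval j
    have h4 : σ⁻¹ • j = σ.symm j := rfl
    rw [h4]
    unfold Int.ModEq
    by_cases hw0 : w (σ.symm j) = 0
    · rw [if_pos hw0] at h3
      constructor
      · intro h; omega
      · intro h; exact absurd hw0 h
    · rw [if_neg hw0] at h3
      constructor
      · intro _; exact hw0
      · intro _; omega
  exact ⟨σ, hσM, c, hcC, hform⟩

/-! ### The monomial elements -/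

/-- The monomial automorphism attached to a permutation in the group of the code and the
support of a code word. -/
def monoPerm (σ : Equiv.Perm GolayPt) (hσ : σ ∈ M24) (c : Finset GolayPt)
    (hc : c ∈ supports (golayCode : Set (GolayPt → ZMod 2))) : Equiv.Perm leechLattice :=
  sgPerm c hc * pmPerm σ⁻¹ (inv_mem hσ)

theorem monoPerm_mem (σ : Equiv.Perm GolayPt) (hσ : σ ∈ M24) (c : Finset GolayPt)
    (hc : c ∈ supports (golayCode : Set (GolayPt → ZMod 2))) : monoPerm σ hσ c hc ∈ Co0 :=
  mul_mem (sgPerm_mem c hc) (pmPerm_mem _ _)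

theorem monoPerm_apply (σ : Equiv.Perm GolayPt) (hσ : σ ∈ M24) (c : Finset GolayPt)
    (hc : c ∈ supports (golayCode : Set (GolayPt → ZMod 2))) (v : leechLattice) :
    ((monoPerm σ hσ c hc v : leechLattice) : GolayPt → ℤ) = signedPerm σ c (v : GolayPt → ℤ) :=
  rfl

theorem signedPerm_single (σ : Equiv.Perm GolayPt) (c : Finset GolayPt) (i : GolayPt) (s : ℤ) :
    signedPerm σ c (Pi.single i s) = Pi.single (σ i) (if σ i ∈ c then -s else s) := by
  funext j
  unfold signedPerm
  by_cases hj : j = σ i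
  · subst hj; simp
  · have h2 : σ.symm j ≠ i := fun h => hj (by rw [← h]; simp)
    simp [Pi.single_eq_of_ne hj, Pi.single_eq_of_ne h2]

theorem monoPerm_cross (σ : Equiv.Perm GolayPt) (hσ : σ ∈ M24) (c : Finset GolayPt)
    (hc : c ∈ supports (golayCode : Set (GolayPt → ZMod 2))) (v : leechLattice)
    (hv : (v : GolayPt → ℤ) ∈ stdCross) :
    ((monoPerm σ hσ c hc v : leechLattice) : GolayPt → ℤ) ∈ stdCross := by
  obtain ⟨i, s, hs, hv'⟩ := hv
  rw [monoPerm_apply, hv', signedPerm_single]
  refine ⟨σ i, _, ?_, rfl⟩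
  split_ifs <;> rcases hs with rfl | rfl <;> simp

theorem monoPerm_injective {σ σ' : Equiv.Perm GolayPt} {hσ : σ ∈ M24} {hσ' : σ' ∈ M24}
    {c c' : Finset GolayPt} {hc : c ∈ supports (golayCode : Set (GolayPt → ZMod 2))}
    {hc' : c' ∈ supports (golayCode : Set (GolayPt → ZMod 2))}
    (h : monoPerm σ hσ c hc = monoPerm σ' hσ' c' hc') : σ = σ' ∧ c = c' := by
  have hB : ∀ i, (Pi.single (σ i) (if σ i ∈ c then (-8 : ℤ) else 8) : GolayPt → ℤ)
      = (Pi.single (σ' i) (if σ' i ∈ c' then (-8 : ℤ) else 8) : GolayPt → ℤ) := by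
    intro i
    have h1 := congrArg (fun f : Equiv.Perm leechLattice =>
      ((f ⟨bvec i, bvec_mem i⟩ : leechLattice) : GolayPt → ℤ)) h
    simp only [monoPerm_apply] at h1
    unfold bvec at h1
    rw [signedPerm_single, signedPerm_single] at h1
    exact h1
  have hσσ : σ = σ' := by
    apply Equiv.ext
    intro i
    by_contra hne
    have h1 := congrFun (hB i) (σ i)
    rw [Pi.single_eq_same, Pi.single_eq_of_ne hne] at h1
    split_ifs at h1 <;> norm_num at h1
  subst hσσ
  refine ⟨rfl, ?_⟩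
  ext j
  have h1 := congrFun (hB (σ.symm j)) j
  simp only [Equiv.apply_symm_apply, Pi.single_eq_same] at h1
  by_cases h2 : j ∈ c <;> by_cases h3 : j ∈ c' <;> simp [h2, h3] at h1 ⊢

theorem support₂_injective : Function.Injective (support₂ : (GolayPt → ZMod 2) → Finset GolayPt) := by
  intro v w h
  funext p
  have h2 : p ∈ support₂ v ↔ p ∈ support₂ w := by rw [h]
  rw [mem_support₂_iff, mem_support₂_iff] at h2
  exact zmod2_eq_of_ne_zero_iff _ _ h2

theorem supports_card :
    Nat.card (supports (golayCode : Set (GolayPt → ZMod 2))) = 4096 := by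
  rw [Nat.card_coe_set_eq]
  unfold supports
  rw [Set.ncard_image_of_injective _ support₂_injective,
    Cfsg.Agent.H9.golayCode_ncard]

/-- The stabiliser of the standard cross has order `4096 * 244823040`. -/
theorem cross_stab_card :
    Nat.card {g : ↥Co0 // ∀ v : ↥leechLattice, (v : GolayPt → ℤ) ∈ stdCross →
      ((g • v : ↥leechLattice) : GolayPt → ℤ) ∈ stdCross} = 4096 * 244823040 := by
  obtain ⟨Ψ, hΨ⟩ : ∃ Ψ : ↥M24 × ↥(supports (golayCode : Set (GolayPt → ZMod 2))) →
      {g : ↥Co0 // ∀ v : ↥leechLattice, (v : GolayPt → ℤ) ∈ stdCross →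
        ((g • v : ↥leechLattice) : GolayPt → ℤ) ∈ stdCross},
      ∀ p, ((Ψ p).1 : Equiv.Perm leechLattice) = monoPerm p.1.1 p.1.2 p.2.1 p.2.2 :=
    ⟨fun p => ⟨⟨monoPerm p.1.1 p.1.2 p.2.1 p.2.2, monoPerm_mem _ _ _ _⟩,
      fun v hv => monoPerm_cross p.1.1 p.1.2 p.2.1 p.2.2 v hv⟩, fun _ => rfl⟩
  have hbij : Function.Bijective Ψ := by
    constructor
    · intro p q hpq
      have h1 : monoPerm p.1.1 p.1.2 p.2.1 p.2.2 = monoPerm q.1.1 q.1.2 q.2.1 q.2.2 := by
        rw [← hΨ p, ← hΨ q, hpq]
      obtain ⟨h2, h3⟩ := monoPerm_injective h1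
      exact Prod.ext (Subtype.ext h2) (Subtype.ext h3)
    · rintro ⟨g, hg⟩
      obtain ⟨σ, hσ, c, hc, hform⟩ := cross_structure g.1 g.2 hg
      refine ⟨(⟨σ, hσ⟩, ⟨c, hc⟩), ?_⟩
      apply Subtype.ext
      apply Subtype.ext
      rw [hΨ]
      apply Equiv.ext
      intro v
      apply Subtype.ext
      rw [monoPerm_apply]
      exact (hform v).symm
  rw [← Nat.card_congr (Equiv.ofBijective Ψ hbij), Nat.card_prod, Cfsg.Agent.S0364.result,
    supports_card]

/-- Every automorphism mapping the standard cross into itself is monomial. -/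
theorem cross_stab_monomial (g : ↥Co0)
    (hg : ∀ v : ↥leechLattice, (v : GolayPt → ℤ) ∈ stdCross →
      ((g • v : ↥leechLattice) : GolayPt → ℤ) ∈ stdCross) :
    ∃ f ∈ golayMonomialMaps, ∀ v : ↥leechLattice,
      ((g • v : ↥leechLattice) : GolayPt → ℤ) = f (v : GolayPt → ℤ) := by
  obtain ⟨σ, hσ, c, hc, hform⟩ := cross_structure g.1 g.2 hg
  exact ⟨signedPerm σ c, ⟨σ, hσ, c, hc, rfl⟩, hform⟩

end Cfsg.Agent.H93
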