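import Mathlib
import Cfsg.Prelude.Def_Sporadic_a
import Cfsg.Prelude.Def_SporadicCombinatorics
import Cfsg.Agent.H93.CrossStab
import Cfsg.Agent.H93.LeechClasses

/-!
The order of the automorphism group of the rank-24 lattice, from transitivity on the vectors
of square length 64 (as a hypothesis), the count of classes modulo twice the lattice, and the
order of the stabiliser of the standard cross.
-/

set_option autoImplicit false

namespace Cfsg.Agent.H93

open Cfsg

/-- The base vector `8 e_∞` as a lattice element. -/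
def E0 : leechLattice := ⟨bvec none, bvec_mem none⟩

theorem co0_map_sub {g : Equiv.Perm leechLattice} (hg : g ∈ Co0) (v w : leechLattice) :
    g (v - w) = g v - g w := by
  have h := hg.1 (v - w) w
  rw [sub_add_cancel] at h
  rw [h]; abel

theorem co0_map_two {g : Equiv.Perm leechLattice} (hg : g ∈ Co0) (z : leechLattice) :
    g ((2 : ℕ) • z) = (2 : ℕ) • g z := by
  rw [two_nsmul, two_nsmul, hg.1]

theorem cl_map_of {g : Equiv.Perm leechLattice} (hg : g ∈ Co0) {v w : leechLattice}
    (h : cl (v : GolayPt → ℤ) = cl (w : GolayPt → ℤ)) :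
    cl ((g v : leechLattice) : GolayPt → ℤ) = cl ((g w : leechLattice) : GolayPt → ℤ) := by
  obtain ⟨z, hz, hzz⟩ := cl_eq_iff.mp h
  refine cl_eq_iff.mpr ⟨((g ⟨z, hz⟩ : leechLattice) : GolayPt → ℤ), (g ⟨z, hz⟩).2, ?_⟩
  have h1 : v - w = (2 : ℕ) • (⟨z, hz⟩ : leechLattice) := Subtype.ext hzz
  have h2 := co0_map_sub hg v w
  rw [h1, co0_map_two hg] at h2
  have h3 := congrArg (Subtype.val) h2
  exact h3.symm

theorem cl_map_iff {g : Equiv.Perm leechLattice} (hg : g ∈ Co0) {v w : leechLattice} :
    cl ((g v : leechLattice) : GolayPt → ℤ) = cl ((g w : leechLattice) : GolayPt → ℤ)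
      ↔ cl (v : GolayPt → ℤ) = cl (w : GolayPt → ℤ) := by
  constructor
  · intro h
    have h1 := cl_map_of (Co0.inv_mem hg) h
    simpa using h1
  · exact cl_map_of hg

/-- The stabiliser of the class of the base vector modulo twice the lattice. -/
def crossStab : Subgroup ↥Co0 where
  carrier := {g | cl (((g : Equiv.Perm leechLattice) E0 : leechLattice) : GolayPt → ℤ)
    = cl (E0 : GolayPt → ℤ)}
  one_mem' := rfl
  mul_mem' := by
    intro a b ha hb
    show cl (((a : Equiv.Perm leechLattice) ((b : Equiv.Perm leechLattice) E0) : leechLattice)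
      : GolayPt → ℤ) = _
    rw [cl_map_of a.2 hb]
    exact ha
  inv_mem' := by
    intro a ha
    apply (cl_map_iff a.2).mp
    show cl (((a : Equiv.Perm leechLattice) ((a : Equiv.Perm leechLattice)⁻¹ E0) : leechLattice)
      : GolayPt → ℤ) = _
    have h0 : (a : Equiv.Perm leechLattice) ((a : Equiv.Perm leechLattice)⁻¹ E0) = E0 := by simp
    rw [h0]
    exact ha.symm

theorem mem_crossStab {g : ↥Co0} : g ∈ crossStab ↔
    cl (((g : Equiv.Perm leechLattice) E0 : leechLattice) : GolayPt → ℤ)
      = cl (E0 : GolayPt → ℤ) := Iff.rfl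

theorem sqNorm_bvec (i : GolayPt) : sqNorm (bvec i) = 64 := by
  unfold bvec
  rw [sqNorm_single]; norm_num

theorem stdCross_subset : stdCross ⊆ {y : GolayPt → ℤ | y ∈ leechLattice ∧
    sqNorm y = sqNorm (bvec none) ∧ ∃ z ∈ leechLattice, bvec none - y = (2 : ℕ) • z} := by
  rintro y ⟨j, s, hs, rfl⟩
  have hmem : (Pi.single j s : GolayPt → ℤ) ∈ leechLattice := by
    rcases hs with rfl | rfl
    · exact bvec_mem j
    · have : (Pi.single j (-8) : GolayPt → ℤ) = -bvec j := by
        unfold bvec; rw [← Pi.single_neg]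
      rw [this]; exact neg_mem (bvec_mem j)
  refine ⟨hmem, ?_, ?_⟩
  · rw [sqNorm_bvec, sqNorm_single]
    rcases hs with rfl | rfl <;> norm_num
  · by_cases hj : j = none
    · subst hj
      rcases hs with rfl | rfl
      · exact ⟨0, zero_mem _, by unfold bvec; simp⟩
      · refine ⟨bvec none, bvec_mem none, ?_⟩
        unfold bvec
        funext l
        by_cases hl : l = none
        · subst hl; simp
        · simp [Pi.single_eq_of_ne hl]
    · have hj' : (none : GolayPt) ≠ j := fun h => hj h.symm
      rcases hs with rfl | rfl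
      · refine ⟨dvec none 4 j (-4), dvec_mem hj' (Or.inl rfl) (Or.inr rfl), ?_⟩
        unfold bvec dvec
        funext l
        by_cases hl : l = none
        · subst hl; simp [hj']
        · by_cases hl2 : l = j
          · subst hl2; simp [hl]
          · simp [hl, hl2]
      · refine ⟨dvec none 4 j 4, dvec_mem hj' (Or.inl rfl) (Or.inl rfl), ?_⟩
        unfold bvec dvec
        funext l
        by_cases hl : l = none
        · subst hl; simp [hj']
        · by_cases hl2 : l = j
          · subst hl2; simp [hl]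
          · simp [hl, hl2]

theorem stdCross_ncard : stdCross.ncard = 48 := by
  have h1 : stdCross = Set.range (fun p : GolayPt × Bool =>
      (Pi.single p.1 (if p.2 then 8 else -8) : GolayPt → ℤ)) := by
    ext y
    constructor
    · rintro ⟨j, s, hs, rfl⟩
      rcases hs with rfl | rfl
      · exact ⟨(j, true), by simp⟩
      · exact ⟨(j, false), by simp⟩
    · rintro ⟨⟨j, b⟩, rfl⟩
      cases b
      · exact ⟨j, -8, Or.inr rfl, by simp⟩
      · exact ⟨j, 8, Or.inl rfl, by simp⟩
  have hinj : Function.Injective (fun p : GolayPt × Bool =>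
      (Pi.single p.1 (if p.2 then 8 else -8) : GolayPt → ℤ)) := by
    rintro ⟨i, b⟩ ⟨j, c⟩ h
    have hij : i = j := by
      by_contra hne
      have h2 := congrFun h i
      simp only [Pi.single_eq_same, Pi.single_eq_of_ne hne] at h2
      cases b <;> simp at h2
    subst hij
    have h2 := congrFun h i
    simp only [Pi.single_eq_same] at h2
    cases b <;> cases c <;> simp at h2 <;> rfl
  rw [h1, ← Set.image_univ, Set.ncard_image_of_injective _ hinj, Set.ncard_univ, Nat.card_prod,
    Nat.card_eq_fintype_card, card_golayPt, Nat.card_eq_fintype_card, Fintype.card_bool]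

theorem stdCross_eq : stdCross = {y : GolayPt → ℤ | y ∈ leechLattice ∧
    sqNorm y = sqNorm (bvec none) ∧ ∃ z ∈ leechLattice, bvec none - y = (2 : ℕ) • z} := by
  have hn := cross_ncard (bvec_mem none) (sqNorm_bvec none)
  refine Set.eq_of_subset_of_ncard_le stdCross_subset (by rw [hn, stdCross_ncard]) ?_
  apply Set.finite_of_ncard_ne_zero
  rw [hn]; norm_num

theorem mem_stdCross_iff {y : GolayPt → ℤ} (hy : y ∈ leechLattice) :
    y ∈ stdCross ↔ sqNorm y = 64 ∧ cl y = cl (E0 : GolayPt → ℤ) := by
  rw [stdCross_eq, Set.mem_ofPred_eq, sqNorm_bvec]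
  constructor
  · rintro ⟨-, hn, hz⟩
    exact ⟨hn, (cl_eq_iff.mpr hz).symm⟩
  · rintro ⟨hn, hc⟩
    exact ⟨hy, hn, cl_eq_iff.mp hc.symm⟩

theorem E0_mem_stdCross : (E0 : GolayPt → ℤ) ∈ stdCross := ⟨none, 8, Or.inl rfl, rfl⟩

theorem mem_crossStab_iff (g : ↥Co0) : g ∈ crossStab ↔
    ∀ v : ↥leechLattice, (v : GolayPt → ℤ) ∈ stdCross →
      ((g • v : ↥leechLattice) : GolayPt → ℤ) ∈ stdCross := by
  rw [mem_crossStab]
  constructor
  · intro hg v hv
    obtain ⟨hn, hc⟩ := (mem_stdCross_iff v.2).mp hv
    have h1 : ((g • v : ↥leechLattice) : GolayPt → ℤ)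
        = (((g : Equiv.Perm leechLattice) v : leechLattice) : GolayPt → ℤ) := rfl
    rw [h1]
    refine (mem_stdCross_iff ((g : Equiv.Perm leechLattice) v).2).mpr ⟨?_, ?_⟩
    · rw [g.2.2 v]; exact hn
    · have h2 : cl (((g : Equiv.Perm leechLattice) v : leechLattice) : GolayPt → ℤ)
          = cl (((g : Equiv.Perm leechLattice) E0 : leechLattice) : GolayPt → ℤ) :=
        cl_map_of g.2 hc
      rw [h2]; exact hg
  · intro h
    exact ((mem_stdCross_iff ((g : Equiv.Perm leechLattice) E0).2).mp (h E0 E0_mem_stdCross)).2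

theorem card_crossStab : Nat.card crossStab = 4096 * 244823040 := by
  rw [← cross_stab_card]
  exact Nat.card_congr (Equiv.subtypeEquivRight mem_crossStab_iff)

/-- The cosets of the stabiliser of the standard cross correspond to the classes of vectors of
square length 64, given transitivity on these classes. -/
theorem card_quot_crossStab
    (htr : ∀ w : leechLattice, sqNorm (w : GolayPt → ℤ) = 64 → ∃ g : ↥Co0,
      cl (((g : Equiv.Perm leechLattice) E0 : leechLattice) : GolayPt → ℤ)
        = cl (w : GolayPt → ℤ)) :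
    Nat.card (↥Co0 ⧸ crossStab) = 8292375 := by
  classical
  obtain ⟨φ, hφdef⟩ : ∃ φ : ↥Co0 → (GolayPt → ℤ) ⧸ twoL, ∀ g : ↥Co0,
      φ g = cl (((g : Equiv.Perm leechLattice) E0 : leechLattice) : GolayPt → ℤ) :=
    ⟨fun g => cl (((g : Equiv.Perm leechLattice) E0 : leechLattice) : GolayPt → ℤ), fun _ => rfl⟩
  have hφ : ∀ a b : ↥Co0, φ a = φ b ↔ a⁻¹ * b ∈ crossStab := by
    intro a b
    rw [hφdef, hφdef, mem_crossStab]
    have h1 : (((a⁻¹ * b : ↥Co0) : Equiv.Perm leechLattice) E0 : leechLattice)
        = (a : Equiv.Perm leechLattice)⁻¹ ((b : Equiv.Perm leechLattice) E0) := rfl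
    have h0 : (a : Equiv.Perm leechLattice) ((a : Equiv.Perm leechLattice)⁻¹
        ((b : Equiv.Perm leechLattice) E0)) = (b : Equiv.Perm leechLattice) E0 := by simp
    rw [h1, ← cl_map_iff a.2 (v := (a : Equiv.Perm leechLattice)⁻¹ ((b : Equiv.Perm leechLattice) E0)),
      h0]
    exact eq_comm
  obtain ⟨f, hf⟩ : ∃ f : ↥Co0 ⧸ crossStab → (GolayPt → ℤ) ⧸ twoL,
      ∀ g : ↥Co0, f (g : ↥Co0 ⧸ crossStab) = φ g :=
    ⟨Quotient.lift φ (fun a b hab => (hφ a b).mpr (QuotientGroup.leftRel_apply.mp hab)),
      fun _ => rfl⟩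
  have hinj : Function.Injective f := by
    intro x y
    induction x using QuotientGroup.induction_on with
    | _ a =>
      induction y using QuotientGroup.induction_on with
      | _ b =>
        intro h
        rw [hf, hf] at h
        exact QuotientGroup.eq.mpr ((hφ a b).mp h)
  have hrange : Set.range f = ↑((V 64).image cl) := by
    ext c
    constructor
    · rintro ⟨x, rfl⟩
      induction x using QuotientGroup.induction_on with
      | _ a =>
        rw [hf, hφdef, Finset.mem_coe]
        apply Finset.mem_image_of_mem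
        rw [mem_V le_rfl]
        refine ⟨((a : Equiv.Perm leechLattice) E0).2, ?_⟩
        rw [a.2.2 E0]
        exact_mod_cast sqNorm_bvec none
    · intro hc
      obtain ⟨w, hw, rfl⟩ := Finset.mem_image.mp (Finset.mem_coe.mp hc)
      obtain ⟨hwL, hwn⟩ := (mem_V le_rfl).mp hw
      obtain ⟨g, hg⟩ := htr ⟨w, hwL⟩ (by exact_mod_cast hwn)
      exact ⟨(g : ↥Co0 ⧸ crossStab), by rw [hf, hφdef]; exact hg⟩
  rw [Nat.card_congr (Equiv.ofInjective f hinj), hrange, Nat.card_coe_set_eq,
    Set.ncard_coe_finset, key_counts.2]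

/-- The order of the automorphism group of the lattice, given transitivity on the classes of
vectors of square length 64 modulo twice the lattice. -/
theorem co0_card_of_trans_cl
    (htr : ∀ w : leechLattice, sqNorm (w : GolayPt → ℤ) = 64 → ∃ g : ↥Co0,
      cl (((g : Equiv.Perm leechLattice) E0 : leechLattice) : GolayPt → ℤ)
        = cl (w : GolayPt → ℤ)) :
    Nat.card Co0 = 8315553613086720000 := by
  rw [Subgroup.card_eq_card_quotient_mul_card_subgroup crossStab, card_quot_crossStab htr,
    card_crossStab]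

/-- The order of the automorphism group of the lattice, given transitivity on the vectors of
square length 64. -/
theorem co0_card_of_trans
    (htr : ∀ w : leechLattice, sqNorm (w : GolayPt → ℤ) = 64 → ∃ g : ↥Co0,
      (((g : Equiv.Perm leechLattice) E0 : leechLattice) : GolayPt → ℤ) = (w : GolayPt → ℤ)) :
    Nat.card Co0 = 8315553613086720000 := by
  apply co0_card_of_trans_cl
  intro w hw
  obtain ⟨g, hg⟩ := htr w hw
  exact ⟨g, by rw [hg]⟩

end Cfsg.Agent.H93
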