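import Mathlib
import Cfsg.Agent.H69.Ord7920N
import Cfsg.Agent.H26.Ord7920F
import Cfsg.Agent.H56.Ord7920TT

set_option autoImplicit false

namespace Cfsg.Agent.H93.PG

open Subgroup

theorem pow_eleven_of_mem {G : Type*} [Group G] [Finite G] (P : Subgroup G)
    (hP : Nat.card P = 11) (p : G) (hp : p ∈ P) : p ^ 11 = 1 := by
  have h := pow_card_eq_one' (G := P) (x := ⟨p, hp⟩)
  rw [hP] at h
  exact congrArg Subtype.val h

/-- every hom to `ℤˣ` is trivial on the normal closure of a subgroup of order 11 -/
theorem hom_trivial_normalClosure {G : Type*} [Group G] [Finite G] (P : Subgroup G)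
    (hP : Nat.card P = 11) (f : G →* ℤˣ) (x : G) (hx : x ∈ normalClosure (P : Set G)) :
    f x = 1 := by
  have hle : normalClosure (P : Set G) ≤ f.ker := by
    apply normalClosure_le_normal
    intro p hp
    rw [SetLike.mem_coe, MonoidHom.mem_ker]
    have h11 : p ^ 11 = 1 := pow_eleven_of_mem P hP p hp
    have h1 : f p ^ 11 = 1 := by rw [← map_pow, h11, map_one]
    have h2 : f p ^ 2 = 1 := Int.units_sq (f p)
    calc f p = f p ^ 11 * ((f p ^ 2) ^ 5)⁻¹ := by group
      _ = 1 := by rw [h1, h2]; simp
  exact MonoidHom.mem_ker.mp (hle hx)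

/-- the normal closure of a subgroup of order 11 has no subgroup of relative index 2 -/
theorem no_relIndex_two {G : Type*} [Group G] [Finite G] (P : Subgroup G)
    (hP : Nat.card P = 11) (M' : Subgroup G) (_hle : M' ≤ normalClosure (P : Set G))
    (h2 : M'.relIndex (normalClosure (P : Set G)) = 2) : False := by
  have key : ∀ x ∈ normalClosure (P : Set G), x ^ 11 = 1 → x ∈ M' := by
    intro x hx h11
    have hsq := Subgroup.mul_self_mem_of_index_two (H := M'.subgroupOf (normalClosure (P : Set G)))
      h2 ⟨x, hx⟩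
    rw [mem_subgroupOf] at hsq
    have hxx : x * x ∈ M' := hsq
    have hx' : (x * x) ^ 6 = x := by
      rw [← pow_two, ← pow_mul]
      calc x ^ (2 * 6) = x ^ 11 * x := by rw [← pow_succ]
        _ = x := by rw [h11, one_mul]
    rw [← hx']
    exact M'.pow_mem hxx 6
  have hMle : normalClosure (P : Set G) ≤ M' := by
    rw [normalClosure, closure_le]
    intro y hy
    have hyM : y ∈ normalClosure (P : Set G) := conjugatesOfSet_subset_normalClosure hy
    rw [Group.mem_conjugatesOfSet_iff] at hy
    obtain ⟨p, hp, hconj⟩ := hy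
    obtain ⟨c, hc⟩ := isConj_iff.mp hconj
    apply key y hyM
    rw [← hc, conj_pow, pow_eleven_of_mem P hP p hp]
    simp
  have h1 : M'.relIndex (normalClosure (P : Set G)) = 1 := relIndex_eq_one.mpr hMle
  omega

/-- Burnside applied to a Sylow 2-subgroup of the normal closure -/
theorem npc_two {G : Type*} [Group G] [Finite G] (P : Subgroup G) (hP : Nat.card P = 11)
    (k : ℕ) (hk1 : 1 ≤ k)
    (hM : Nat.card (normalClosure (P : Set G)) = 495 * 2 ^ k)
    (S : Subgroup G) (hSM : S ≤ normalClosure (P : Set G)) (hS : Nat.card S = 2 ^ k)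
    (hNC : normalClosure (P : Set G) ⊓ normalizer (S : Set G) ≤ centralizer (S : Set G)) :
    False := by
  have : Fact (Nat.Prime 2) := ⟨Nat.prime_two⟩
  have hpos : 0 < 2 ^ k := by positivity
  obtain ⟨K, hKn, hKM, hKcard, hKodd⟩ :=
    Cfsg.Agent.H69.Ord7920.exists_normal_compl (normalClosure (P : Set G)) 2 S hSM
      (IsPGroup.of_card hS) (by rw [hM, hS, Nat.mul_div_cancel _ hpos]; norm_num) hNC
  have hPK : (P : Set G) ⊆ K := by
    intro p hp
    apply hKodd p (subset_normalClosure hp)
    have h11 : orderOf p ∣ 11 := orderOf_dvd_of_pow_eq_one (pow_eleven_of_mem P hP p hp)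
    exact Nat.Coprime.coprime_dvd_left h11 (by norm_num)
  have hMK : normalClosure (P : Set G) ≤ K := normalClosure_le_normal hPK
  have hKeq : K = normalClosure (P : Set G) := le_antisymm hKM hMK
  rw [hKeq, hM, hS] at hKcard
  have h2k : 2 ≤ 2 ^ k := by
    calc 2 = 2 ^ 1 := by norm_num
      _ ≤ 2 ^ k := Nat.pow_le_pow_right (by norm_num) hk1
  nlinarith

/-- B45C -/
theorem b45_core {G : Type*} [Group G] [Finite G]
    (hfaith : ∀ g : G, (∀ Q : Sylow 11 G, g • Q = Q) → g = 1)
    (h45 : Nat.card (Sylow 11 G) = 45) (P : Sylow 11 G) (hP11 : Nat.card P = 11)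
    (k : ℕ) (hk1 : 1 ≤ k) (hk3 : k ≤ 3)
    (hM : Nat.card (normalClosure (((P : Subgroup G) : Set G))) = 495 * 2 ^ k)
    (S : Subgroup G) (hSM : S ≤ normalClosure (((P : Subgroup G) : Set G)))
    (hSP : S ≤ normalizer ((P : Subgroup G) : Set G)) (hS : Nat.card S = 2 ^ k)
    (hT : (S ⊓ centralizer ((P : Subgroup G) : Set G)).relIndex S = 2) : False := by
  have : Fact (Nat.Prime 2) := ⟨Nat.prime_two⟩
  have : Fact (Nat.Prime 11) := ⟨by norm_num⟩
  have hP11' : Nat.card (P : Subgroup G) = 11 := hP11
  have hfix : ∀ x ∈ S ⊓ centralizer ((P : Subgroup G) : Set G), orderOf x = 2 →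
      ∀ Q : Sylow 11 G, x • Q = Q → Q = P := fun x hx hx2 =>
    Cfsg.Agent.H26.Ord7920.fix_eq_of_involution hfaith h45 P hP11 x hx2 hx.2
      (fun f => hom_trivial_normalClosure (P : Subgroup G) hP11' f x (hSM hx.1))
  have hk : k = 1 ∨ k = 2 ∨ k = 3 := by omega
  rcases hk with rfl | rfl | rfl
  · -- k = 1
    have hS' : Nat.card S = 2 := by simpa using hS
    have h := Cfsg.Agent.H69.Ord7920.card_inf_normalizer_dvd 2 S hS'
      (normalClosure (((P : Subgroup G) : Set G)))
    have hle : normalClosure (((P : Subgroup G) : Set G)) ⊓ centralizer (S : Set G) ≤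
        normalClosure (((P : Subgroup G) : Set G)) ⊓ normalizer (S : Set G) :=
      inf_le_inf_left _ (centralizer_le_normalizer _)
    have heq := Subgroup.eq_of_le_of_card_ge hle
      (Nat.le_of_dvd Nat.card_pos (by simpa using h))
    exact npc_two (P : Subgroup G) hP11' 1 le_rfl hM S hSM hS (by rw [← heq]; exact inf_le_right)
  · -- k = 2
    have hTcard : Nat.card (S ⊓ centralizer ((P : Subgroup G) : Set G) : Subgroup G) = 2 := by
      have h := relIndex_mul_relIndex (⊥ : Subgroup G)
        (S ⊓ centralizer ((P : Subgroup G) : Set G)) S bot_le inf_le_left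
      rw [relIndex_bot_left, relIndex_bot_left, hT, hS] at h
      omega
    obtain ⟨x, hx⟩ := exists_prime_orderOf_dvd_card' (G := (S ⊓ centralizer ((P : Subgroup G) : Set G) : Subgroup G)) 2 (by rw [hTcard])
    have hx2 : orderOf (x : G) = 2 := by rwa [Subgroup.orderOf_coe]
    have hxfix := hfix x x.2 hx2
    have hxS : (x : G) ∈ S := x.2.1
    -- B := M ⊓ N(S) ≤ N(P)
    have hBP : normalClosure (((P : Subgroup G) : Set G)) ⊓ normalizer (S : Set G) ≤
        normalizer ((P : Subgroup G) : Set G) := by
      intro g hg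
      have hy : g * x * g⁻¹ ∈ S := (mem_normalizer_iff.mp hg.2 x).mp hxS
      have hyP : (g * (x : G) * g⁻¹) • P = P := Sylow.smul_eq_iff_mem_normalizer.mpr (hSP hy)
      have hx' : (x : G) • (g⁻¹ • P) = g⁻¹ • P := by
        have h := congrArg (fun Q : Sylow 11 G => g⁻¹ • Q) hyP
        simpa [smul_smul, mul_assoc] using h
      have h1 := hxfix _ hx'
      have h2 := Sylow.smul_eq_iff_mem_normalizer.mp h1
      exact inv_mem_iff.mp h2
    have hPM : (P : Subgroup G) ≤ normalClosure (((P : Subgroup G) : Set G)) :=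
      subset_normalClosure
    have hL : Nat.card (normalClosure (((P : Subgroup G) : Set G)) ⊓
        normalizer ((P : Subgroup G) : Set G) : Subgroup G) = 44 := by
      have h := Cfsg.Agent.H69.Ord7920.card_normal_eq_sylow_card_mul 11
        (normalClosure (((P : Subgroup G) : Set G))) P hPM
      rw [hM, h45] at h
      omega
    have hSB : S ≤ normalClosure (((P : Subgroup G) : Set G)) ⊓ normalizer (S : Set G) :=
      le_inf hSM le_normalizer
    have hBL : normalClosure (((P : Subgroup G) : Set G)) ⊓ normalizer (S : Set G) ≤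
        normalClosure (((P : Subgroup G) : Set G)) ⊓ normalizer ((P : Subgroup G) : Set G) :=
      le_inf inf_le_left hBP
    have h4 : 4 ∣ Nat.card (normalClosure (((P : Subgroup G) : Set G)) ⊓
        normalizer (S : Set G) : Subgroup G) := by
      have h := card_dvd_of_le hSB
      rw [hS] at h
      simpa using h
    have h44 : Nat.card (normalClosure (((P : Subgroup G) : Set G)) ⊓
        normalizer (S : Set G) : Subgroup G) ∣ 44 := by
      rw [← hL]
      exact card_dvd_of_le hBL
    have hB : Nat.card (normalClosure (((P : Subgroup G) : Set G)) ⊓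
        normalizer (S : Set G) : Subgroup G) = 4 ∨
        Nat.card (normalClosure (((P : Subgroup G) : Set G)) ⊓
        normalizer (S : Set G) : Subgroup G) = 44 := by
      have hle := Nat.le_of_dvd (by norm_num) h44
      obtain ⟨c, hc⟩ := h4
      rw [hc] at h44 hle ⊢
      have hc11 : c ≤ 11 := by omega
      interval_cases c <;> omega
    rcases hB with h | h
    · have hBS : S = normalClosure (((P : Subgroup G) : Set G)) ⊓ normalizer (S : Set G) :=
        Subgroup.eq_of_le_of_card_ge hSB (by rw [h, hS]; norm_num)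
      have hmc := IsPGroup.isMulCommutative_of_card_eq_prime_sq (p := 2) (G := S) hS
      have hcomm : ∀ a b : S, a * b = b * a := fun a b => mul_comm' a b
      apply npc_two (P : Subgroup G) hP11' 2 (by norm_num) hM S hSM hS
      rw [← hBS]
      intro a ha
      rw [mem_centralizer_iff]
      intro b hb
      have := hcomm ⟨b, hb⟩ ⟨a, ha⟩
      exact congrArg Subtype.val this
    · have hBL' := Subgroup.eq_of_le_of_card_ge hBL (by rw [h, hL])
      have hPS : (P : Subgroup G) ≤ normalizer (S : Set G) := by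
        have hPB : (P : Subgroup G) ≤ normalClosure (((P : Subgroup G) : Set G)) ⊓
            normalizer (S : Set G) := by
          rw [hBL']
          exact le_inf hPM le_normalizer
        exact hPB.trans inf_le_right
      have hdisj : (P : Subgroup G) ⊓ S = ⊥ :=
        (Subgroup.disjoint_of_coprime_natCard (by rw [hP11', hS]; norm_num)).eq_bot
      have hSC : S ≤ centralizer ((P : Subgroup G) : Set G) := by
        intro s hs
        rw [mem_centralizer_iff]
        intro p hp
        have hp' : p ∈ (P : Subgroup G) := hp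
        have h1 : p * s * p⁻¹ * s⁻¹ ∈ S :=
          S.mul_mem ((mem_normalizer_iff.mp (hPS hp') s).mp hs) (S.inv_mem hs)
        have h2 : p * s * p⁻¹ * s⁻¹ ∈ (P : Subgroup G) := by
          have h3 : s * p⁻¹ * s⁻¹ ∈ (P : Subgroup G) :=
            (mem_normalizer_iff.mp (hSP hs) p⁻¹).mp (inv_mem hp')
          have h4 := mul_mem hp' h3
          simpa [mul_assoc] using h4
        have h5 : p * s * p⁻¹ * s⁻¹ ∈ (P : Subgroup G) ⊓ S := ⟨h2, h1⟩
        rw [hdisj, mem_bot] at h5
        calc p * s = (p * s * p⁻¹ * s⁻¹) * (s * p) := by group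
          _ = s * p := by rw [h5, one_mul]
      have h1 : (S ⊓ centralizer ((P : Subgroup G) : Set G)).relIndex S = 1 :=
        relIndex_eq_one.mpr (le_inf le_rfl hSC)
      omega
  · -- k = 3
    have hconj : ∀ u ∈ S, u ∉ S ⊓ centralizer ((P : Subgroup G) : Set G) → orderOf u = 2 →
        ∃ g : G, g * u * g⁻¹ ∈ S ⊓ centralizer ((P : Subgroup G) : Set G) := by
      intro u hu huT hu2
      obtain ⟨g, -, hg⟩ := Cfsg.Agent.H56.Ord7920.thompson_in_subgroup
        (normalClosure (((P : Subgroup G) : Set G)))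
        (no_relIndex_two (P : Subgroup G) hP11') S
        (S ⊓ centralizer ((P : Subgroup G) : Set G)) hSM (IsPGroup.of_card hS)
        (by rw [hM, hS, Nat.mul_div_cancel _ (by norm_num)]; norm_num) inf_le_left hT u hu2 hu huT
      exact ⟨g, hg⟩
    have h := Cfsg.Agent.H26.Ord7920.card_dvd_of_unique_fix P S
      (S ⊓ centralizer ((P : Subgroup G) : Set G)) inf_le_left hSP (IsPGroup.of_card hS)
      hfix hconj
    rw [hS, h45] at h
    norm_num at h

end Cfsg.Agent.H93.PG

example {G : Type*} [Group G] [Finite G]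
    (hfaith : ∀ g : G, (∀ Q : Sylow 11 G, g • Q = Q) → g = 1)
    (h45 : Nat.card (Sylow 11 G) = 45) (P : Sylow 11 G) (hP11 : Nat.card P = 11)
    (k : ℕ) (hk1 : 1 ≤ k) (hk3 : k ≤ 3)
    (hM : Nat.card (Subgroup.normalClosure (((P : Subgroup G) : Set G))) = 495 * 2 ^ k)
    (S : Subgroup G) (hSM : S ≤ Subgroup.normalClosure (((P : Subgroup G) : Set G)))
    (hSP : S ≤ Subgroup.normalizer ((P : Subgroup G) : Set G)) (hS : Nat.card S = 2 ^ k)
    (hT : (S ⊓ Subgroup.centralizer ((P : Subgroup G) : Set G)).relIndex S = 2) : False :=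
  Cfsg.Agent.H93.PG.b45_core hfaith h45 P hP11 k hk1 hk3 hM S hSM hSP hS hT
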