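import Mathlib
import Cfsg.Agent.H28.Ord7920B
import Cfsg.Agent.H69.Ord7920N
import Cfsg.Agent.H69.Ord7920B
import Cfsg.Agent.H69.Ord7920W
import Cfsg.Agent.H71.Ord7920A

set_option autoImplicit false

namespace Cfsg.Agent.H93.PG

open Subgroup

theorem fact11 : Fact (Nat.Prime 11) := ⟨by norm_num⟩

theorem factorization_7920_11 : (7920 : ℕ).factorization 11 = 1 := by
  have h : (7920 : ℕ) = 11 ^ 1 * 720 := by norm_num
  rw [h, Nat.factorization_mul (by norm_num) (by norm_num), Nat.Prime.factorization_pow (by norm_num)]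
  have h2 : (720 : ℕ).factorization 11 = 0 :=
    Nat.factorization_eq_zero_of_not_dvd (by norm_num)
  simp [h2]

theorem sylow11_card {G : Type*} [Group G] [Finite G] (hord : Nat.card G = 7920)
    (P : Sylow 11 G) : Nat.card P = 11 := by
  have := fact11
  have := P.card_eq_multiplicity
  rw [hord, factorization_7920_11] at this
  simpa using this

theorem sylow11_cases (n : ℕ) (h1 : n ≡ 1 [MOD 11]) (h2 : n ∣ 720) :
    n = 1 ∨ n = 12 ∨ n = 45 ∨ n = 144 := by
  have hle : n ≤ 720 := Nat.le_of_dvd (by norm_num) h2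
  have hmod : n % 11 = 1 := h1
  obtain ⟨j, rfl⟩ : ∃ j, n = 11 * j + 1 := ⟨n / 11, by omega⟩
  have hj : j ≤ 65 := by omega
  interval_cases j <;> omega

theorem partB {G : Type*} [Group G] [Finite G] (hord : Nat.card G = 7920)
    (hnn : ∀ P : Subgroup G, Nat.card P = 11 → ¬ P.Normal)
    (hN : ∀ N : Subgroup G, N.Normal → N ≠ ⊥ → 11 ∣ Nat.card N)
    (N₁ : Subgroup G) (hN₁ : N₁.Normal) (hbot : N₁ ≠ ⊥) (htop : N₁ ≠ ⊤) : False := by
  have := fact11
  have h11 : ∀ P : Sylow 11 G, ¬ (P : Subgroup G).Normal :=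
    fun P => hnn _ (sylow11_card hord P)
  have hfaith := Cfsg.Agent.H28.Ord7920.faithful_sylow hord h11 hN
  obtain ⟨P⟩ : Nonempty (Sylow 11 G) := inferInstance
  have hmod := card_sylow_modEq_one 11 G
  have hdvd := P.card_dvd_index
  have hidx : (P : Subgroup G).index = 720 := by
    have h := (P : Subgroup G).card_mul_index
    rw [hord, sylow11_card hord P] at h
    omega
  rw [hidx] at hdvd
  rcases sylow11_cases _ hmod hdvd with h | h | h | h
  · have : Subsingleton (Sylow 11 G) := (Nat.card_eq_one_iff_unique.mp h).1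
    exact h11 P (Sylow.normal_of_subsingleton P)
  · refine Cfsg.Agent.H28.Ord7920.sylow_card_ne_twelve hord hfaith (fun Q => ?_) h
    have := Cfsg.Agent.H69.Ord7920.card_inf_normalizer_dvd 11 (Q : Subgroup G) (sylow11_card hord Q) ⊤
    simpa using this
  · exact Cfsg.Agent.H69.Ord7920.not_sylow_card_45 hord hfaith hN N₁ hN₁ hbot htop h
  · exact Cfsg.Agent.H69.Ord7920.not_sylow_card_144 hord hN N₁ hN₁ hbot htop h

theorem core {G : Type*} [Group G] [Finite G] (hord : Nat.card G = 7920) (A : Set ℕ)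
    (h11 : 11 ∈ A) (hb : ∃ b ∉ A, b.Prime ∧ b ∣ 7920)
    (hno : ∀ a ∈ A, ∀ b ∉ A, a.Prime → b.Prime → a ∣ 7920 → b ∣ 7920 →
      ¬ ∃ g : G, orderOf g = a * b) :
    IsSimpleGroup G := by
  have hnn : ∀ P : Subgroup G, Nat.card P = 11 → ¬ P.Normal :=
    fun P hP hPn => Cfsg.Agent.H71.Ord7920.no_normal_eleven hord A h11 hb hno P hP hPn
  have hN := Cfsg.Agent.H71.Ord7920.eleven_dvd_card_normal hord A h11 hb hno hnn
  have : Nontrivial G := by
    rw [← Finite.one_lt_card_iff_nontrivial, hord]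
    norm_num
  refine ⟨fun N hNn => ?_⟩
  by_contra hcon
  push Not at hcon
  exact partB hord hnn hN N hNn hcon.1 hcon.2

theorem main {G : Type*} [Group G] [Finite G] (hord : Nat.card G = 7920)
    (hdisc : (∃ A : Set ℕ, (∃ a ∈ A, a.Prime ∧ a ∣ Nat.card G) ∧
      (∃ b ∉ A, b.Prime ∧ b ∣ Nat.card G) ∧
      ∀ a ∈ A, ∀ b ∉ A, a.Prime → b.Prime → a ∣ Nat.card G → b ∣ Nat.card G →
        ¬ ∃ g : G, orderOf g = a * b)) :
    IsSimpleGroup G := by
  obtain ⟨A, ⟨a, haA, hap, had⟩, ⟨b, hbA, hbp, hbd⟩, hno⟩ := hdisc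
  rw [hord] at had hbd hno
  by_cases h11 : 11 ∈ A
  · exact core hord A h11 ⟨b, hbA, hbp, hbd⟩ hno
  · refine core hord Aᶜ h11 ⟨a, fun h => h haA, hap, had⟩ ?_
    intro a' ha' b' hb' hpa hpb hda hdb ⟨g, hg⟩
    have hb'A : b' ∈ A := by simpa using hb'
    exact hno b' hb'A a' ha' hpb hpa hdb hda ⟨g, by rw [hg, mul_comm]⟩

end Cfsg.Agent.H93.PG
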