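import Mathlib
import Cfsg.Prelude.Def_Blocks
import Cfsg.Agent.H5.Ord7920G11
import Cfsg.Agent.H24.Ord7920Ch
import Cfsg.Agent.H24.Ord7920H20
import Cfsg.Agent.H32.Ord7920H120
import Cfsg.Agent.H36.Ord7920H720
import Cfsg.Agent.H43.Ord7920G5
import Cfsg.Agent.H43.Ord7920C10
import Cfsg.Agent.H59.Ord7920Chab
import Cfsg.Agent.H64.Ord7920G5N
import Cfsg.Agent.H64.Ord7920Lin
import Cfsg.Agent.H64.Ord7920SumSq
import Cfsg.Agent.Lib.Helper30.Ord7920Arith
import Cfsg.Agent.H82.IndDeg
import Cfsg.Agent.H80.Basic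

set_option autoImplicit false

namespace Cfsg.Agent.H93.M11

open Subgroup

theorem relIndex_of_card {G : Type*} [Group G] [Finite G] (C N : Subgroup G) (hle : C ≤ N)
    (c e : ℕ) (hc : 0 < c) (hC : Nat.card C = c) (hN : Nat.card N = c * e) :
    C.relIndex N = e := by
  have h := relIndex_mul_relIndex (⊥ : Subgroup G) C N bot_le hle
  rw [relIndex_bot_left, relIndex_bot_left, hC, hN] at h
  exact Nat.eq_of_mul_eq_mul_left hc h

theorem factorization_7920_5 : (7920 : ℕ).factorization 5 = 1 := by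
  have h : (7920 : ℕ) = 5 ^ 1 * 1584 := by norm_num
  rw [h, Nat.factorization_mul (by norm_num) (by norm_num),
    Nat.Prime.factorization_pow (by norm_num)]
  have h2 : (1584 : ℕ).factorization 5 = 0 :=
    Nat.factorization_eq_zero_of_not_dvd (by norm_num)
  simp [h2]

theorem factorization_7920_11' : (7920 : ℕ).factorization 11 = 1 := by
  have h : (7920 : ℕ) = 11 ^ 1 * 720 := by norm_num
  rw [h, Nat.factorization_mul (by norm_num) (by norm_num),
    Nat.Prime.factorization_pow (by norm_num)]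
  have h2 : (720 : ℕ).factorization 11 = 0 :=
    Nat.factorization_eq_zero_of_not_dvd (by norm_num)
  simp [h2]

theorem sylow5_card {G : Type*} [Group G] [Finite G] (hord : Nat.card G = 7920)
    (P : Sylow 5 G) : Nat.card (P : Subgroup G) = 5 := by
  have : Fact (Nat.Prime 5) := ⟨by norm_num⟩
  have h := P.card_eq_multiplicity
  rw [hord, factorization_7920_5] at h
  simpa using h

theorem sylow11_card' {G : Type*} [Group G] [Finite G] (hord : Nat.card G = 7920)
    (P : Sylow 11 G) : Nat.card (P : Subgroup G) = 11 := by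
  have : Fact (Nat.Prime 11) := ⟨by norm_num⟩
  have h := P.card_eq_multiplicity
  rw [hord, factorization_7920_11'] at h
  simpa using h

theorem sylow5_data {G : Type*} [Group G] [Finite G] [IsSimpleGroup G]
    (hord : Nat.card G = 7920) (P : Sylow 5 G) :
    Nat.card (normalizer ((P : Subgroup G) : Set G)) = 20 ∧
      Nat.card (centralizer ((P : Subgroup G) : Set G)) = 5 := by
  have h11 := fun Q : Sylow 11 G => Cfsg.Agent.H5.Ord7920.sylow11_simple hord Q
  have hN5 : ∀ P' : Sylow 5 G, Nat.card (normalizer ((P' : Subgroup G) : Set G)) = 20 :=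
    fun P' => (Cfsg.Agent.H64.Ord7920.sylow5_normalizer hord P' (Cfsg.Agent.H43.Ord7920.normalizer5_le hord (fun Q => (h11 Q).2) P')).1
  obtain ⟨hN, hC | hC⟩ :=
    Cfsg.Agent.H64.Ord7920.sylow5_normalizer hord P (Cfsg.Agent.H43.Ord7920.normalizer5_le hord (fun Q => (h11 Q).2) P)
  · exact ⟨hN, hC⟩
  · exfalso
    obtain ⟨t, ht, htP, h | h | h⟩ := Cfsg.Agent.H43.Ord7920.centralizer5_ten hord (fun Q => (h11 Q).2.2) P hN hC
    · exact Cfsg.Agent.H24.Ord7920.centralizer_involution_ne_20 hord t ht h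
    · exact Cfsg.Agent.H32.Ord7920.centralizer_involution_ne_120 hord hN5 t ht h
    · exact Cfsg.Agent.H36.Ord7920.centralizer_involution_ne_720 hord P hC t ht htP h

theorem conj_hyp {G : Type*} [Group G] [Finite G] (P : Subgroup G) (p : ℕ) [Fact p.Prime]
    (hP : Nat.card P = p) (hC : Nat.card (centralizer (P : Set G)) = p) :
    Nat.card (P.subgroupOf (normalizer (P : Set G))) = p ∧
    ∀ g : ↥(normalizer (P : Set G)),
      (∀ q ∈ P.subgroupOf (normalizer (P : Set G)), g * q = q * g) →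
        g ∈ P.subgroupOf (normalizer (P : Set G)) := by
  constructor
  · rw [Nat.card_congr (subgroupOfEquivOfLe le_normalizer).toEquiv, hP]
  · have hcyc : IsCyclic P := isCyclic_of_prime_card hP
    have hcomm : ∀ a b : P, a * b = b * a := fun a b => by
      obtain ⟨g, hg⟩ := hcyc.exists_generator
      obtain ⟨i, rfl⟩ := Subgroup.mem_zpowers_iff.mp (hg a)
      obtain ⟨j, rfl⟩ := Subgroup.mem_zpowers_iff.mp (hg b)
      rw [← zpow_add, ← zpow_add, add_comm]
    have hle : P ≤ centralizer (P : Set G) := by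
      intro a ha
      rw [mem_centralizer_iff]
      intro b hb
      exact congrArg Subtype.val (hcomm ⟨b, hb⟩ ⟨a, ha⟩)
    have heq : P = centralizer (P : Set G) :=
      Subgroup.eq_of_le_of_card_ge hle (by rw [hC, hP])
    intro g hg
    rw [mem_subgroupOf]
    have hgc : (g : G) ∈ centralizer (P : Set G) := by
      rw [mem_centralizer_iff]
      intro b hb
      have hb' : (⟨b, le_normalizer hb⟩ : ↥(normalizer (P : Set G))) ∈
          P.subgroupOf (normalizer (P : Set G)) := by
        rw [mem_subgroupOf]; exact hb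
      have := hg _ hb'
      exact (congrArg Subtype.val this).symm
    exact (le_of_eq heq.symm) hgc

theorem main {G : Type*} [Group G] [Finite G] [IsSimpleGroup G] (hG : Nat.card G = 7920) :
    Nat.card (Cfsg.IrrCharacter G) = 10 ∧
    ∀ n : ℕ, Nat.card {χ : Cfsg.IrrCharacter G // Cfsg.charDegree (χ : G → ℂ) = n} =
      (if n = 1 ∨ n = 11 ∨ n = 44 ∨ n = 45 ∨ n = 55 then 1 else if n = 10 then 3
        else if n = 16 then 2 else 0) := by
  classical
  haveI : Fact (Nat.Prime 11) := ⟨by norm_num⟩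
  haveI : Fact (Nat.Prime 5) := ⟨by norm_num⟩
  haveI : Finite (Cfsg.IrrCharacter G) := Cfsg.Agent.H80.irr_finite G
  letI : Fintype (Cfsg.IrrCharacter G) := Fintype.ofFinite _
  obtain ⟨Q⟩ : Nonempty (Sylow 11 G) := inferInstance
  obtain ⟨P⟩ : Nonempty (Sylow 5 G) := inferInstance
  obtain ⟨-, hNQ, hCQ⟩ := Cfsg.Agent.H5.Ord7920.sylow11_simple hG Q
  obtain ⟨hNP, hCP⟩ := sylow5_data hG P
  have hQ : Nat.card (Q : Subgroup G) = 11 := sylow11_card' hG Q
  have hP : Nat.card (P : Subgroup G) = 5 := sylow5_card hG P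
  have he11 := relIndex_of_card _ _ (centralizer_le_normalizer ((Q : Subgroup G) : Set G))
    11 5 (by norm_num) hCQ (by rw [hNQ])
  have he5 := relIndex_of_card _ _ (centralizer_le_normalizer ((P : Subgroup G) : Set G))
    5 4 (by norm_num) hCP (by rw [hNP])
  have hk11 : Nat.card (ConjClasses ↥(normalizer ((Q : Subgroup G) : Set G))) =
      5 + (11 - 1) / 5 := by
    obtain ⟨h1, h2⟩ := conj_hyp (Q : Subgroup G) 11 hQ hCQ
    exact Cfsg.Agent.H24.Ord7920.card_conjClasses_55 hNQ _ h1 h2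
  have hk5 : Nat.card (ConjClasses ↥(normalizer ((P : Subgroup G) : Set G))) =
      4 + (5 - 1) / 4 := by
    obtain ⟨h1, h2⟩ := conj_hyp (P : Subgroup G) 5 hP hCP
    exact Cfsg.Agent.H24.Ord7920.card_conjClasses_20 hNP _ h1 h2
  obtain ⟨X, Y, εX, ε, hXY, hdisj, hX, hY, hεX, hε, hYd, hYeq, hrel⟩ :=
    Cfsg.Agent.H59.Ord7920.principal_data 11 (by norm_num) Q hQ 5 he11 hk11 (by norm_num) (by norm_num)
  obtain ⟨X', Y', εX', ε', hXY', hdisj', hX', hY', hεX', hε', hYd', -, hrel'⟩ :=
    Cfsg.Agent.H59.Ord7920.principal_data 5 (by norm_num) P hP 4 he5 hk5 (by norm_num) (by norm_num)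
  have key := Cfsg.Agent.Lib.Helper30.Ord7920.degree_arith (fun χ : Cfsg.IrrCharacter G => Cfsg.charDegree (χ : G → ℂ))
    (by rw [Cfsg.Agent.H64.Ord7920.sum_sq_charDegree, hG])
    (fun χ => hG ▸ Cfsg.Agent.H82.charDegree_dvd_card χ) (Cfsg.Agent.H64.Ord7920.existsUnique_linear hG)
    X Y εX ε hXY hdisj hX hY (by simpa using hεX) hε (by simpa using hYd) hYeq hrel
    X' Y' εX' ε' hXY' hdisj' hX' hY' (by simpa using hεX') hε' (by simpa using hYd') hrel'
  refine ⟨?_, fun n => ?_⟩
  · rw [Nat.card_eq_fintype_card]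
    exact key.1
  · rw [Nat.card_eq_fintype_card, Fintype.card_subtype]
    exact key.2 n

end Cfsg.Agent.H93.M11
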