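import Mathlib
import Cfsg.Agent.H33.C2.Abs

/-!
# Out(Co2) = 1 (team project S2070): the abstract part of the assembly

A group `G` with a faithful permutation representation `ρ`, three elements `x`, `z`, `t` with
images `pX`, `pZ`, `pT` satisfying the permutation relations, the centraliser facts and the
lower bound for the order of `⟨pX, pZ, pT⟩` satisfies the hypotheses of `StRigid2`.
-/

set_option autoImplicit false

namespace Cfsg.Agent.H93.Co2Out

/-- the abstract assembly -/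
theorem asm_abs (hRigid : Cfsg.Agent.H33.C2.StRigid2) {G : Type} [Group G] {n : ℕ}
    (ρ : G →* Equiv.Perm (Fin n)) (hinj : Function.Injective ρ)
    (N : ℕ) (hcard : Nat.card G = N) (hN : ¬ 23 ^ 2 ∣ N) (hN0 : N ≠ 0)
    (x z t : G) (pX pZ pT : Equiv.Perm (Fin n)) (ex : ρ x = pX) (ez : ρ z = pZ) (et : ρ t = pT)
    (r1 : pX ^ 23 = 1) (r2 : pX ≠ 1) (r3 : pZ ^ 11 = 1)
    (r4 : pZ * pX * pZ⁻¹ = pX ^ 12) (r5 : pT ^ 2 = 1) (r6 : pT * pZ * pT⁻¹ = pZ⁻¹)
    (i1 i2 : Fin n) (r7 : pZ i1 = i1) (r8 : ∀ j, pZ j = j → j = i1 ∨ j = i2) (r9 : pT i2 = i1)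
    (hcx : ∀ s : G, s * x = x * s → s ∈ Subgroup.zpowers x)
    (hfa : ∀ s : G, s * z = z * s → ρ s i1 = i1 → s ∈ Subgroup.zpowers z)
    (hfb : ∀ s : G, ρ s i1 = i1 → s * z * s⁻¹ = z⁻¹ → False)
    (hchain : N ≤ Nat.card ↥(Subgroup.closure ({pX, pZ, pT} : Set (Equiv.Perm (Fin n)))))
    (hno : ∀ m : ℕ, 1 < m → m < 23 → ¬ ∃ β : G ≃* G, β x = x ^ m ∧ β z = z ∧ β t = t) :
    Nat.card (Cfsg.Out G) = 1 := by
  haveI : Finite G := Nat.finite_of_card_ne_zero (by rw [hcard]; exact hN0)
  have hx23 : x ^ 23 = 1 := hinj (by rw [map_pow, ex, r1, map_one])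
  have hx1 : x ≠ 1 := fun h => r2 (by rw [← ex, h, map_one])
  have hxo : orderOf x = 23 := by
    have : Fact (Nat.Prime 23) := ⟨by norm_num⟩
    exact orderOf_eq_prime hx23 hx1
  have hzx : z * x * z⁻¹ = x ^ 12 :=
    hinj (by rw [map_mul, map_mul, map_inv, map_pow, ex, ez, r4])
  have ht2 : t ^ 2 = 1 := hinj (by rw [map_pow, et, r5, map_one])
  have htz : t * z * t⁻¹ = z⁻¹ :=
    hinj (by rw [map_mul, map_mul, map_inv, map_inv, et, ez, r6])
  have hz11 : z ^ 11 = 1 := hinj (by rw [map_pow, ez, r3, map_one])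
  have hzodd : Odd (orderOf z) := by
    have hd : orderOf z ∣ 11 := orderOf_dvd_of_pow_eq_one hz11
    rcases (Nat.dvd_prime (by norm_num : Nat.Prime 11)).mp hd with h | h
    · rw [h]; exact odd_one
    · rw [h]; decide
  have hcz : ∀ s : G, s * z = z * s → s ∈ Subgroup.zpowers z := by
    intro s hs
    have hc : ρ s * pZ = pZ * ρ s := by rw [← ez, ← map_mul, ← map_mul, hs]
    have hfix : pZ (ρ s i1) = ρ s i1 := by
      have h1 := congrArg (fun f : Equiv.Perm (Fin n) => f i1) hc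
      simp only [Equiv.Perm.mul_apply] at h1
      rw [r7] at h1
      exact h1.symm
    rcases r8 _ hfix with h | h
    · exact hfa s hs h
    · exfalso
      refine hfb (t * s) ?_ ?_
      · rw [map_mul, et, Equiv.Perm.mul_apply, h, r9]
      · have hs' : s * z * s⁻¹ = z := by rw [hs, mul_inv_cancel_right]
        calc t * s * z * (t * s)⁻¹ = t * (s * z * s⁻¹) * t⁻¹ := by group
          _ = t * z * t⁻¹ := by rw [hs']
          _ = z⁻¹ := htz
  have hgen : Subgroup.closure ({x, z, t} : Set G) = ⊤ := by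
    have himg : (ρ : G → Equiv.Perm (Fin n)) '' ({x, z, t} : Set G) = {pX, pZ, pT} := by
      rw [Set.image_insert_eq, Set.image_insert_eq, Set.image_singleton, ex, ez, et]
    have hmap : (Subgroup.closure ({x, z, t} : Set G)).map ρ
        = Subgroup.closure ({pX, pZ, pT} : Set (Equiv.Perm (Fin n))) := by
      rw [MonoidHom.map_closure, himg]
    have hKle : Subgroup.closure ({pX, pZ, pT} : Set (Equiv.Perm (Fin n))) ≤ ρ.range := by
      rw [← hmap, MonoidHom.range_eq_map]
      exact Subgroup.map_mono le_top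
    have hrange : Nat.card ↥ρ.range = N := by
      rw [← hcard]
      exact (Nat.card_congr (MonoidHom.ofInjective hinj).toEquiv).symm
    have hKeq : Subgroup.closure ({pX, pZ, pT} : Set (Equiv.Perm (Fin n))) = ρ.range := by
      apply Subgroup.eq_of_le_of_card_ge hKle
      rw [hrange]
      exact hchain
    have h2 : (Subgroup.closure ({x, z, t} : Set G)).map ρ = (⊤ : Subgroup G).map ρ := by
      rw [hmap, hKeq, MonoidHom.range_eq_map]
    exact Subgroup.map_injective hinj h2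
  exact hRigid x z t 23 12 (by norm_num) hxo (by rw [hcard]; exact hN) hcx hzx (by norm_num)
    hzodd hcz ht2 htz hgen hno

/-- a word-order obstruction to the automorphism `x ↦ x ^ m`, `z ↦ z`, `t ↦ t` -/
theorem asm_noaut {G P : Type} [Group G] [Group P] (ρ : G →* P) (hinj : Function.Injective ρ)
    (x z t : G) (pX pZ pT : P) (ex : ρ x = pX) (ez : ρ z = pZ) (et : ρ t = pT)
    (m a : ℕ) (h1 : (pX * pZ * pT) ^ a = 1) (h2 : (pX ^ m * pZ * pT) ^ a ≠ 1) :
    ¬ ∃ β : G ≃* G, β x = x ^ m ∧ β z = z ∧ β t = t := by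
  rintro ⟨β, b1, b2, b3⟩
  have h15 : (x * z * t) ^ a = 1 :=
    hinj (by rw [map_pow, map_mul, map_mul, ex, ez, et, h1, map_one])
  have h15' : (x ^ m * z * t) ^ a = 1 := by
    have h := congrArg β h15
    rw [map_pow, map_mul, map_mul, b1, b2, b3, map_one] at h
    exact h
  apply h2
  have h3 := congrArg ρ h15'
  rw [map_pow, map_mul, map_mul, map_pow, ex, ez, et, map_one] at h3
  exact h3

end Cfsg.Agent.H93.Co2Out
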