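import Mathlib
import Cfsg.Prelude.Def_Sporadic_a
import Cfsg.Agent.H93.Leech
import Cfsg.Agent.H93.LeechGen
import Cfsg.Agent.H93.LeechClasses
import Cfsg.Agent.H33.LData32
import Cfsg.Agent.H33.LData48
import Cfsg.Agent.H33.LData64

/-!
The only nonzero quadratic form on the rank-24 lattice modulo twice the lattice that is
invariant under all lattice automorphisms is the square length divided by 16, modulo 2.
-/

set_option autoImplicit false

namespace Cfsg.Agent.H93

open Cfsg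

theorem dotInt_dvec {i j : GolayPt} (_hij : i ≠ j) (a b : ℤ) (y : GolayPt → ℤ) :
    dotInt (dvec i a j b) y = a * y i + b * y j := by
  unfold dotInt dvec
  have h : ∀ l, ((if l = i then a else 0) + (if l = j then b else 0)) * y l
      = (if l = i then a * y l else 0) + (if l = j then b * y l else 0) := by
    intro l
    split_ifs <;> ring
  rw [Finset.sum_congr rfl (fun l _ => h l), Finset.sum_add_distrib, Finset.sum_ite_eq',
    Finset.sum_ite_eq']
  simp

theorem dotInt_neg_right (x y : GolayPt → ℤ) : dotInt x (-y) = -dotInt x y := by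
  unfold dotInt
  rw [← Finset.sum_neg_distrib]
  apply Finset.sum_congr rfl
  intro i _
  simp only [Pi.neg_apply]; ring

theorem dotInt_add_left (x y z : GolayPt → ℤ) : dotInt (x + y) z = dotInt x z + dotInt y z := by
  unfold dotInt
  rw [← Finset.sum_add_distrib]
  apply Finset.sum_congr rfl
  intro i _
  simp only [Pi.add_apply]; ring

theorem sqNorm_sub' (a b : GolayPt → ℤ) :
    sqNorm (a - b) = sqNorm a - 2 * dotInt a b + sqNorm b := by
  rw [sub_eq_add_neg, sqNorm_add, dotInt_neg_right, sqNorm_neg]; ring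

theorem eight_dvd_dotInt {x y : GolayPt → ℤ} (hx : x ∈ leechLattice) (hy : y ∈ leechLattice) :
    (8 : ℤ) ∣ dotInt x y := by
  obtain ⟨a, ha⟩ := sixteen_dvd_sqNorm hx
  obtain ⟨b, hb⟩ := sixteen_dvd_sqNorm hy
  obtain ⟨c, hc⟩ := sixteen_dvd_sqNorm (add_mem hx hy)
  rw [sqNorm_add, ha, hb] at hc
  exact ⟨c - a - b, by linarith⟩

section Quad

variable (Q : ↥leechLattice → ZMod 2)
  (hcoset : ∀ v w : ↥leechLattice, Q (v + (w + w)) = Q v)
  (hquad : ∀ u v w : ↥leechLattice, Q (u + v + w) + Q u + Q v + Q w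
    = Q (u + v) + Q (u + w) + Q (v + w))
  (hinv : ∀ (g : ↥Co0) (v : ↥leechLattice), Q (g • v) = Q v)

include hinv in
theorem quad_const32 (v w : leechLattice) (hv : sqNorm (v : GolayPt → ℤ) = 32)
    (hw : sqNorm (w : GolayPt → ℤ) = 32) : Q v = Q w := by
  obtain ⟨g, hg, e⟩ := Cfsg.Agent.H33.co0_trans32 v w hv hw
  rw [← e]
  exact (hinv ⟨g, hg⟩ v).symm

include hinv in
theorem quad_const48 (v w : leechLattice) (hv : sqNorm (v : GolayPt → ℤ) = 48)
    (hw : sqNorm (w : GolayPt → ℤ) = 48) : Q v = Q w := by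
  obtain ⟨g, hg, e⟩ := Cfsg.Agent.H33.co0_trans48 v w hv hw
  rw [← e]
  exact (hinv ⟨g, hg⟩ v).symm

include hinv in
theorem quad_const64 (v w : leechLattice) (hv : sqNorm (v : GolayPt → ℤ) = 64)
    (hw : sqNorm (w : GolayPt → ℤ) = 64) : Q v = Q w := by
  obtain ⟨g, hg, e⟩ := Cfsg.Agent.H33.co0_trans64 v w hv hw
  rw [← e]
  exact (hinv ⟨g, hg⟩ v).symm

include hquad in
theorem quad_zero : Q 0 = 0 := by
  have h := hquad 0 0 0
  simp only [add_zero] at h
  generalize Q 0 = t at h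
  revert t; decide

include hcoset in
/-- `Q (x + v) = Q (x - v)`. -/
theorem quad_add_eq_sub (x v : leechLattice) : Q (x + v) = Q (x - v) := by
  have h := hcoset (x - v) v
  have e : x - v + (v + v) = x + v := by abel
  rw [e] at h
  exact h

/-- The data of the computation: three lattice vectors of square length 32 with prescribed dot
products. -/
theorem quad_vectors :
    ∃ u1 u2 u3 u4 v : leechLattice,
      sqNorm (u1 : GolayPt → ℤ) = 32 ∧ sqNorm (u2 : GolayPt → ℤ) = 32 ∧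
      sqNorm (u3 : GolayPt → ℤ) = 32 ∧ sqNorm (u4 : GolayPt → ℤ) = 32 ∧
      sqNorm (v : GolayPt → ℤ) = 32 ∧
      dotInt (u1 : GolayPt → ℤ) (u2 : GolayPt → ℤ) = -16 ∧
      dotInt (u1 : GolayPt → ℤ) (v : GolayPt → ℤ) = 16 ∧
      dotInt (u2 : GolayPt → ℤ) (v : GolayPt → ℤ) = -8 ∧
      dotInt (u3 : GolayPt → ℤ) (u4 : GolayPt → ℤ) = -16 ∧
      dotInt (u3 : GolayPt → ℤ) (v : GolayPt → ℤ) = 8 ∧
      dotInt (u4 : GolayPt → ℤ) (v : GolayPt → ℤ) = -8 := by
  have h01 : (none : GolayPt) ≠ some 0 := by decide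
  have h02 : (none : GolayPt) ≠ some 1 := by decide
  have h12 : (some 0 : GolayPt) ≠ some 1 := by decide
  have h23 : (some 1 : GolayPt) ≠ some 2 := by decide
  refine ⟨⟨dvec none (-4) (some 0) 4, dvec_mem h01 (Or.inr rfl) (Or.inl rfl)⟩,
    ⟨dvec none 4 (some 1) 4, dvec_mem h02 (Or.inl rfl) (Or.inl rfl)⟩,
    ⟨dvec (some 0) 4 (some 1) 4, dvec_mem h12 (Or.inl rfl) (Or.inl rfl)⟩,
    ⟨dvec (some 1) (-4) (some 2) (-4), dvec_mem h23 (Or.inr rfl) (Or.inr rfl)⟩,
    ⟨vcode 0, vcode_mem (zero_mem _)⟩,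
    dvec_sqNorm h01 (Or.inr rfl) (Or.inl rfl), dvec_sqNorm h02 (Or.inl rfl) (Or.inl rfl),
    dvec_sqNorm h12 (Or.inl rfl) (Or.inl rfl), dvec_sqNorm h23 (Or.inr rfl) (Or.inr rfl),
    vcode_sqNorm 0, ?_, ?_, ?_, ?_, ?_, ?_⟩
  · show dotInt (dvec none (-4) (some 0) 4) (dvec none 4 (some 1) 4) = -16
    rw [dotInt_dvec h01]
    simp [dvec]
    decide
  · show dotInt (dvec none (-4) (some 0) 4) (vcode 0) = 16
    rw [dotInt_dvec h01]
    simp [vcode]
  · show dotInt (dvec none 4 (some 1) 4) (vcode 0) = -8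
    rw [dotInt_dvec h02]
    simp [vcode]
  · show dotInt (dvec (some 0) 4 (some 1) 4) (dvec (some 1) (-4) (some 2) (-4)) = -16
    rw [dotInt_dvec h12]
    simp [dvec]
    decide
  · show dotInt (dvec (some 0) 4 (some 1) 4) (vcode 0) = 8
    rw [dotInt_dvec h12]
    simp [vcode]
  · show dotInt (dvec (some 1) (-4) (some 2) (-4)) (vcode 0) = -8
    rw [dotInt_dvec h23]
    simp [vcode]

include hcoset hquad hinv in
/-- The form vanishes on the vectors of square length 32. -/
theorem quad_32 (x : leechLattice) (hx : sqNorm (x : GolayPt → ℤ) = 32) : Q x = 0 := by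
  obtain ⟨u1, u2, u3, u4, v, n1, n2, n3, n4, nv, d12, d1v, d2v, d34, d3v, d4v⟩ := quad_vectors
  have e12 : sqNorm ((u1 + u2 : leechLattice) : GolayPt → ℤ) = 32 := by
    show sqNorm ((u1 : GolayPt → ℤ) + (u2 : GolayPt → ℤ)) = 32
    rw [sqNorm_add, n1, n2, d12]; norm_num
  have e1v : sqNorm ((u1 - v : leechLattice) : GolayPt → ℤ) = 32 := by
    show sqNorm ((u1 : GolayPt → ℤ) - (v : GolayPt → ℤ)) = 32
    rw [sqNorm_sub', n1, nv, d1v]; norm_num
  have e2v : sqNorm ((u2 + v : leechLattice) : GolayPt → ℤ) = 48 := by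
    show sqNorm ((u2 : GolayPt → ℤ) + (v : GolayPt → ℤ)) = 48
    rw [sqNorm_add, n2, nv, d2v]; norm_num
  have e12v : sqNorm ((u1 + u2 - v : leechLattice) : GolayPt → ℤ) = 48 := by
    show sqNorm ((u1 : GolayPt → ℤ) + (u2 : GolayPt → ℤ) - (v : GolayPt → ℤ)) = 48
    rw [sqNorm_sub', sqNorm_add, dotInt_add_left, n1, n2, nv, d12, d1v, d2v]; norm_num
  have h := hquad u1 u2 v
  rw [quad_add_eq_sub Q hcoset (u1 + u2) v, quad_add_eq_sub Q hcoset u1 v,
    quad_const32 Q hinv u1 x n1 hx, quad_const32 Q hinv u2 x n2 hx,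
    quad_const32 Q hinv v x nv hx, quad_const32 Q hinv (u1 + u2) x e12 hx,
    quad_const32 Q hinv (u1 - v) x e1v hx,
    quad_const48 Q hinv (u1 + u2 - v) (u2 + v) e12v e2v] at h
  generalize Q x = a at h
  generalize Q (u2 + v) = b at h
  revert a b; decide

include hcoset hquad hinv in
/-- The form vanishes on the vectors of square length 64. -/
theorem quad_64 (x : leechLattice) (hx : sqNorm (x : GolayPt → ℤ) = 64) : Q x = 0 := by
  obtain ⟨u1, u2, u3, u4, v, n1, n2, n3, n4, nv, d12, d1v, d2v, d34, d3v, d4v⟩ := quad_vectors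
  have e34 : sqNorm ((u3 + u4 : leechLattice) : GolayPt → ℤ) = 32 := by
    show sqNorm ((u3 : GolayPt → ℤ) + (u4 : GolayPt → ℤ)) = 32
    rw [sqNorm_add, n3, n4, d34]; norm_num
  have e3v : sqNorm ((u3 - v : leechLattice) : GolayPt → ℤ) = 48 := by
    show sqNorm ((u3 : GolayPt → ℤ) - (v : GolayPt → ℤ)) = 48
    rw [sqNorm_sub', n3, nv, d3v]; norm_num
  have e4v : sqNorm ((u4 + v : leechLattice) : GolayPt → ℤ) = 48 := by
    show sqNorm ((u4 : GolayPt → ℤ) + (v : GolayPt → ℤ)) = 48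
    rw [sqNorm_add, n4, nv, d4v]; norm_num
  have e34v : sqNorm ((u3 + u4 + v : leechLattice) : GolayPt → ℤ) = 64 := by
    show sqNorm ((u3 : GolayPt → ℤ) + (u4 : GolayPt → ℤ) + (v : GolayPt → ℤ)) = 64
    rw [sqNorm_add, sqNorm_add, dotInt_add_left, n3, n4, nv, d34, d3v, d4v]; norm_num
  have h := hquad u3 u4 v
  rw [quad_add_eq_sub Q hcoset u3 v, quad_32 Q hcoset hquad hinv u3 n3,
    quad_32 Q hcoset hquad hinv u4 n4, quad_32 Q hcoset hquad hinv v nv,
    quad_32 Q hcoset hquad hinv (u3 + u4) e34,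
    quad_const64 Q hinv (u3 + u4 + v) x e34v hx,
    quad_const48 Q hinv (u3 - v) (u4 + v) e3v e4v] at h
  generalize Q x = c at h
  generalize Q (u4 + v) = b at h
  revert c b; decide

include hcoset in
/-- The form only depends on a short representative of the class modulo twice the lattice. -/
theorem quad_short (x : leechLattice) :
    ∃ y : leechLattice, Q x = Q y ∧ sqNorm (y : GolayPt → ℤ) ≤ 64 ∧
      (32 : ℤ) ∣ sqNorm (x : GolayPt → ℤ) - sqNorm (y : GolayPt → ℤ) := by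
  obtain ⟨y, hy, hyn, z, hz, hxy⟩ := exists_short x.2
  refine ⟨⟨y, hy⟩, ?_, hyn, ?_⟩
  · have e : x = (⟨y, hy⟩ : leechLattice) + ((⟨z, hz⟩ : leechLattice) + ⟨z, hz⟩) := by
      apply Subtype.ext
      show (x : GolayPt → ℤ) = y + (z + z)
      have : (x : GolayPt → ℤ) = y + (2 : ℕ) • z := by rw [← hxy]; abel
      rw [this, two_nsmul]
    rw [e]
    exact hcoset _ _
  · have e : (x : GolayPt → ℤ) = y + (2 : ℕ) • z := by rw [← hxy]; abel
    show (32 : ℤ) ∣ sqNorm (x : GolayPt → ℤ) - sqNorm y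
    rw [e, sqNorm_add, sqNorm_two_smul]
    obtain ⟨a, ha⟩ := eight_dvd_dotInt hy hz
    obtain ⟨b, hb⟩ := sixteen_dvd_sqNorm hz
    have hd : dotInt y ((2 : ℕ) • z) = 2 * dotInt y z := by
      unfold dotInt
      rw [Finset.mul_sum]
      apply Finset.sum_congr rfl
      intro i _
      simp only [Pi.smul_apply, nsmul_eq_mul, Nat.cast_ofNat]; ring
    rw [hd, ha, hb]
    exact ⟨a + 2 * b, by ring⟩

theorem short_norm_cases (y : leechLattice) (hy : sqNorm (y : GolayPt → ℤ) ≤ 64) :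
    y = 0 ∨ sqNorm (y : GolayPt → ℤ) = 32 ∨ sqNorm (y : GolayPt → ℤ) = 48
      ∨ sqNorm (y : GolayPt → ℤ) = 64 := by
  by_cases h0 : y = 0
  · exact Or.inl h0
  · right
    have h0' : (y : GolayPt → ℤ) ≠ 0 := fun h => h0 (Subtype.ext h)
    have h1 := min_sqNorm y.2 h0'
    obtain ⟨k, hk⟩ := sixteen_dvd_sqNorm y.2
    omega

include hcoset hquad hinv in
/-- The invariant quadratic form, if nonzero, is the square length divided by 16 modulo 2. -/
theorem quad_unique (hne : ∃ v : ↥leechLattice, Q v ≠ 0) (v : ↥leechLattice) :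
    Q v = ((sqNorm (v : GolayPt → ℤ) / 16 : ℤ) : ZMod 2) := by
  -- the value on the vectors of square length 48 is 1
  have h48 : ∀ y : leechLattice, sqNorm (y : GolayPt → ℤ) = 48 → Q y = 1 := by
    obtain ⟨w, hw⟩ := hne
    obtain ⟨y, hQ, hyn, -⟩ := quad_short Q hcoset w
    have hy48 : sqNorm (y : GolayPt → ℤ) = 48 := by
      rcases short_norm_cases y hyn with h | h | h | h
      · rw [hQ, h, quad_zero Q hquad] at hw; exact absurd rfl hw
      · rw [hQ, quad_32 Q hcoset hquad hinv y h] at hw; exact absurd rfl hw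
      · exact h
      · rw [hQ, quad_64 Q hcoset hquad hinv y h] at hw; exact absurd rfl hw
    intro y' hy'
    rw [quad_const48 Q hinv y' y hy' hy48, ← hQ]
    generalize Q w = t at hw
    revert t; decide
  obtain ⟨y, hQ, hyn, k, hk⟩ := quad_short Q hcoset v
  rw [hQ]
  have hv16 : sqNorm (v : GolayPt → ℤ) = sqNorm (y : GolayPt → ℤ) + 32 * k := by linarith
  rcases short_norm_cases y hyn with h | h | h | h
  · have hy0 : sqNorm (y : GolayPt → ℤ) = 0 := by rw [h]; simp [sqNorm]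
    rw [h, quad_zero Q hquad, hv16, hy0]
    have : (0 + 32 * k) / 16 = 2 * k := by omega
    rw [this]; push_cast
    have h2 : (2 : ZMod 2) = 0 := by decide
    rw [h2, zero_mul]
  · rw [quad_32 Q hcoset hquad hinv y h, hv16, h]
    have : (32 + 32 * k) / 16 = 2 * (1 + k) := by omega
    rw [this]; push_cast
    have h2 : (2 : ZMod 2) = 0 := by decide
    rw [h2, zero_mul]
  · rw [h48 y h, hv16, h]
    have : (48 + 32 * k) / 16 = 1 + 2 * (1 + k) := by omega
    rw [this]; push_cast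
    have h2 : (2 : ZMod 2) = 0 := by decide
    rw [h2, zero_mul, add_zero]
  · rw [quad_64 Q hcoset hquad hinv y h, hv16, h]
    have : (64 + 32 * k) / 16 = 2 * (2 + k) := by omega
    rw [this]; push_cast
    have h2 : (2 : ZMod 2) = 0 := by decide
    rw [h2, zero_mul]

end Quad

end Cfsg.Agent.H93
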