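import Mathlib
import Cfsg.Prelude.Def_Sporadic_a
import Cfsg.Prelude.Def_Spor_Conway
import Cfsg.Agent.H93.Leech
import Cfsg.Agent.H93.LeechGen
import Cfsg.Agent.H93.LeechClasses
import Cfsg.Agent.H93.Co0Center
import Cfsg.Agent.H93.Co0Card
import Cfsg.Agent.H93.CoQuad
import Cfsg.Agent.H33.LData32
import Cfsg.Agent.H33.LData48
import Cfsg.Agent.H33.LData64

/-!
The rank-24 lattice modulo twice itself as a module for its automorphism group: the kernel of
the action is the centre, and there is no proper invariant subgroup strictly between twice the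
lattice and the lattice.
-/

set_option autoImplicit false

namespace Cfsg.Agent.H93

open Cfsg

theorem dotInt_neg_left' (x y : GolayPt → ℤ) : dotInt (-x) y = -dotInt x y := by
  unfold dotInt
  rw [← Finset.sum_neg_distrib]
  apply Finset.sum_congr rfl
  intro i _
  simp only [Pi.neg_apply]; ring

theorem dotInt_zsmul_zsmul (s t : ℤ) (x y : GolayPt → ℤ) :
    dotInt (s • x) (t • y) = s * t * dotInt x y := by
  unfold dotInt
  rw [Finset.mul_sum]
  apply Finset.sum_congr rfl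
  intro i _
  simp only [Pi.smul_apply, smul_eq_mul]; ring

section Faithful

variable {g : Equiv.Perm leechLattice} (hg : g ∈ Co0)
  (hcong : ∀ v : leechLattice, ∃ w : leechLattice,
    ((g v : leechLattice) : GolayPt → ℤ) - (v : GolayPt → ℤ) = (2 : ℕ) • (w : GolayPt → ℤ))

include hg hcong in
/-- A short vector is mapped to itself or to its opposite. -/
theorem mod2_pm (v : leechLattice) (hv : sqNorm (v : GolayPt → ℤ) = 32) :
    ((g v : leechLattice) : GolayPt → ℤ) = (1 : ℤ) • (v : GolayPt → ℤ)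
      ∨ ((g v : leechLattice) : GolayPt → ℤ) = (-1 : ℤ) • (v : GolayPt → ℤ) := by
  obtain ⟨w, hw⟩ := hcong v
  have h := short_congruent (g v).2 v.2 (by rw [hg.2 v, hv]; norm_num) (by rw [hv]; norm_num)
    ⟨w, w.2, hw⟩
  have h2 := h.2 (by rw [hg.2 v, hv]; norm_num)
  rcases h2 with h2 | h2
  · left; rw [one_smul]; exact h2.symm
  · right; rw [h2]; simp

include hg hcong in
/-- The sign is the same on two short vectors that are not orthogonal. -/
theorem mod2_sign (s : ℤ) (hs : s = 1 ∨ s = -1) (v w : leechLattice)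
    (_hv : sqNorm (v : GolayPt → ℤ) = 32) (hw : sqNorm (w : GolayPt → ℤ) = 32)
    (hd : dotInt (v : GolayPt → ℤ) (w : GolayPt → ℤ) ≠ 0)
    (h : ((g v : leechLattice) : GolayPt → ℤ) = s • (v : GolayPt → ℤ)) :
    ((g w : leechLattice) : GolayPt → ℤ) = s • (w : GolayPt → ℤ) := by
  have hp := dot_preserved hg v w
  rcases mod2_pm hg hcong w hw with h2 | h2
  · rw [h, h2, dotInt_zsmul_zsmul] at hp
    rcases hs with rfl | rfl
    · exact h2
    · exfalso
      have : dotInt (v : GolayPt → ℤ) (w : GolayPt → ℤ) = 0 := by linarith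
      exact hd this
  · rw [h, h2, dotInt_zsmul_zsmul] at hp
    rcases hs with rfl | rfl
    · exfalso
      have : dotInt (v : GolayPt → ℤ) (w : GolayPt → ℤ) = 0 := by linarith
      exact hd this
    · exact h2

/-- The property "`g` acts on the vectors `dvec i a j b` by the sign `s`". -/
def SgnOn (g : Equiv.Perm leechLattice) (s : ℤ) (i j : GolayPt) : Prop :=
  ∀ (hij : i ≠ j) (a b : ℤ) (ha : a = 4 ∨ a = -4) (hb : b = 4 ∨ b = -4),
    ((g ⟨dvec i a j b, dvec_mem hij ha hb⟩ : leechLattice) : GolayPt → ℤ) = s • dvec i a j b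

/-- The property "`g` acts on the vector `dvec i 4 j 4` by the sign `s`". -/
def SgnAt (g : Equiv.Perm leechLattice) (s : ℤ) (i j : GolayPt) : Prop :=
  ∀ (hij : i ≠ j),
    ((g ⟨dvec i 4 j 4, dvec_mem hij (Or.inl rfl) (Or.inl rfl)⟩ : leechLattice) : GolayPt → ℤ)
      = s • dvec i 4 j 4

theorem sgnAt_of_sgnOn {g : Equiv.Perm leechLattice} {s : ℤ} {i j : GolayPt}
    (h : SgnOn g s i j) : SgnAt g s i j :=
  fun hij => h hij 4 4 (Or.inl rfl) (Or.inl rfl)

include hg hcong in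
theorem sgnOn_snd (s : ℤ) (hs : s = 1 ∨ s = -1) {i j k : GolayPt} (hij : i ≠ j) (hik : i ≠ k)
    (hjk : j ≠ k) (h : SgnAt g s i j) : SgnOn g s i k := by
  intro _ c d hc hd
  refine mod2_sign hg hcong s hs ⟨dvec i 4 j 4, dvec_mem hij (Or.inl rfl) (Or.inl rfl)⟩ _
    (dvec_sqNorm hij (Or.inl rfl) (Or.inl rfl)) (dvec_sqNorm hik hc hd) ?_ (h hij)
  show dotInt (dvec i 4 j 4) (dvec i c k d) ≠ 0
  rw [dotInt_dvec hij]
  have e1 : dvec i c k d i = c := by simp [dvec, hik]
  have e2 : dvec i c k d j = 0 := by simp [dvec, hij.symm, hjk]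
  rw [e1, e2]
  rcases hc with rfl | rfl <;> norm_num

include hg hcong in
theorem sgnOn_fst (s : ℤ) (hs : s = 1 ∨ s = -1) {i j k : GolayPt} (hij : i ≠ j) (hik : i ≠ k)
    (hjk : j ≠ k) (h : SgnAt g s i j) : SgnOn g s k j := by
  intro _ c d hc hd
  refine mod2_sign hg hcong s hs ⟨dvec i 4 j 4, dvec_mem hij (Or.inl rfl) (Or.inl rfl)⟩ _
    (dvec_sqNorm hij (Or.inl rfl) (Or.inl rfl)) (dvec_sqNorm hjk.symm hc hd) ?_ (h hij)
  show dotInt (dvec i 4 j 4) (dvec k c j d) ≠ 0
  rw [dotInt_dvec hij]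
  have e1 : dvec k c j d i = 0 := by simp [dvec, hik, hij]
  have e2 : dvec k c j d j = d := by simp [dvec, hjk]
  rw [e1, e2]
  rcases hd with rfl | rfl <;> norm_num

theorem exists_two_new (i j i' j' : GolayPt) :
    ∃ k m : GolayPt, k ≠ m ∧ k ≠ i ∧ k ≠ j ∧ k ≠ i' ∧ k ≠ j' ∧ m ≠ i ∧ m ≠ j ∧ m ≠ i'
      ∧ m ≠ j' := by
  have h1 : ({i, j, i', j'} : Finset GolayPt).card < (Finset.univ : Finset GolayPt).card := by
    rw [Finset.card_univ, card_golayPt]
    exact lt_of_le_of_lt (Finset.card_le_four) (by norm_num)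
  obtain ⟨k, -, hk⟩ := Finset.exists_mem_notMem_of_card_lt_card h1
  have h2 : (insert k ({i, j, i', j'} : Finset GolayPt)).card
      < (Finset.univ : Finset GolayPt).card := by
    rw [Finset.card_univ, card_golayPt]
    exact lt_of_le_of_lt (Finset.card_insert_le _ _)
      (lt_of_le_of_lt (Nat.succ_le_succ Finset.card_le_four) (by norm_num))
  obtain ⟨m, -, hm⟩ := Finset.exists_mem_notMem_of_card_lt_card h2
  simp only [Finset.mem_insert, Finset.mem_singleton, not_or] at hk hm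
  exact ⟨k, m, fun h => hm.1 h.symm, hk.1, hk.2.1, hk.2.2.1, hk.2.2.2, hm.2.1, hm.2.2.1,
    hm.2.2.2.1, hm.2.2.2.2⟩

include hg hcong in
/-- The sign is the same on all the vectors `dvec i a j b`. -/
theorem sgnOn_all (s : ℤ) (hs : s = 1 ∨ s = -1) {i j : GolayPt} (hij : i ≠ j)
    (h : SgnAt g s i j) (i' j' : GolayPt) (hij' : i' ≠ j') : SgnOn g s i' j' := by
  obtain ⟨k, m, hkm, hki, hkj, hki', hkj', hmi, hmj, hmi', hmj'⟩ := exists_two_new i j i' j'
  have h1 : SgnOn g s i k := sgnOn_snd hg hcong s hs hij (Ne.symm hki) (Ne.symm hkj) h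
  have h2 : SgnOn g s m k :=
    sgnOn_fst hg hcong s hs (Ne.symm hki) (Ne.symm hmi) hkm (sgnAt_of_sgnOn h1)
  have h3 : SgnOn g s m j' :=
    sgnOn_snd hg hcong s hs (Ne.symm hkm) hmj' hkj' (sgnAt_of_sgnOn h2)
  exact sgnOn_fst hg hcong s hs hmj' hmi' (Ne.symm hij') (sgnAt_of_sgnOn h3)

include hg hcong in
/-- There is a sign by which `g` acts on all the short vectors. -/
theorem mod2_short : ∃ s : ℤ, (s = 1 ∨ s = -1) ∧ ∀ x : leechLattice,
    sqNorm (x : GolayPt → ℤ) = 32 →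
      ((g x : leechLattice) : GolayPt → ℤ) = s • (x : GolayPt → ℤ) := by
  have h01 : (none : GolayPt) ≠ some 0 := by decide
  obtain ⟨s, hs, h0⟩ : ∃ s : ℤ, (s = 1 ∨ s = -1) ∧ SgnAt g s none (some 0) := by
    rcases mod2_pm hg hcong ⟨dvec none 4 (some 0) 4, dvec_mem h01 (Or.inl rfl) (Or.inl rfl)⟩
      (dvec_sqNorm h01 (Or.inl rfl) (Or.inl rfl)) with h | h
    · exact ⟨1, Or.inl rfl, fun _ => h⟩
    · exact ⟨-1, Or.inr rfl, fun _ => h⟩
  refine ⟨s, hs, fun x hx => ?_⟩
  -- a nonzero coordinate of `x`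
  obtain ⟨i, hi⟩ : ∃ i, (x : GolayPt → ℤ) i ≠ 0 := by
    by_contra hcon
    simp only [not_exists, not_not] at hcon
    have : (x : GolayPt → ℤ) = 0 := funext hcon
    rw [this] at hx
    simp [sqNorm] at hx
  obtain ⟨j, hij⟩ : ∃ j : GolayPt, i ≠ j := by
    obtain ⟨k, m, hkm, hki, -⟩ := exists_two_new i i i i
    exact ⟨k, Ne.symm hki⟩
  have hS := sgnOn_all hg hcong s hs h01 h0 i j hij
  by_cases hd : dotInt (dvec i 4 j 4) (x : GolayPt → ℤ) = 0
  · have hd' : dotInt (dvec i 4 j (-4)) (x : GolayPt → ℤ) ≠ 0 := by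
      rw [dotInt_dvec hij] at hd ⊢
      intro h
      apply hi
      linarith
    exact mod2_sign hg hcong s hs ⟨dvec i 4 j (-4), dvec_mem hij (Or.inl rfl) (Or.inr rfl)⟩ x
      (dvec_sqNorm hij (Or.inl rfl) (Or.inr rfl)) hx hd' (hS hij 4 (-4) (Or.inl rfl) (Or.inr rfl))
  · exact mod2_sign hg hcong s hs ⟨dvec i 4 j 4, dvec_mem hij (Or.inl rfl) (Or.inl rfl)⟩ x
      (dvec_sqNorm hij (Or.inl rfl) (Or.inl rfl)) hx hd (hS hij 4 4 (Or.inl rfl) (Or.inl rfl))

include hg hcong in
/-- There is a sign by which `g` acts on the whole lattice. -/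
theorem mod2_sign_all : ∃ s : ℤ, (s = 1 ∨ s = -1) ∧ ∀ v : leechLattice,
    ((g v : leechLattice) : GolayPt → ℤ) = s • (v : GolayPt → ℤ) := by
  obtain ⟨s, hs, h⟩ := mod2_short hg hcong
  refine ⟨s, hs, fun v => ?_⟩
  have key : ∀ x ∈ minGen, ∃ hx : x ∈ leechLattice,
      ((g ⟨x, hx⟩ : leechLattice) : GolayPt → ℤ) = s • x := by
    intro x hx
    unfold minGen at hx
    induction hx using AddSubgroup.closure_induction with
    | mem y hy => exact ⟨hy.1, h ⟨y, hy.1⟩ hy.2⟩
    | zero =>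
      refine ⟨zero_mem _, ?_⟩
      have h0 : g 0 = 0 := by
        have := hg.1 0 0
        rw [add_zero] at this
        exact left_eq_add.mp this
      have : (⟨0, zero_mem _⟩ : leechLattice) = 0 := rfl
      rw [this, h0]; simp
    | add y z _ _ ihy ihz =>
      obtain ⟨hy, ey⟩ := ihy
      obtain ⟨hz, ez⟩ := ihz
      refine ⟨add_mem hy hz, ?_⟩
      have : (⟨y + z, add_mem hy hz⟩ : leechLattice) = ⟨y, hy⟩ + ⟨z, hz⟩ := rfl
      rw [this, hg.1]
      show ((g ⟨y, hy⟩ : leechLattice) : GolayPt → ℤ) + ((g ⟨z, hz⟩ : leechLattice) : GolayPt → ℤ)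
        = s • (y + z)
      rw [ey, ez, smul_add]
    | neg y _ ihy =>
      obtain ⟨hy, ey⟩ := ihy
      refine ⟨neg_mem hy, ?_⟩
      have e1 : (⟨-y, neg_mem hy⟩ : leechLattice) = 0 - ⟨y, hy⟩ := by
        apply Subtype.ext
        show -y = 0 - y
        simp
      have h0 : g 0 = 0 := by
        have := hg.1 0 0
        rw [add_zero] at this
        exact left_eq_add.mp this
      rw [e1, co0_map_sub hg, h0]
      show (0 : GolayPt → ℤ) - ((g ⟨y, hy⟩ : leechLattice) : GolayPt → ℤ) = s • (-y)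
      rw [ey]; simp
  have hv : (v : GolayPt → ℤ) ∈ minGen := by rw [minGen_eq]; exact v.2
  obtain ⟨hx, e⟩ := key _ hv
  exact e

end Faithful

/-- An automorphism acting trivially on the lattice modulo twice the lattice is central. -/
theorem mod2_faithful (g : ↥Co0)
    (hcong : ∀ v : ↥leechLattice, ∃ w : ↥leechLattice,
      ((g • v : ↥leechLattice) : GolayPt → ℤ) - (v : GolayPt → ℤ) = 2 • (w : GolayPt → ℤ)) :
    g ∈ Subgroup.center ↥Co0 := by
  obtain ⟨s, hs, h⟩ := mod2_sign_all (g := g.1) g.2 hcong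
  rw [Subgroup.mem_center_iff]
  intro k
  apply Subtype.ext
  apply Equiv.ext
  intro v
  show k.1 (g.1 v) = g.1 (k.1 v)
  apply Subtype.ext
  rw [h (k.1 v)]
  rcases hs with rfl | rfl
  · have e : g.1 v = v := Subtype.ext (by rw [h v, one_smul])
    rw [e, one_smul]
  · have e : g.1 v = 0 - v := Subtype.ext (by
      rw [h v]
      show (-1 : ℤ) • (v : GolayPt → ℤ) = 0 - (v : GolayPt → ℤ)
      simp)
    have h0 : k.1 0 = 0 := by
      have := k.2.1 0 0
      rw [add_zero] at this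
      exact left_eq_add.mp this
    rw [e, co0_map_sub k.2, h0]
    show (0 : GolayPt → ℤ) - ((k.1 v : leechLattice) : GolayPt → ℤ) = _
    simp

section Irred

variable (M : AddSubgroup (GolayPt → ℤ))
  (hle : M ≤ leechLattice)
  (hinv : ∀ g : ↥Co0, ∀ v : ↥leechLattice, (v : GolayPt → ℤ) ∈ M →
    ((g • v : ↥leechLattice) : GolayPt → ℤ) ∈ M)

include hinv in
theorem irr_trans32 (y a : leechLattice) (hy : (y : GolayPt → ℤ) ∈ M)
    (hyn : sqNorm (y : GolayPt → ℤ) = 32) (han : sqNorm (a : GolayPt → ℤ) = 32) :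
    (a : GolayPt → ℤ) ∈ M := by
  obtain ⟨g, hg, e⟩ := Cfsg.Agent.H33.co0_trans32 y a hyn han
  rw [← e]; exact hinv ⟨g, hg⟩ y hy

include hinv in
theorem irr_trans48 (y a : leechLattice) (hy : (y : GolayPt → ℤ) ∈ M)
    (hyn : sqNorm (y : GolayPt → ℤ) = 48) (han : sqNorm (a : GolayPt → ℤ) = 48) :
    (a : GolayPt → ℤ) ∈ M := by
  obtain ⟨g, hg, e⟩ := Cfsg.Agent.H33.co0_trans48 y a hyn han
  rw [← e]; exact hinv ⟨g, hg⟩ y hy

include hinv in
theorem irr_trans64 (y a : leechLattice) (hy : (y : GolayPt → ℤ) ∈ M)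
    (hyn : sqNorm (y : GolayPt → ℤ) = 64) (han : sqNorm (a : GolayPt → ℤ) = 64) :
    (a : GolayPt → ℤ) ∈ M := by
  obtain ⟨g, hg, e⟩ := Cfsg.Agent.H33.co0_trans64 y a hyn han
  rw [← e]; exact hinv ⟨g, hg⟩ y hy

include hle hinv in
/-- An invariant subgroup containing a vector of square length 32 is the whole lattice. -/
theorem irr_of_short (u : leechLattice) (hu : (u : GolayPt → ℤ) ∈ M)
    (hun : sqNorm (u : GolayPt → ℤ) = 32) : M = leechLattice := by
  apply le_antisymm hle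
  rw [← minGen_eq]
  unfold minGen
  rw [AddSubgroup.closure_le]
  intro x hx
  exact irr_trans32 M hinv u ⟨x, hx.1⟩ hu hun hx.2

theorem sqNorm_vecV : sqNorm Spor.vecV = 48 := by
  unfold sqNorm Spor.vecV
  decide

include hle hinv in
/-- The lattice modulo twice the lattice is irreducible. -/
theorem irr_main (h2 : ∀ v ∈ leechLattice, (2 : ℤ) • v ∈ M) :
    (∀ x ∈ M, ∃ w ∈ leechLattice, x = (2 : ℤ) • w) ∨ M = leechLattice := by
  by_cases hall : ∀ x ∈ M, ∃ w ∈ leechLattice, x = (2 : ℤ) • w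
  · exact Or.inl hall
  · right
    simp only [not_forall] at hall
    obtain ⟨x, hxM, hx⟩ := hall
    obtain ⟨y, hy, hyn, z, hz, hxy⟩ := exists_short (hle hxM)
    have e2 : (2 : ℕ) • z = (2 : ℤ) • z := by
      rw [two_nsmul, two_zsmul]
    rw [e2] at hxy
    have hyM : y ∈ M := by
      have : y = x - (2 : ℤ) • z := by rw [← hxy]; abel
      rw [this]
      exact M.sub_mem hxM (h2 z hz)
    have h01 : (none : GolayPt) ≠ some 0 := by decide
    have h23 : (some 1 : GolayPt) ≠ some 2 := by decide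
    have h24 : (some 1 : GolayPt) ≠ some 3 := by decide
    rcases short_norm_cases ⟨y, hy⟩ hyn with h | h | h | h
    · exfalso
      have hy0 : y = 0 := congrArg Subtype.val h
      rw [hy0, sub_zero] at hxy
      exact hx ⟨z, hz, hxy⟩
    · exact irr_of_short M hle hinv ⟨y, hy⟩ hyM h
    · have hVm : Spor.vecV ∈ leechLattice := AddSubgroup.subset_closure Spor.vecV_mem_leechSet
      have hd := dvec_mem h01 (a := 4) (b := -4) (Or.inl rfl) (Or.inr rfl)
      have ha : Spor.vecV ∈ M := irr_trans48 M hinv ⟨y, hy⟩ ⟨Spor.vecV, hVm⟩ hyM h sqNorm_vecV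
      have hbn : sqNorm (dvec none 4 (some 0) (-4) + Spor.vecV) = 48 := by
        rw [sqNorm_add, dotInt_dvec h01, dvec_sqNorm h01 (Or.inl rfl) (Or.inr rfl), sqNorm_vecV]
        simp [Spor.vecV]
      have hb : dvec none 4 (some 0) (-4) + Spor.vecV ∈ M :=
        irr_trans48 M hinv ⟨y, hy⟩ ⟨_, add_mem hd hVm⟩ hyM h hbn
      have hc : dvec none 4 (some 0) (-4) ∈ M := by
        have := M.sub_mem hb ha
        simpa using this
      exact irr_of_short M hle hinv ⟨_, hd⟩ hc (dvec_sqNorm h01 (Or.inl rfl) (Or.inr rfl))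
    · have hd0 := dvec_mem h01 (a := 4) (b := 4) (Or.inl rfl) (Or.inl rfl)
      have hd1 := dvec_mem h23 (a := 4) (b := 4) (Or.inl rfl) (Or.inl rfl)
      have hd2 := dvec_mem h24 (a := 4) (b := 4) (Or.inl rfl) (Or.inl rfl)
      have n0 := dvec_sqNorm h01 (a := 4) (b := 4) (Or.inl rfl) (Or.inl rfl)
      have n1 := dvec_sqNorm h23 (a := 4) (b := 4) (Or.inl rfl) (Or.inl rfl)
      have n2 := dvec_sqNorm h24 (a := 4) (b := 4) (Or.inl rfl) (Or.inl rfl)
      have han : sqNorm (dvec none 4 (some 0) 4 + dvec (some 1) 4 (some 2) 4) = 64 := by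
        rw [sqNorm_add, dotInt_dvec h01, n0, n1]
        have e1 : dvec (some 1) 4 (some 2) 4 none = 0 := by
          unfold dvec; decide
        have e2 : dvec (some 1) 4 (some 2) 4 (some 0) = 0 := by
          unfold dvec; decide
        rw [e1, e2]; norm_num
      have hbn : sqNorm (dvec none 4 (some 0) 4 + dvec (some 1) 4 (some 3) 4) = 64 := by
        rw [sqNorm_add, dotInt_dvec h01, n0, n2]
        have e1 : dvec (some 1) 4 (some 3) 4 none = 0 := by
          unfold dvec; decide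
        have e2 : dvec (some 1) 4 (some 3) 4 (some 0) = 0 := by
          unfold dvec; decide
        rw [e1, e2]; norm_num
      have hcn : sqNorm (dvec (some 1) 4 (some 2) 4 - dvec (some 1) 4 (some 3) 4) = 32 := by
        rw [sqNorm_sub', dotInt_dvec h23, n1, n2]
        have e1 : dvec (some 1) 4 (some 3) 4 (some 1) = 4 := by
          unfold dvec; decide
        have e2 : dvec (some 1) 4 (some 3) 4 (some 2) = 0 := by
          unfold dvec; decide
        rw [e1, e2]; norm_num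
      have ha : dvec none 4 (some 0) 4 + dvec (some 1) 4 (some 2) 4 ∈ M :=
        irr_trans64 M hinv ⟨y, hy⟩ ⟨_, add_mem hd0 hd1⟩ hyM h han
      have hb : dvec none 4 (some 0) 4 + dvec (some 1) 4 (some 3) 4 ∈ M :=
        irr_trans64 M hinv ⟨y, hy⟩ ⟨_, add_mem hd0 hd2⟩ hyM h hbn
      have hc : dvec (some 1) 4 (some 2) 4 - dvec (some 1) 4 (some 3) 4 ∈ M := by
        have := M.sub_mem ha hb
        have e : dvec none 4 (some 0) 4 + dvec (some 1) 4 (some 2) 4
            - (dvec none 4 (some 0) 4 + dvec (some 1) 4 (some 3) 4)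
            = dvec (some 1) 4 (some 2) 4 - dvec (some 1) 4 (some 3) 4 := by abel
        rw [e] at this
        exact this
      exact irr_of_short M hle hinv ⟨_, sub_mem hd1 hd2⟩ hc hcn

end Irred

end Cfsg.Agent.H93
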