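import Mathlib
import Cfsg.Agent.H9.M24b
import Cfsg.Agent.H93.Co0Card
import Cfsg.Agent.H33.LData64

/-!
The stabiliser of the standard cross is a maximal subgroup of the automorphism group of the
rank-24 lattice: a counting argument on the orbits of the stabiliser on the vectors of square
length 64.
-/

set_option autoImplicit false

namespace Cfsg.Agent.H93

open Cfsg MulAction

/-- A counting criterion for maximality: if the orbit of `x0` under `G` splits into the orbits of
`N` on `r 0 = x0, …, r k`, of sizes `n i`, the stabiliser of `x0` is contained in `N`, and no sum of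
the `n i` containing `n 0` other than `n 0` and the total divides the total, then every subgroup
containing `N` is `N` or `G`. -/
theorem maximal_of_count {G α : Type*} [Group G] [Finite G] [MulAction G α] (N : Subgroup G)
    (x0 : α) (hs : stabilizer G x0 ≤ N)
    (k : ℕ) (r : Fin (k + 1) → α) (hr0 : r 0 = x0) (hr : ∀ i, r i ∈ orbit G x0)
    (hne : ∀ i j, i < j → r j ∉ orbit N (r i))
    (n : Fin (k + 1) → ℕ) (hn : ∀ i, n i ≤ (orbit N (r i)).ncard)
    (hsum : (orbit G x0).ncard ≤ ∑ i, n i)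
    (harith : ∀ I : Finset (Fin (k + 1)), 0 ∈ I → (∑ i ∈ I, n i) ∣ (∑ i, n i) →
      I = {0} ∨ I = Finset.univ)
    (K : Subgroup G) (hNK : N ≤ K) : K = N ∨ K = ⊤ := by
  classical
  have hWfin : (orbit G x0).Finite := Set.finite_range _
  have hsub : ∀ i, orbit N (r i) ⊆ orbit G x0 := by
    rintro i _ ⟨h, rfl⟩
    have h1 : (h : G) • r i ∈ orbit G (r i) := ⟨(h : G), rfl⟩
    rw [orbit_eq_iff.mpr (hr i)] at h1
    exact h1
  have hfin : ∀ i, (orbit N (r i)).Finite := fun i => hWfin.subset (hsub i)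
  have hdisj : Pairwise (Function.onFun Disjoint (fun i => orbit N (r i))) := by
    intro i j hij
    rcases lt_or_gt_of_ne hij with h | h
    · refine (orbit.eq_or_disjoint (r i) (r j)).resolve_left (fun e => hne i j h ?_)
      rw [e]
      exact mem_orbit_self _
    · refine (orbit.eq_or_disjoint (r i) (r j)).resolve_left (fun e => hne j i h ?_)
      rw [← e]
      exact mem_orbit_self _
  have hU : (⋃ i, orbit N (r i)) ⊆ orbit G x0 := Set.iUnion_subset hsub
  have hcard : (⋃ i, orbit N (r i)).ncard = ∑ i, (orbit N (r i)).ncard := by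
    rw [Set.ncard_iUnion_of_finite hfin hdisj, finsum_eq_sum_of_fintype]
  have hle1 : ∑ i, n i ≤ ∑ i, (orbit N (r i)).ncard := Finset.sum_le_sum (fun i _ => hn i)
  have hle2 : (⋃ i, orbit N (r i)).ncard ≤ (orbit G x0).ncard := Set.ncard_le_ncard hU hWfin
  have hcover : (⋃ i, orbit N (r i)) = orbit G x0 :=
    Set.eq_of_subset_of_ncard_le hU (by omega) hWfin
  have hW : (orbit G x0).ncard = ∑ i, n i := by omega
  have hexact : ∀ i, (orbit N (r i)).ncard = n i := by
    have h0 : ∑ i, n i = ∑ i, (orbit N (r i)).ncard := by omega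
    have h1 := (Finset.sum_eq_sum_iff_of_le (s := Finset.univ) (fun i _ => hn i)).mp h0
    intro i
    exact (h1 i (Finset.mem_univ i)).symm
  -- the orbit of `x0` under `K`
  obtain ⟨O, hO⟩ : ∃ O : Set α, O = orbit K x0 := ⟨_, rfl⟩
  have hOsub : O ⊆ orbit G x0 := by
    rw [hO]
    rintro _ ⟨g, rfl⟩
    exact ⟨(g : G), rfl⟩
  have hOinv : ∀ y ∈ O, orbit N y ⊆ O := by
    rw [hO]
    rintro _ ⟨g, rfl⟩ _ ⟨h, rfl⟩
    exact ⟨⟨(h : G), hNK h.2⟩ * g, mul_smul _ _ _⟩
  have hpiece : ∀ i, (O ∩ orbit N (r i)).ncard = if r i ∈ O then n i else 0 := by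
    intro i
    by_cases hi : r i ∈ O
    · rw [if_pos hi, Set.inter_eq_right.mpr (hOinv _ hi), hexact]
    · rw [if_neg hi]
      have h1 : O ∩ orbit N (r i) = ∅ := by
        ext y
        simp only [Set.mem_inter_iff, Set.mem_empty_iff_false, iff_false, not_and]
        intro hy hy2
        apply hi
        have h2 : r i ∈ orbit N y := by
          rw [orbit_eq_iff.mpr hy2]; exact mem_orbit_self _
        exact hOinv y hy h2
      rw [h1, Set.ncard_empty]
  have hOcard : O.ncard = ∑ i ∈ Finset.univ.filter (fun i => r i ∈ O), n i := by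
    have h1 : O = ⋃ i, (O ∩ orbit N (r i)) := by
      rw [← Set.inter_iUnion, hcover, Set.inter_eq_left.mpr hOsub]
    have hd2 : Pairwise (Function.onFun Disjoint (fun i => O ∩ orbit N (r i))) :=
      fun i j hij => (hdisj hij).mono Set.inter_subset_right Set.inter_subset_right
    have h2 : (⋃ i, (O ∩ orbit N (r i))).ncard = ∑ i, (O ∩ orbit N (r i)).ncard := by
      rw [Set.ncard_iUnion_of_finite (fun i => (hfin i).subset Set.inter_subset_right) hd2,
        finsum_eq_sum_of_fintype]
    rw [← h1] at h2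
    rw [h2, Finset.sum_congr rfl (fun i _ => hpiece i), Finset.sum_filter]
  -- orbit-stabiliser
  have hcK := Cfsg.Agent.H9.card_eq_orbit_mul_inf K x0
  have hcN := Cfsg.Agent.H9.card_eq_orbit_mul_inf N x0
  have hcG : Nat.card G = (orbit G x0).ncard * Nat.card (stabilizer G x0) := by
    rw [← Nat.card_coe_set_eq, ← Nat.card_prod]
    exact Nat.card_congr (MulAction.orbitProdStabilizerEquivGroup G x0).symm
  rw [inf_eq_right.mpr (hs.trans hNK), ← hO] at hcK
  have hN0 : orbit N x0 = orbit N (r 0) := by rw [hr0]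
  rw [inf_eq_right.mpr hs, hN0, hexact 0] at hcN
  have hc : 0 < Nat.card (stabilizer G x0) := Nat.card_pos
  have hdvd : O.ncard ∣ ∑ i, n i := by
    have h1 := Subgroup.card_subgroup_dvd_card K
    rw [hcK, hcG, hW] at h1
    exact Nat.dvd_of_mul_dvd_mul_right hc h1
  have h0 : (0 : Fin (k + 1)) ∈ Finset.univ.filter (fun i => r i ∈ O) := by
    rw [Finset.mem_filter]
    refine ⟨Finset.mem_univ _, ?_⟩
    rw [hr0, hO]
    exact mem_orbit_self _
  rw [hOcard] at hdvd
  rcases harith _ h0 hdvd with h | h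
  · left
    rw [h, Finset.sum_singleton] at hOcard
    rw [hOcard] at hcK
    exact (Subgroup.eq_of_le_of_card_ge hNK (by rw [hcK, hcN])).symm
  · right
    rw [h, ← hW] at hOcard
    rw [hOcard, ← hcG] at hcK
    exact (Subgroup.card_eq_iff_eq_top K).mp hcK

open Cfsg.Agent.H9 Cfsg.Agent.H33

local notation "SC" => supports (golayCode : Set (GolayPt → ZMod 2))

/-- The orbits of the stabiliser of the standard cross on the vectors of a given square length,
from the data of the transitivity proof. -/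
theorem orbit_data (N : ℕ) (hN : N ≤ 64) (k : ℕ) (P : ℕ → ℕ) (hk : 0 < k)
    (hL : ∀ i < k, vec (P i) ∈ leechLattice)
    (hnorm : sqV (P 0) = N)
    (hpath : ∀ i < k, CoRel (vec (P 0)) (vec (P i)))
    (b c n : ℕ → ℕ)
    (hB : ∀ i < k, (monoB (vec (P i))).ncard ≤ b i)
    (hC : ∀ i < k, (monoC (vec (P i))).ncard ≤ c i)
    (hn : ∀ i < k, n i * (c i * b i) = 4096 * 244823040)
    (hsum : (V N).card ≤ sumF n k)
    (sp : List (ℕ × ℕ))
    (hlab : allB (fun i => allB (fun j => Nat.ble j i ||
      (!(Nat.beq (q4V (P i)) (q4V (P j))) || memPair i j sp)) k) k = true)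
    (hsp : ∀ p ∈ sp, ¬ ∃ σ ∈ M24, ∃ e ∈ SC, vec (P p.2) = signedPerm σ e (vec (P p.1))) :
    ∃ (v0 : leechLattice) (r : Fin k → leechLattice), (v0 : GolayPt → ℤ) = vec (P 0) ∧
      (∀ i, (r i : GolayPt → ℤ) = vec (P i)) ∧ (∀ i, r i ∈ orbit ↥Co0 v0) ∧
      (∀ i j : Fin k, i < j → r j ∉ orbit ↥crossStab (r i)) ∧
      (∀ i : Fin k, n i ≤ (orbit ↥crossStab (r i)).ncard) ∧
      (orbit ↥Co0 v0).ncard ≤ ∑ i : Fin k, n i := by
  classical
  have hP0 : vec (P 0) ∈ leechLattice := hL 0 hk
  obtain ⟨v0, hv0⟩ : ∃ v0 : leechLattice, (v0 : GolayPt → ℤ) = vec (P 0) := ⟨⟨_, hP0⟩, rfl⟩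
  obtain ⟨r, hr0⟩ : ∃ r : Fin k → leechLattice, ∀ i, (r i : GolayPt → ℤ) = vec (P i) :=
    ⟨fun i => ⟨vec (P i), hL i i.2⟩, fun _ => rfl⟩
  have hO : orbit ↥Co0 v0 ⊆ normSet N := by
    rintro _ ⟨g, rfl⟩
    show sqNorm (((g : Equiv.Perm leechLattice) v0 : leechLattice) : GolayPt → ℤ) = (N : ℤ)
    rw [g.2.2 v0, hv0, sqNorm_vec, hnorm]
  have hr : ∀ i, r i ∈ orbit ↥Co0 v0 := by
    intro i
    obtain ⟨g, hg, hx, e⟩ := hpath i i.2
    refine ⟨⟨g, hg⟩, Subtype.ext ?_⟩
    rw [hr0 i, ← e]
    have : v0 = ⟨vec (P 0), hx⟩ := Subtype.ext hv0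
    rw [this]
    rfl
  have hne : ∀ i j : Fin k, i < j → r j ∉ orbit ↥crossStab (r i) := by
    intro i j hij hmem
    obtain ⟨σ, hσ, e, he, hform⟩ := crossOrb_signed hmem
    rw [hr0, hr0] at hform
    have h1 := (allB_iff _ _).mp ((allB_iff _ _).mp hlab i i.2) j j.2
    simp only [Bool.or_eq_true] at h1
    rcases h1 with h1 | h1 | h1
    · have h2 : (j : ℕ) ≤ i := Nat.le_of_ble_eq_true h1
      have h3 : (i : ℕ) < j := hij
      omega
    · have hq : (q4V (P j) : ℤ) = q4V (P i) := by
        rw [← q4_vec, ← q4_vec, hform]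
        exact q4_signedPerm σ e _
      have h2 : q4V (P i) = q4V (P j) := by exact_mod_cast hq.symm
      rw [h2, Nat.beq_refl] at h1
      exact absurd h1 (by decide)
    · exact hsp _ (memPair_sound h1) ⟨σ, hσ, e, he, hform⟩
  have hn' : ∀ i : Fin k, n i ≤ (orbit ↥crossStab (r i)).ncard := by
    intro i
    apply mono_orbit_bound (r i) (b i) (c i) (n i) _ _ (hn i i.2)
    · rw [hr0]; exact hB i i.2
    · rw [hr0]; exact hC i i.2
  have hsum' : (normSet N).ncard ≤ ∑ i : Fin k, n i := by
    calc (normSet N).ncard ≤ (V N).card := normSet_ncard_le hN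
      _ ≤ sumF n k := hsum
      _ = ∑ i : Fin k, n i := by rw [sumF_eq, Finset.sum_range]
  exact ⟨v0, r, hv0, hr0, hr, hne, hn',
    (Set.ncard_le_ncard hO (normSet_finite hN)).trans hsum'⟩

/-- The orbits of the stabiliser of the standard cross on the vectors of square length 64. -/
theorem orbit_data64 :
    ∃ (v0 : leechLattice) (r : Fin 9 → leechLattice), (v0 : GolayPt → ℤ) = vec (repP64 0) ∧
      (∀ i, (r i : GolayPt → ℤ) = vec (repP64 i)) ∧ (∀ i, r i ∈ orbit ↥Co0 v0) ∧
      (∀ i j : Fin 9, i < j → r j ∉ orbit ↥crossStab (r i)) ∧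
      (∀ i : Fin 9, repN64 i ≤ (orbit ↥crossStab (r i)).ncard) ∧
      (orbit ↥Co0 v0).ncard ≤ ∑ i : Fin 9, repN64 i := by
  refine orbit_data 64 (by norm_num) 9 repP64 (by norm_num) ?_ ?_ ?_ repB64 repC64 repN64
    ?_ ?_ ?_ ?_ [(2, 3)] ?_ ?_
  · intro i hi
    interval_cases i
    · exact E64_mem
    · exact Q64_rel.mem_right
    · exact S64a_rel.mem_right
    · exact S64b_rel.mem_right
    · exact H64_rel.mem_right
    · exact P64_rel.mem_right
    · exact G64_rel.mem_right
    · exact K64_rel.mem_right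
    · exact L64_rel.mem_right
  · decide +kernel
  · intro i hi
    interval_cases i
    · exact CoRel.refl E64_mem
    · exact Q64_rel
    · exact S64a_rel
    · exact S64b_rel
    · exact H64_rel
    · exact P64_rel
    · exact G64_rel
    · exact K64_rel
    · exact L64_rel
  · intro i hi
    interval_cases i
    · exact E64_B
    · exact Q64_B
    · exact S64a_B
    · exact S64b_B
    · exact H64_B
    · exact P64_B
    · exact G64_B
    · exact K64_B
    · exact L64_B
  · intro i hi
    interval_cases i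
    · exact E64_C
    · exact Q64_C
    · exact S64a_C
    · exact S64b_C
    · exact H64_C
    · exact P64_C
    · exact G64_C
    · exact K64_C
    · exact L64_C
  · decide +kernel
  · rw [card_V64]
    decide +kernel
  · decide +kernel
  · intro p hp
    rw [List.mem_singleton] at hp
    subst hp
    exact special_ne (os := [0xf6840]) (by decide +kernel) (by decide +kernel) (by decide +kernel)

theorem rep64_arith : ∀ I : Finset (Fin (8 + 1)), 0 ∈ I →
    (∑ i ∈ I, repN64 i) ∣ (∑ i : Fin (8 + 1), repN64 i) → I = {0} ∨ I = Finset.univ := by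
  decide +kernel

theorem co0_card : Nat.card ↥Co0 = 8315553613086720000 :=
  co0_card_of_trans (fun w hw => by
    obtain ⟨g, hg, e⟩ := co0_trans64 E0 w (sqNorm_bvec none) hw
    exact ⟨⟨g, hg⟩, congrArg Subtype.val e⟩)

/-- The stabiliser of the standard cross is maximal: a subgroup containing it is equal to it or
is the whole group. -/
theorem crossStab_max (K : Subgroup ↥Co0) (hK : crossStab ≤ K) : K = crossStab ∨ K = ⊤ := by
  obtain ⟨v0, r, hv0, hr0, hr, hne, hn, hsum⟩ := orbit_data64
  have : Finite ↥Co0 := Nat.finite_of_card_ne_zero (by rw [co0_card]; norm_num)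
  have h0 : r 0 = v0 := Subtype.ext (by rw [hr0, hv0]; rfl)
  refine maximal_of_count crossStab v0 ?_ 8 r h0 hr hne (fun i => repN64 i) hn hsum
    rep64_arith K hK
  intro g hg
  rw [mem_crossStab]
  have hg' : (g : Equiv.Perm leechLattice) v0 = v0 := mem_stabilizer_iff.mp hg
  have hc : cl (v0 : GolayPt → ℤ) = cl (E0 : GolayPt → ℤ) := by
    rw [hv0]
    apply cl_eq_iff.mpr
    have h01 : (some 0 : GolayPt) ≠ none := by decide
    refine ⟨dvec (some 0) 4 none (-4), dvec_mem h01 (Or.inl rfl) (Or.inr rfl), ?_⟩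
    funext p
    have key : ∀ p : GolayPt, vec (repP64 0) p - bvec none p
        = 2 * dvec (some 0) 4 none (-4) p := by
      unfold vec bvec dvec
      decide +kernel
    show vec (repP64 0) p - bvec none p = ((2 : ℕ) • dvec (some 0) 4 none (-4)) p
    rw [key p]
    simp
  rw [← cl_map_of g.2 hc, hg']
  exact hc

theorem crossStab_ne_top : crossStab ≠ ⊤ := by
  intro h
  have h1 := card_crossStab
  rw [h, Subgroup.card_top, co0_card] at h1
  norm_num at h1

/-- The stabiliser of the standard cross is a maximal proper subgroup. -/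
theorem crossStab_isCoatom : IsCoatom crossStab :=
  ⟨crossStab_ne_top, fun K hK => (crossStab_max K hK.le).resolve_left (ne_of_gt hK)⟩

end Cfsg.Agent.H93
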