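import Mathlib
import Cfsg.Agent.S0365
import Cfsg.Agent.H33.OctMax
import Cfsg.Agent.H33.DodMax
import Cfsg.Agent.H33.LRep
import Cfsg.Agent.H93.CrossMax
import Cfsg.Agent.H93.CoMod2
import Cfsg.Agent.H93.GolayRigidData

/-!
Monomial elements of the stabiliser of the standard cross in the automorphism group of the
rank-24 lattice, the irreducibility of the length-24 code modulo the full word under its group,
and the normal subgroups of the automorphism group that contain an element of order 23 of the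
stabiliser.
-/

set_option autoImplicit false

namespace Cfsg.Agent.H93

open Cfsg Cfsg.Agent.H9 Cfsg.Agent.H33
open scoped Pointwise

local notation "SC" => supports (golayCode : Set (GolayPt → ZMod 2))

/-- The element `g` acts as the signed permutation with permutation `σ` and sign set `c`. -/
def ActsAs (g : ↥Co0) (σ : Equiv.Perm GolayPt) (c : Finset GolayPt) : Prop :=
  ∀ v : leechLattice, (((g : Equiv.Perm leechLattice) v : leechLattice) : GolayPt → ℤ)
    = signedPerm σ c (v : GolayPt → ℤ)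

/-- The sign change on the support of a code word, as an element of the group. -/
def sgE (c : Finset GolayPt) (hc : c ∈ SC) : ↥Co0 := ⟨sgPerm c hc, sgPerm_mem c hc⟩

/-- The monomial element of a permutation and the support of a code word. -/
def monoE (σ : Equiv.Perm GolayPt) (hσ : σ ∈ M24) (c : Finset GolayPt) (hc : c ∈ SC) : ↥Co0 :=
  ⟨monoPerm σ hσ c hc, monoPerm_mem σ hσ c hc⟩

theorem actsAs_monoE (σ : Equiv.Perm GolayPt) (hσ : σ ∈ M24) (c : Finset GolayPt) (hc : c ∈ SC) :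
    ActsAs (monoE σ hσ c hc) σ c := fun _ => rfl

theorem actsAs_sgE (c : Finset GolayPt) (hc : c ∈ SC) : ActsAs (sgE c hc) 1 c := by
  intro v
  show sg c (v : GolayPt → ℤ) = _
  funext i
  have e : (Equiv.symm (1 : Equiv.Perm GolayPt)) i = i := rfl
  simp [sg, signedPerm, e]

theorem actsAs_one : ActsAs 1 1 ∅ := by
  intro v
  funext i
  have e : (Equiv.symm (1 : Equiv.Perm GolayPt)) i = i := rfl
  simp [signedPerm, e]

theorem actsAs_ext {g g' : ↥Co0} {σ : Equiv.Perm GolayPt} {c : Finset GolayPt}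
    (h : ActsAs g σ c) (h' : ActsAs g' σ c) : g = g' :=
  Subtype.ext (Equiv.ext fun v => Subtype.ext ((h v).trans (h' v).symm))

theorem actsAs_mul {g g' : ↥Co0} {σ σ' : Equiv.Perm GolayPt} {c c' : Finset GolayPt}
    (h : ActsAs g σ c) (h' : ActsAs g' σ' c') :
    ActsAs (g * g') (σ * σ') (symmDiff c (σ • c')) := by
  intro v
  show (((g : Equiv.Perm leechLattice) ((g' : Equiv.Perm leechLattice) v) : leechLattice)
    : GolayPt → ℤ) = _
  rw [h, h']
  funext i
  have h4 : (i ∈ σ • c') ↔ σ.symm i ∈ c' := by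
    rw [← Finset.inv_smul_mem_iff]
    rfl
  have h5 : (σ * σ').symm i = σ'.symm (σ.symm i) := rfl
  unfold signedPerm
  rw [h5]
  by_cases h1 : i ∈ c <;> by_cases h2 : σ.symm i ∈ c' <;>
    simp [Finset.mem_symmDiff, h1, h2, h4]

theorem actsAs_pow {g : ↥Co0} {σ : Equiv.Perm GolayPt} {c : Finset GolayPt}
    (h : ActsAs g σ c) (n : ℕ) : ∃ c' : Finset GolayPt, ActsAs (g ^ n) (σ ^ n) c' := by
  induction n with
  | zero => exact ⟨∅, by rw [pow_zero, pow_zero]; exact actsAs_one⟩
  | succ n ih =>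
    obtain ⟨c', hc'⟩ := ih
    exact ⟨_, by rw [pow_succ, pow_succ]; exact actsAs_mul hc' h⟩

theorem actsAs_one_perm {σ : Equiv.Perm GolayPt} {c : Finset GolayPt}
    (h : ActsAs 1 σ c) : σ = 1 := by
  apply Equiv.ext
  intro i
  show σ i = i
  by_contra hne
  have h1 := h ⟨bvec i, bvec_mem i⟩
  have h2 : (((1 : ↥Co0) : Equiv.Perm leechLattice) ⟨bvec i, bvec_mem i⟩ : leechLattice)
      = ⟨bvec i, bvec_mem i⟩ := rfl
  rw [h2] at h1
  simp only at h1
  unfold bvec at h1
  rw [signedPerm_single] at h1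
  have h3 := congrFun h1 (σ i)
  rw [Pi.single_eq_same, Pi.single_eq_of_ne hne] at h3
  split_ifs at h3 <;> norm_num at h3

theorem actsAs_sq {g : ↥Co0} {c : Finset GolayPt} (h : ActsAs g 1 c) : g * g = 1 := by
  have h1 := actsAs_mul h h
  have h2 : symmDiff c ((1 : Equiv.Perm GolayPt) • c) = ∅ := by
    rw [one_smul, symmDiff_self, Finset.bot_eq_empty]
  rw [h2, mul_one] at h1
  exact actsAs_ext h1 actsAs_one

/-- The permutation of an element of order 23 has order 23. -/
theorem actsAs_order23 {g : ↥Co0} {σ : Equiv.Perm GolayPt} {c : Finset GolayPt}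
    (h : ActsAs g σ c) (h23 : g ^ 23 = 1) (hg : g ≠ 1) : σ ≠ 1 ∧ σ ^ 23 = 1 := by
  constructor
  · rintro rfl
    apply hg
    have h1 := actsAs_sq h
    have h2 : g ^ 22 = 1 := by
      have : g ^ 22 = (g * g) ^ 11 := by rw [← pow_two, ← pow_mul]
      rw [this, h1, one_pow]
    have h3 : g ^ 23 = g ^ 22 * g := pow_succ g 22
    rw [h2, one_mul] at h3
    rw [← h3, h23]
  · obtain ⟨c', hc'⟩ := actsAs_pow h 23
    rw [h23] at hc'
    exact actsAs_one_perm hc'

theorem crossStab_actsAs (g : ↥Co0) (hg : g ∈ crossStab) :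
    ∃ σ ∈ M24, ∃ c ∈ SC, ActsAs g σ c :=
  cross_structure g.1 g.2 ((mem_crossStab_iff g).mp hg)

theorem actsAs_mem_crossStab {g : ↥Co0} {σ : Equiv.Perm GolayPt} {c : Finset GolayPt}
    (h : ActsAs g σ c) : g ∈ crossStab := by
  rw [mem_crossStab_iff]
  rintro v ⟨i, s, hs, hv⟩
  show (((g : Equiv.Perm leechLattice) v : leechLattice) : GolayPt → ℤ) ∈ stdCross
  rw [h v, hv, signedPerm_single]
  refine ⟨σ i, _, ?_, rfl⟩
  split_ifs <;> rcases hs with rfl | rfl <;> simp

theorem sgE_mul (a b : Finset GolayPt) (ha : a ∈ SC) (hb : b ∈ SC) (hab : symmDiff a b ∈ SC) :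
    sgE a ha * sgE b hb = sgE (symmDiff a b) hab :=
  Subtype.ext (Equiv.ext fun v => Subtype.ext (sg_comp a b v.1))

theorem sgE_inv (a : Finset GolayPt) (ha : a ∈ SC) : (sgE a ha)⁻¹ = sgE a ha :=
  inv_eq_of_mul_eq_one_left
    (Subtype.ext (Equiv.ext fun v => Subtype.ext (sg_sg a v.1)))

/-- Conjugation of a sign change by a monomial element. -/
theorem sgE_conj {g : ↥Co0} {σ : Equiv.Perm GolayPt} {c : Finset GolayPt} (h : ActsAs g σ c)
    (d : Finset GolayPt) (hd : d ∈ SC) (hd' : σ • d ∈ SC) :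
    g * sgE d hd * g⁻¹ = sgE (σ • d) hd' := by
  rw [mul_inv_eq_iff_eq_mul]
  have h1 := actsAs_mul h (actsAs_sgE d hd)
  have h2 := actsAs_mul (actsAs_sgE (σ • d) hd') h
  rw [mul_one] at h1
  rw [one_mul, one_smul, symmDiff_comm] at h2
  exact actsAs_ext h1 h2

theorem empty_mem_SC : (∅ : Finset GolayPt) ∈ SC :=
  ⟨0, zero_mem _, by simp [support₂]⟩

/-- The coordinate permutations, as a homomorphism. -/
def pmHom : ↥M24 →* ↥Co0 where
  toFun ρ := monoE ρ.1 ρ.2 ∅ empty_mem_SC
  map_one' := actsAs_ext (actsAs_monoE _ _ _ _) actsAs_one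
  map_mul' ρ τ := by
    have h1 := actsAs_mul (actsAs_monoE ρ.1 ρ.2 ∅ empty_mem_SC)
      (actsAs_monoE τ.1 τ.2 ∅ empty_mem_SC)
    have h2 : symmDiff (∅ : Finset GolayPt) (ρ.1 • (∅ : Finset GolayPt)) = ∅ := by
      rw [Finset.smul_finset_empty, symmDiff_self, Finset.bot_eq_empty]
    rw [h2] at h1
    exact actsAs_ext (actsAs_monoE _ _ _ _) h1

theorem actsAs_pmHom (ρ : ↥M24) : ActsAs (pmHom ρ) ρ.1 ∅ := actsAs_monoE _ _ _ _

theorem actsAs_decomp {g : ↥Co0} {σ : Equiv.Perm GolayPt} {c : Finset GolayPt}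
    (h : ActsAs g σ c) (hσ : σ ∈ M24) (hc : c ∈ SC) : g = sgE c hc * pmHom ⟨σ, hσ⟩ := by
  have h1 := actsAs_mul (actsAs_sgE c hc) (actsAs_pmHom ⟨σ, hσ⟩)
  have h2 : symmDiff c ((1 : Equiv.Perm GolayPt) • (∅ : Finset GolayPt)) = c := by
    rw [Finset.smul_finset_empty, ← Finset.bot_eq_empty, symmDiff_bot]
  rw [h2, one_mul] at h1
  exact actsAs_ext h h1

/-! ### The code modulo the full word is irreducible under its group -/

theorem fs_mem_SC_of {m : ℕ} (h : isGolay m = true) : fs m ∈ SC := by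
  obtain ⟨k, hk, rfl⟩ := isGolay_iff.mp h
  exact (mem_supports_iff _).mpr ⟨k, hk, rfl⟩

theorem fs_mem_octads_of {m : ℕ} (h : isGolay m = true) (h8 : pcT m = 8) : fs m ∈ octads :=
  ⟨fs_mem_SC_of h, by rw [card_fs', h8]⟩

theorem fs_mem_dodecads_of {m : ℕ} (h : isGolay m = true) (h8 : pcT m = 12) :
    fs m ∈ dodecads :=
  ⟨fs_mem_SC_of h, by rw [card_fs', h8]⟩

theorem rgBL_octads : ∀ m ∈ rgBL.tail, isGolay m = true ∧ pcT m = 8 := by
  decide +kernel

/-- A family of supports of code words closed under symmetric differences and under the group of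
the code, with a member other than the empty and the full set, consists of all the supports. -/
theorem golay_irr (D : Set (Finset GolayPt))
    (hsymm : ∀ a ∈ D, ∀ b ∈ D, symmDiff a b ∈ D)
    (hsmul : ∀ ρ ∈ M24, ∀ a ∈ D, ρ • a ∈ D)
    (e0 : Finset GolayPt) (he0 : e0 ∈ D) (hSC : e0 ∈ SC) (hne : e0 ≠ ∅)
    (hnu : e0 ≠ Finset.univ) : ∀ e ∈ SC, e ∈ D := by
  have hoct : ∀ o ∈ octads, o ∈ D → ∀ o' ∈ octads, o' ∈ D := by
    intro o ho hoD o' ho'
    have h1 : o' ∈ MulAction.orbit Cfsg.M24 o := by rw [orbit_octad ho]; exact ho'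
    obtain ⟨g, rfl⟩ := h1
    exact hsmul g.1 g.2 o hoD
  have hdod : ∀ o ∈ dodecads, o ∈ D → ∀ o' ∈ dodecads, o' ∈ D := by
    intro o ho hoD o' ho'
    have h1 : o' ∈ MulAction.orbit Cfsg.M24 o := by rw [orbit_dodecad ho]; exact ho'
    obtain ⟨g, rfl⟩ := h1
    exact hsmul g.1 g.2 o hoD
  have hex : ∃ o ∈ octads, o ∈ D := by
    obtain ⟨k, hk, rfl⟩ := (mem_supports_iff e0).mp hSC
    have hw := weights_cw k hk
    rw [← card_fs] at hw
    rcases hw with h | h | h | h | h
    · exact absurd (Finset.card_eq_zero.mp h) hne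
    · exact ⟨_, ⟨hSC, h⟩, he0⟩
    · have hd0 : fs (cw k) ∈ dodecads := ⟨hSC, h⟩
      have h1 : fs 0x7ba01b ∈ D := hdod _ hd0 he0 _
        (fs_mem_dodecads_of (by decide +kernel) (by decide +kernel))
      have h2 : fs 0xe6e01d ∈ D := hdod _ hd0 he0 _
        (fs_mem_dodecads_of (by decide +kernel) (by decide +kernel))
      have h3 := hsymm _ h1 _ h2
      rw [← fs_xor] at h3
      exact ⟨_, fs_mem_octads_of (by decide +kernel) (by decide +kernel), h3⟩
    · have hc : (fs (cw k))ᶜ ∈ octads := by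
        refine ⟨?_, ?_⟩
        · rw [← fs_compl]
          exact fs_mem_SC_of (isGolay_xor (isGolay_iff.mpr ⟨k, hk, rfl⟩) isGolay_full)
        · rw [Finset.card_compl, h, card_golayPt]
      have hall : ∀ o' ∈ octads, o'ᶜ ∈ D := by
        intro o' ho'
        have h1 : o' ∈ MulAction.orbit Cfsg.M24 (fs (cw k))ᶜ := by
          rw [orbit_octad hc]; exact ho'
        obtain ⟨g, rfl⟩ := h1
        have h2 : (g • (fs (cw k))ᶜ)ᶜ = g.1 • fs (cw k) := by
          have h3 : g • (fs (cw k))ᶜ = g.1 • (fs (cw k))ᶜ := rfl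
          rw [h3, smul_compl', compl_compl]
        rw [h2]
        exact hsmul g.1 g.2 _ he0
      have h1 := hall (fs 0x11b8c) (fs_mem_octads_of (by decide +kernel) (by decide +kernel))
      have h2 := hall (fs 0x149f) (fs_mem_octads_of (by decide +kernel) (by decide +kernel))
      have h3 := hsymm _ h1 _ h2
      rw [symmDiff_compl_left', symmDiff_compl_right', compl_compl, ← fs_xor] at h3
      exact ⟨_, fs_mem_octads_of (by decide +kernel) (by decide +kernel), h3⟩
    · exfalso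
      apply hnu
      rw [← Finset.card_eq_iff_eq_univ, h, card_golayPt]
  obtain ⟨o, ho, hoD⟩ := hex
  have hO : ∀ m, isGolay m = true → pcT m = 8 → fs m ∈ D :=
    fun m h h8 => hoct o ho hoD _ (fs_mem_octads_of h h8)
  have hempty : (∅ : Finset GolayPt) ∈ D := by
    have h := hsymm _ he0 _ he0
    rwa [symmDiff_self, Finset.bot_eq_empty] at h
  have huniv : fs 0xffffff ∈ D := by
    have h1 := hO 0x8ea003 (by decide +kernel) (by decide +kernel)
    have h2 := hO 0x31412c (by decide +kernel) (by decide +kernel)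
    have h3 := hO 0x401ed0 (by decide +kernel) (by decide +kernel)
    have h4 := hsymm _ (hsymm _ h1 _ h2) _ h3
    rw [← fs_xor, ← fs_xor] at h4
    exact h4
  have hBL : ∀ m ∈ rgBL, fs m ∈ D := by
    intro m hm
    have h0 : rgBL = 0xffffff :: rgBL.tail := rfl
    rw [h0] at hm
    rcases List.mem_cons.mp hm with rfl | hm
    · exact huniv
    · obtain ⟨h1, h2⟩ := rgBL_octads m hm
      exact hO m h1 h2
  have hcomb : ∀ l : List ℕ, (∀ m ∈ l, fs m ∈ D) → ∀ s, fs (comb l s) ∈ D := by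
    intro l
    induction l with
    | nil =>
      intro _ s
      have : comb [] s = 0 := rfl
      rw [this, fs_zero]
      exact hempty
    | cons b bs ih =>
      intro hl s
      have h1 : comb (b :: bs) s = ((s % 2) * b) ^^^ comb bs (s / 2) := rfl
      have h2 := ih (fun m hm => hl m (List.mem_cons_of_mem _ hm)) (s / 2)
      rw [h1]
      rcases Nat.mod_two_eq_zero_or_one s with h | h
      · rw [h, Nat.zero_mul, Nat.zero_xor]
        exact h2
      · rw [h, Nat.one_mul, fs_xor]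
        exact hsymm _ (hl b List.mem_cons_self) _ h2
  intro e he
  obtain ⟨k, hk, rfl⟩ := (mem_supports_iff e).mp he
  have hd : comb rgBL (rgDcd rgDL (cw k)) = cw k := by
    have h := (allB_iff _ _).mp rg_decode k hk
    rw [cwN_eq] at h
    exact Nat.eq_of_beq_eq_true h
  rw [← hd]
  exact hcomb rgBL hBL _

/-! ### Normal subgroups meeting the stabiliser of the cross in an element of order 23 -/

/-- A normal subgroup containing a monomial element whose permutation is nontrivial and has a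
fixed point contains all sign changes. -/
theorem sgE_mem_of_normal (M : Subgroup ↥Co0) [M.Normal] (t : ↥Co0) (htM : t ∈ M)
    (σ : Equiv.Perm GolayPt) (c : Finset GolayPt) (hσ : σ ∈ M24) (ht : ActsAs t σ c)
    (hσ1 : σ ≠ 1) (j : GolayPt) (hj : σ j = j) :
    ∀ (d : Finset GolayPt) (hd : d ∈ SC), sgE d hd ∈ M := by
  obtain ⟨D, hD⟩ : ∃ D : Set (Finset GolayPt), D = {e | ∃ he : e ∈ SC, sgE e he ∈ M} :=
    ⟨_, rfl⟩
  have hsymm : ∀ a ∈ D, ∀ b ∈ D, symmDiff a b ∈ D := by
    intro a ha b hb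
    rw [hD] at ha hb ⊢
    obtain ⟨ha1, ha2⟩ := ha
    obtain ⟨hb1, hb2⟩ := hb
    refine ⟨symmDiff_mem_supports ha1 hb1, ?_⟩
    rw [← sgE_mul a b ha1 hb1]
    exact mul_mem ha2 hb2
  have hsmul : ∀ ρ ∈ M24, ∀ a ∈ D, ρ • a ∈ D := by
    intro ρ hρ a ha
    rw [hD] at ha ⊢
    obtain ⟨ha1, ha2⟩ := ha
    refine ⟨smul_mem_supports hρ ha1, ?_⟩
    rw [← sgE_conj (actsAs_pmHom ⟨ρ, hρ⟩) a ha1]
    exact Subgroup.Normal.conj_mem inferInstance _ ha2 _
  obtain ⟨k, hk⟩ : ∃ k, σ k ≠ k := by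
    by_contra hall
    push Not at hall
    exact hσ1 (Equiv.ext hall)
  obtain ⟨d, hd, hkd, hσkd⟩ := exists_sep (σ k) k hk
  have hd' : σ • d ∈ SC := smul_mem_supports hσ hd
  have he0 : symmDiff (σ • d) d ∈ D := by
    rw [hD]
    refine ⟨symmDiff_mem_supports hd' hd, ?_⟩
    rw [← sgE_mul (σ • d) d hd' hd, ← sgE_conj ht d hd hd']
    have h1 : sgE d hd * t⁻¹ * (sgE d hd)⁻¹ ∈ M :=
      Subgroup.Normal.conj_mem inferInstance _ (inv_mem htM) _
    have h2 : t * sgE d hd * t⁻¹ * sgE d hd = t * (sgE d hd * t⁻¹ * (sgE d hd)⁻¹) := by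
      rw [sgE_inv]; group
    rw [h2]
    exact mul_mem htM h1
  have hne : symmDiff (σ • d) d ≠ ∅ := by
    intro h
    have h1 : σ k ∈ symmDiff (σ • d) d := by
      rw [Finset.mem_symmDiff]
      left
      exact ⟨Finset.smul_mem_smul_finset hkd, hσkd⟩
    rw [h] at h1
    exact absurd h1 (Finset.notMem_empty _)
  have hnu : symmDiff (σ • d) d ≠ Finset.univ := by
    intro h
    have h1 : j ∈ symmDiff (σ • d) d := by rw [h]; exact Finset.mem_univ _
    have h4 : (j ∈ σ • d) ↔ j ∈ d := by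
      rw [← Finset.inv_smul_mem_iff]
      have : σ⁻¹ • j = j := by
        show σ⁻¹ j = j
        rw [Equiv.Perm.inv_eq_iff_eq, hj]
      rw [this]
    rw [Finset.mem_symmDiff, h4] at h1
    tauto
  have hall := golay_irr D hsymm hsmul _ he0 (symmDiff_mem_supports hd' hd) hne hnu
  intro e he
  have h := hall e he
  rw [hD] at h
  obtain ⟨_, h2⟩ := h
  exact h2

/-- A normal subgroup containing an element of order 23 of the stabiliser of the standard cross
contains the stabiliser. -/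
theorem crossStab_le_of_order23 (M : Subgroup ↥Co0) [M.Normal] (t : ↥Co0) (htM : t ∈ M)
    (htN : t ∈ crossStab) (h23 : t ^ 23 = 1) (ht1 : t ≠ 1) : crossStab ≤ M := by
  obtain ⟨σ, hσ, c, hc, ht⟩ := crossStab_actsAs t htN
  obtain ⟨hσ1, hσ23⟩ := actsAs_order23 ht h23 ht1
  have : Fact (Nat.Prime 23) := ⟨by norm_num⟩
  obtain ⟨j, hj⟩ := Equiv.Perm.exists_fixed_point_of_prime (p := 23) (n := 1)
    (by rw [card_golayPt]; norm_num) (σ := σ) (by rw [pow_one]; exact hσ23)
  have hsg := sgE_mem_of_normal M t htM σ c hσ ht hσ1 j hj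
  have hsimple : IsSimpleGroup ↥M24 := Cfsg.Agent.S0365.result
  have hSh : (M.comap pmHom) = ⊤ := by
    refine ((Subgroup.Normal.comap inferInstance pmHom).eq_bot_or_eq_top).resolve_left ?_
    intro hbot
    have h1 : (⟨σ, hσ⟩ : ↥M24) ∈ M.comap pmHom := by
      rw [Subgroup.mem_comap]
      have h2 := actsAs_decomp ht hσ hc
      have h3 : pmHom ⟨σ, hσ⟩ = (sgE c hc)⁻¹ * t := by rw [h2]; group
      rw [h3]
      exact mul_mem (inv_mem (hsg c hc)) htM
    rw [hbot, Subgroup.mem_bot] at h1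
    exact hσ1 (congrArg Subtype.val h1)
  intro n hn
  obtain ⟨ρ, hρ, c', hc', hn'⟩ := crossStab_actsAs n hn
  rw [actsAs_decomp hn' hρ hc']
  refine mul_mem (hsg c' hc') ?_
  have h1 : (⟨ρ, hρ⟩ : ↥M24) ∈ M.comap pmHom := by rw [hSh]; exact Subgroup.mem_top _
  exact h1

end Cfsg.Agent.H93
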