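import Mathlib
import Cfsg.Agent.H93.CoSimple1

/-!
The normal subgroups of the automorphism group of the rank-24 lattice: each is contained in the
centre or is the whole group.
-/

set_option autoImplicit false

namespace Cfsg.Agent.H93

open Cfsg Cfsg.Agent.H9 Cfsg.Agent.H33
open scoped Pointwise

local notation "SC" => supports (golayCode : Set (GolayPt → ZMod 2))

theorem co0_map_zero {g : Equiv.Perm leechLattice} (hg : g ∈ Co0) : g 0 = 0 := by
  have := hg.1 0 0
  rw [add_zero] at this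
  exact left_eq_add.mp this

theorem co0_map_neg {g : Equiv.Perm leechLattice} (hg : g ∈ Co0) (v : leechLattice) :
    g (-v) = -g v := by
  have h1 := hg.1 (-v) v
  rw [neg_add_cancel, co0_map_zero hg] at h1
  exact eq_neg_of_add_eq_zero_left h1.symm

theorem cl_add (x y : GolayPt → ℤ) : cl (x + y) = cl x + cl y := rfl

theorem cl_neg (x : GolayPt → ℤ) : cl (-x) = -cl x := rfl

/-- A vector of square length 64 whose squared coordinates are invariant under a permutation of
order 23 lies in the standard cross. -/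
theorem fix23_stdCross (σ : Equiv.Perm GolayPt) (hσ1 : σ ≠ 1) (hσ23 : σ ^ 23 = 1)
    (w : GolayPt → ℤ) (hw : sqNorm w = 64) (hinv : ∀ i, w (σ i) ^ 2 = w i ^ 2) :
    w ∈ stdCross := by
  obtain ⟨k, hk⟩ : ∃ k, σ k ≠ k := by
    by_contra hall
    push Not at hall
    exact hσ1 (Equiv.ext hall)
  have hper : Function.IsPeriodicPt σ 23 k := by
    show σ^[23] k = k
    rw [Equiv.Perm.iterate_eq_pow, hσ23]
    rfl
  have hmin : Function.minimalPeriod σ k = 23 := by
    have h1 := hper.minimalPeriod_dvd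
    rcases (Nat.dvd_prime (by norm_num : Nat.Prime 23)).mp h1 with h | h
    · exact absurd (Function.minimalPeriod_eq_one_iff_isFixedPt.mp h) hk
    · exact h
  have hinj : Set.InjOn (fun n : ℕ => σ^[n] k) (Set.Iio 23) := by
    rw [← hmin]
    exact Function.iterate_injOn_Iio_minimalPeriod
  obtain ⟨S, hS⟩ : ∃ S : Finset GolayPt,
      S = (Finset.range 23).image (fun n : ℕ => σ^[n] k) := ⟨_, rfl⟩
  have hScard : S.card = 23 := by
    rw [hS, Finset.card_image_of_injOn, Finset.card_range]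
    intro a ha b hb hab
    exact hinj (by simpa using ha) (by simpa using hb) hab
  have hiter : ∀ n : ℕ, w (σ^[n] k) ^ 2 = w k ^ 2 := by
    intro n
    induction n with
    | zero => rfl
    | succ n ih =>
      rw [Function.iterate_succ_apply', hinv]
      exact ih
  have hSval : ∀ i ∈ S, w i ^ 2 = w k ^ 2 := by
    intro i hi
    rw [hS] at hi
    obtain ⟨n, -, rfl⟩ := Finset.mem_image.mp hi
    exact hiter n
  have hcompl : Sᶜ.card = 1 := by rw [Finset.card_compl, hScard, card_golayPt]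
  obtain ⟨j, hj⟩ := Finset.card_eq_one.mp hcompl
  have hsum : sqNorm w = 23 * w k ^ 2 + w j ^ 2 := by
    unfold sqNorm
    rw [← Finset.sum_add_sum_compl S, hj, Finset.sum_singleton, Finset.sum_congr rfl hSval,
      Finset.sum_const, hScard]
    simp
  rw [hw] at hsum
  have hk0 : w k = 0 := by
    have h1 : -2 < w k := by nlinarith [sq_nonneg (w j)]
    have h2 : w k < 2 := by nlinarith [sq_nonneg (w j)]
    have h3 : w k = -1 ∨ w k = 0 ∨ w k = 1 := by omega
    have h41 : w j ^ 2 ≠ 41 := by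
      intro h4
      have h5 : -7 < w j := by nlinarith
      have h6 : w j < 7 := by nlinarith
      generalize w j = a at h4 h5 h6
      interval_cases a <;> omega
    rcases h3 with h | h | h
    · exfalso
      rw [h] at hsum
      exact h41 (by linarith)
    · exact h
    · exfalso
      rw [h] at hsum
      exact h41 (by linarith)
  rw [hk0] at hsum
  have hj8 : w j = 8 ∨ w j = -8 := by
    have h1 : (w j - 8) * (w j + 8) = 0 := by ring_nf; linarith
    rcases mul_eq_zero.mp h1 with h | h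
    · left; omega
    · right; omega
  refine ⟨j, w j, hj8, ?_⟩
  apply eq_single_of_zero
  intro i hi
  have hiS : i ∈ S := by
    by_contra h
    have h1 : i ∈ Sᶜ := Finset.mem_compl.mpr h
    rw [hj, Finset.mem_singleton] at h1
    exact hi h1
  have h2 := hSval i hiS
  rw [hk0] at h2
  exact pow_eq_zero_iff (two_ne_zero) |>.mp (by simpa using h2)

/-- An element commuting with an element of order 23 of the stabiliser of the standard cross
lies in the stabiliser. -/
theorem centralizer23_le (t s : ↥Co0) (htN : t ∈ crossStab) (h23 : t ^ 23 = 1) (ht1 : t ≠ 1)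
    (hcomm : s * t = t * s) : s ∈ crossStab := by
  obtain ⟨σ, hσ, c, hc, ht⟩ := crossStab_actsAs t htN
  obtain ⟨hσ1, hσ23⟩ := actsAs_order23 ht h23 ht1
  have : Fact (Nat.Prime 23) := ⟨by norm_num⟩
  obtain ⟨j, hj⟩ := Equiv.Perm.exists_fixed_point_of_prime (p := 23) (n := 1)
    (by rw [card_golayPt]; norm_num) (σ := σ) (by rw [pow_one]; exact hσ23)
  obtain ⟨B, hB⟩ : ∃ B : leechLattice, (B : GolayPt → ℤ) = bvec j :=
    ⟨⟨bvec j, bvec_mem j⟩, rfl⟩
  have htB : (t : Equiv.Perm leechLattice) B = B ∨ (t : Equiv.Perm leechLattice) B = -B := by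
    have h1 := ht B
    rw [hB] at h1
    unfold bvec at h1
    rw [signedPerm_single, hj] at h1
    by_cases hjc : j ∈ c
    · right
      apply Subtype.ext
      rw [if_pos hjc] at h1
      rw [h1]
      show _ = -(B : GolayPt → ℤ)
      rw [hB]
      unfold bvec
      rw [← Pi.single_neg]
    · left
      apply Subtype.ext
      rw [if_neg hjc] at h1
      rw [h1, hB]
      rfl
  obtain ⟨w, hw⟩ : ∃ w : leechLattice, w = (s : Equiv.Perm leechLattice) B := ⟨_, rfl⟩
  have hcomm' : (t : Equiv.Perm leechLattice) w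
      = (s : Equiv.Perm leechLattice) ((t : Equiv.Perm leechLattice) B) := by
    rw [hw]
    have h1 := congrArg (fun g : ↥Co0 => (g : Equiv.Perm leechLattice) B) hcomm
    exact h1.symm
  have hwn : sqNorm (w : GolayPt → ℤ) = 64 := by
    rw [hw, s.2.2 B, hB]
    exact sqNorm_bvec j
  have hsq : ∀ i, (((t : Equiv.Perm leechLattice) w : leechLattice) : GolayPt → ℤ) i ^ 2
      = (w : GolayPt → ℤ) i ^ 2 := by
    intro i
    rcases htB with h | h
    · rw [hcomm', h, hw]
    · rw [hcomm', h, co0_map_neg s.2, ← hw]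
      show (-(w : GolayPt → ℤ) i) ^ 2 = _
      ring
  have hinv : ∀ i, (w : GolayPt → ℤ) (σ i) ^ 2 = (w : GolayPt → ℤ) i ^ 2 := by
    intro i
    have h1 := hsq (σ i)
    rw [ht w] at h1
    unfold signedPerm at h1
    rw [Equiv.symm_apply_apply] at h1
    rw [← h1]
    split_ifs <;> ring
  have hcross := fix23_stdCross σ hσ1 hσ23 _ hwn hinv
  have hcl : cl (w : GolayPt → ℤ) = cl (E0 : GolayPt → ℤ) :=
    ((mem_stdCross_iff w.2).mp hcross).2
  have hclB : cl (E0 : GolayPt → ℤ) = cl (B : GolayPt → ℤ) :=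
    ((mem_stdCross_iff B.2).mp (by rw [hB]; exact ⟨j, 8, Or.inl rfl, rfl⟩)).2.symm
  rw [mem_crossStab, cl_map_of s.2 hclB, ← hw]
  exact hcl

theorem card_quot_crossStab_eq : Nat.card (↥Co0 ⧸ crossStab) = 8292375 := by
  have h := Subgroup.card_eq_card_quotient_mul_card_subgroup crossStab
  rw [co0_card, card_crossStab] at h
  omega

theorem finite_Co0 : Finite ↥Co0 := Nat.finite_of_card_ne_zero (by rw [co0_card]; norm_num)

/-- An element of order 23 is conjugate into the stabiliser of the standard cross. -/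
theorem conj_mem_crossStab (t : ↥Co0) (h23 : t ^ 23 = 1) :
    ∃ k : ↥Co0, k * t * k⁻¹ ∈ crossStab := by
  have := finite_Co0
  have : Fintype (↥Co0 ⧸ crossStab) := Fintype.ofFinite _
  have : Fact (Nat.Prime 23) := ⟨by norm_num⟩
  have hcard : ¬ 23 ∣ Fintype.card (↥Co0 ⧸ crossStab) := by
    rw [← Nat.card_eq_fintype_card, card_quot_crossStab_eq]
    norm_num
  have hpow : (MulAction.toPermHom ↥Co0 (↥Co0 ⧸ crossStab) t) ^ 23 ^ 1 = 1 := by
    rw [pow_one, ← map_pow, h23, map_one]
  obtain ⟨x, hx⟩ := Equiv.Perm.exists_fixed_point_of_prime hcard hpow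
  obtain ⟨k, rfl⟩ := QuotientGroup.mk_surjective x
  refine ⟨k⁻¹, ?_⟩
  have h1 : ((t * k : ↥Co0) : ↥Co0 ⧸ crossStab) = (k : ↥Co0 ⧸ crossStab) := hx
  have h2 := QuotientGroup.eq.mp h1
  have h3 : k⁻¹ * t * k⁻¹⁻¹ = ((t * k)⁻¹ * k)⁻¹ := by group
  rw [h3]
  exact inv_mem h2

/-- A normal subgroup contained in the stabiliser of the standard cross is central. -/
theorem normal_le_center (M : Subgroup ↥Co0) [M.Normal] (hMN : M ≤ crossStab) :
    M ≤ Subgroup.center ↥Co0 := by
  obtain ⟨S, hS⟩ : ∃ S : AddSubgroup (GolayPt → ℤ), ∀ x, x ∈ S ↔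
      ∃ hx : x ∈ leechLattice, ∀ m ∈ M,
        cl (((m : Equiv.Perm leechLattice) ⟨x, hx⟩ : leechLattice) : GolayPt → ℤ) = cl x := by
    refine ⟨
      { carrier := {x | ∃ hx : x ∈ leechLattice, ∀ m ∈ M,
                      cl (((m : Equiv.Perm leechLattice) ⟨x, hx⟩ : leechLattice) : GolayPt → ℤ)
                        = cl x},
        zero_mem' := ?_, add_mem' := @fun x y => ?_, neg_mem' := @fun x => ?_ },
      fun x => Iff.rfl⟩
    · rintro ⟨hx, hx'⟩ ⟨hy, hy'⟩
      refine ⟨add_mem hx hy, fun m hm => ?_⟩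
      have h1 : (m : Equiv.Perm leechLattice) ⟨x + y, add_mem hx hy⟩
          = (m : Equiv.Perm leechLattice) ⟨x, hx⟩ + (m : Equiv.Perm leechLattice) ⟨y, hy⟩ :=
        m.2.1 ⟨x, hx⟩ ⟨y, hy⟩
      rw [h1]
      show cl ((((m : Equiv.Perm leechLattice) ⟨x, hx⟩ : leechLattice) : GolayPt → ℤ)
        + (((m : Equiv.Perm leechLattice) ⟨y, hy⟩ : leechLattice) : GolayPt → ℤ)) = _
      rw [cl_add, cl_add, hx' m hm, hy' m hm]
    · refine ⟨zero_mem _, fun m _ => ?_⟩
      have h1 : (m : Equiv.Perm leechLattice) ⟨0, zero_mem _⟩ = 0 := co0_map_zero m.2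
      rw [h1]
      rfl
    · rintro ⟨hx, hx'⟩
      refine ⟨neg_mem hx, fun m hm => ?_⟩
      have h1 : (m : Equiv.Perm leechLattice) ⟨-x, neg_mem hx⟩
          = -(m : Equiv.Perm leechLattice) ⟨x, hx⟩ := co0_map_neg m.2 ⟨x, hx⟩
      rw [h1]
      show cl (-(((m : Equiv.Perm leechLattice) ⟨x, hx⟩ : leechLattice) : GolayPt → ℤ)) = _
      rw [cl_neg, cl_neg, hx' m hm]
  have hle : S ≤ leechLattice := fun x hx => ((hS x).mp hx).1
  have hinv : ∀ g : ↥Co0, ∀ v : ↥leechLattice, (v : GolayPt → ℤ) ∈ S →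
      ((g • v : ↥leechLattice) : GolayPt → ℤ) ∈ S := by
    intro g v hv
    obtain ⟨hx, hx'⟩ := (hS _).mp hv
    rw [hS]
    refine ⟨(g • v).2, fun m hm => ?_⟩
    have hm' : g⁻¹ * m * g ∈ M := by
      have h0 := Subgroup.Normal.conj_mem (inferInstance : M.Normal) m hm g⁻¹
      simpa using h0
    have h1 := hx' _ hm'
    have h2 : (⟨(v : GolayPt → ℤ), hx⟩ : leechLattice) = v := rfl
    rw [h2] at h1
    have h3 := cl_map_of g.2 h1
    have h4 : (g : Equiv.Perm leechLattice)
        (((g⁻¹ * m * g : ↥Co0) : Equiv.Perm leechLattice) v)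
        = (m : Equiv.Perm leechLattice) ((g : Equiv.Perm leechLattice) v) := by
      show (g : Equiv.Perm leechLattice) ((g : Equiv.Perm leechLattice)⁻¹
        ((m : Equiv.Perm leechLattice) ((g : Equiv.Perm leechLattice) v))) = _
      simp
    rw [h4] at h3
    exact h3
  have h2 : ∀ v ∈ leechLattice, (2 : ℤ) • v ∈ S := by
    intro v hv
    rw [hS]
    refine ⟨zsmul_mem hv 2, fun m hm => ?_⟩
    apply cl_eq_iff.mpr
    refine ⟨(((m : Equiv.Perm leechLattice) ⟨v, hv⟩ : leechLattice) : GolayPt → ℤ) - v,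
      sub_mem (Subtype.property _) hv, ?_⟩
    have h3 : (⟨(2 : ℤ) • v, zsmul_mem hv 2⟩ : leechLattice) = ⟨v, hv⟩ + ⟨v, hv⟩ :=
      Subtype.ext (two_smul ℤ v)
    rw [h3, m.2.1]
    show ((((m : Equiv.Perm leechLattice) ⟨v, hv⟩ : leechLattice) : GolayPt → ℤ)
      + (((m : Equiv.Perm leechLattice) ⟨v, hv⟩ : leechLattice) : GolayPt → ℤ))
      - (2 : ℤ) • v = _
    rw [two_smul, two_nsmul]
    abel
  rcases irr_main S hle hinv h2 with h | h
  · exfalso
    have hE : (E0 : GolayPt → ℤ) ∈ S := by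
      rw [hS]
      exact ⟨E0.2, fun m hm => mem_crossStab.mp (hMN hm)⟩
    obtain ⟨w, hw, e⟩ := h _ hE
    have h1 : sqNorm (E0 : GolayPt → ℤ) = 64 := sqNorm_bvec none
    have h3 : sqNorm ((2 : ℤ) • w) = 4 * sqNorm w := by
      unfold sqNorm
      rw [Finset.mul_sum]
      apply Finset.sum_congr rfl
      intro i _
      simp only [Pi.smul_apply, smul_eq_mul]
      ring
    rw [e, h3] at h1
    have h4 : w ≠ 0 := by
      rintro rfl
      simp [sqNorm] at h1
    have h5 := min_sqNorm hw h4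
    omega
  · intro m hm
    apply mod2_faithful
    intro v
    have hv : (v : GolayPt → ℤ) ∈ S := by rw [h]; exact v.2
    obtain ⟨hx, hx'⟩ := (hS _).mp hv
    obtain ⟨z, hz, e⟩ := cl_eq_iff.mp (hx' m hm)
    exact ⟨⟨z, hz⟩, e⟩

theorem conj_comm_aux {G : Type*} [Group G] (a s : G) (x y : ℕ) (hxy : x < y)
    (h : a ^ x * s * (a ^ x)⁻¹ = a ^ y * s * (a ^ y)⁻¹) :
    s * a ^ (y - x) = a ^ (y - x) * s := by
  obtain ⟨d, rfl⟩ : ∃ d, y = x + d := ⟨y - x, by omega⟩
  rw [Nat.add_sub_cancel_left]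
  rw [pow_add] at h
  have h1 : s = a ^ d * s * (a ^ d)⁻¹ := by
    have h2 := congrArg (fun z => (a ^ x)⁻¹ * z * a ^ x) h
    have h3 : (a ^ x)⁻¹ * (a ^ x * s * (a ^ x)⁻¹) * a ^ x = s := by group
    have h4 : (a ^ x)⁻¹ * (a ^ x * a ^ d * s * (a ^ x * a ^ d)⁻¹) * a ^ x
        = a ^ d * s * (a ^ d)⁻¹ := by group
    rw [h3, h4] at h2
    exact h2
  calc s * a ^ d = a ^ d * s * (a ^ d)⁻¹ * a ^ d := by rw [← h1]
    _ = a ^ d * s := by group

/-- A normal subgroup of the automorphism group of the lattice is contained in the centre or is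
the whole group. -/
theorem normal_dichotomy (M : Subgroup ↥Co0) [M.Normal] :
    M ≤ Subgroup.center ↥Co0 ∨ M = ⊤ := by
  have := finite_Co0
  by_cases hMN : M ≤ crossStab
  · exact Or.inl (normal_le_center M hMN)
  right
  have hsup : crossStab ⊔ M = ⊤ := by
    rcases crossStab_max (crossStab ⊔ M) le_sup_left with h | h
    · exfalso
      apply hMN
      rw [← h]
      exact le_sup_right
    · exact h
  have hcardM : Nat.card M * M.index = Nat.card ↥Co0 := Subgroup.card_mul_index M
  have hidx : M.index ∣ Nat.card crossStab := by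
    have h1 := Subgroup.relIndex_sup_right crossStab M
    rw [hsup, Subgroup.relIndex_top_right] at h1
    rw [h1]
    exact Subgroup.relIndex_dvd_card M crossStab
  have hp23 : Fact (Nat.Prime 23) := ⟨by norm_num⟩
  have hp13 : Fact (Nat.Prime 13) := ⟨by norm_num⟩
  by_cases h23 : 23 ∣ Nat.card M
  · -- an element of order 23 of `M`, conjugated into the stabiliser of the cross
    obtain ⟨t0, ht0⟩ := exists_prime_orderOf_dvd_card' 23 h23
    have hu23 : (t0 : ↥Co0) ^ 23 = 1 := by
      rw [← Subgroup.coe_pow, ← ht0, pow_orderOf_eq_one]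
      rfl
    have hu1 : (t0 : ↥Co0) ≠ 1 := by
      intro h
      have h1 : t0 = 1 := Subtype.ext h
      rw [h1, orderOf_one] at ht0
      norm_num at ht0
    obtain ⟨k, hk⟩ := conj_mem_crossStab (t0 : ↥Co0) hu23
    have hle := crossStab_le_of_order23 M (k * (t0 : ↥Co0) * k⁻¹)
      (Subgroup.Normal.conj_mem inferInstance _ t0.2 k) hk
      (by rw [conj_pow, hu23]; group)
      (by
        intro h
        apply hu1
        have h1 : (t0 : ↥Co0) = k⁻¹ * (k * (t0 : ↥Co0) * k⁻¹) * k := by group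
        rw [h1, h]
        group)
    rw [eq_top_iff, ← hsup]
    exact sup_le hle le_rfl
  · exfalso
    -- 13 divides the order of `M`
    have h13 : 13 ∣ Nat.card M := by
      obtain ⟨q, hq⟩ := hidx
      rw [card_crossStab] at hq
      rw [co0_card] at hcardM
      have hpos : 0 < M.index := Nat.pos_of_ne_zero (Subgroup.index_ne_zero_of_finite)
      have e : (8315553613086720000 : ℕ) = 8292375 * (4096 * 244823040) := by norm_num
      have h1 : Nat.card M * M.index = 8292375 * q * M.index := by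
        rw [hcardM, e, hq]
        ring
      have h2 : Nat.card M = 8292375 * q := Nat.eq_of_mul_eq_mul_right hpos h1
      rw [h2]
      exact Dvd.dvd.mul_right (by norm_num) q
    obtain ⟨P⟩ : Nonempty (Sylow 13 ↥M) := inferInstance
    have hPne : (P : Subgroup ↥M) ≠ ⊥ := P.ne_bot_of_dvd_card h13
    have hfrat := Sylow.normalizer_sup_eq_top P
    obtain ⟨P', hP'⟩ : ∃ P' : Subgroup ↥Co0, P' = (P : Subgroup ↥M).map M.subtype := ⟨_, rfl⟩
    rw [← hP'] at hfrat
    have hP'card : Nat.card P' = 13 := by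
      have h1 : Nat.card P' = Nat.card (P : Subgroup ↥M) := by
        rw [hP']
        exact Subgroup.card_map_of_injective M.subtype_injective
      obtain ⟨n, hn⟩ := IsPGroup.iff_card.mp P.isPGroup'
      rw [h1, hn]
      have hn1 : n ≠ 0 := by
        rintro rfl
        rw [pow_zero] at hn
        exact hPne ((Subgroup.card_eq_one).mp hn)
      have hn2 : n < 2 := by
        by_contra hge
        have h2 : 13 ^ 2 ∣ 13 ^ n := pow_dvd_pow 13 (by omega)
        have h3 : 13 ^ n ∣ Nat.card ↥Co0 := by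
          rw [← hn]
          exact (Subgroup.card_subgroup_dvd_card _).trans (Subgroup.card_subgroup_dvd_card M)
        have h4 := h2.trans h3
        rw [co0_card] at h4
        norm_num at h4
      have hn3 : n = 1 := by omega
      rw [hn3, pow_one]
    -- an element of order 23 in the normaliser
    have hH23 : 23 ∣ Nat.card (Subgroup.normalizer (P' : Set ↥Co0)) := by
      have h1 := Subgroup.relIndex_sup_right (Subgroup.normalizer (P' : Set ↥Co0)) M
      rw [hfrat, Subgroup.relIndex_top_right] at h1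
      have h2 : M.relIndex (Subgroup.normalizer (P' : Set ↥Co0)) ∣ Nat.card (Subgroup.normalizer (P' : Set ↥Co0)) :=
        Subgroup.relIndex_dvd_card M (Subgroup.normalizer (P' : Set ↥Co0))
      have h3 : 23 ∣ M.index := by
        have h4 : 23 ∣ Nat.card M * M.index := by
          rw [hcardM, co0_card]
          norm_num
        exact ((Nat.Prime.dvd_mul (by norm_num)).mp h4).resolve_left h23
      rw [h1] at h3
      exact h3.trans h2
    obtain ⟨t2, ht2⟩ := exists_prime_orderOf_dvd_card' 23 hH23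
    have ht2pow : ∀ n : ℕ, (t2 : ↥Co0) ^ n ∈ (Subgroup.normalizer (P' : Set ↥Co0)) := fun n => pow_mem t2.2 n
    obtain ⟨s, hsP, hs1⟩ : ∃ s ∈ P', s ≠ 1 := by
      by_contra hall
      push Not at hall
      have h1 : P' = ⊥ := (Subgroup.eq_bot_iff_forall P').mpr hall
      rw [h1, Subgroup.card_bot] at hP'card
      norm_num at hP'card
    -- two powers of `t2` conjugate `s` to the same element
    have : Fintype ↥P' := Fintype.ofFinite _
    obtain ⟨x, y, hxy, hf⟩ := Fintype.exists_ne_map_eq_of_card_lt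
      (fun n : Fin 14 => (⟨(t2 : ↥Co0) ^ (n : ℕ) * s * ((t2 : ↥Co0) ^ (n : ℕ))⁻¹,
        (Subgroup.mem_normalizer_iff.mp (ht2pow n) s).mp hsP⟩ : ↥P'))
      (by rw [← Nat.card_eq_fintype_card, hP'card, Fintype.card_fin]; norm_num)
    have hf' : (t2 : ↥Co0) ^ (x : ℕ) * s * ((t2 : ↥Co0) ^ (x : ℕ))⁻¹
        = (t2 : ↥Co0) ^ (y : ℕ) * s * ((t2 : ↥Co0) ^ (y : ℕ))⁻¹ := congrArg Subtype.val hf
    obtain ⟨d, hd0, hd14, hcomm⟩ : ∃ d : ℕ, 0 < d ∧ d < 14 ∧
        s * (t2 : ↥Co0) ^ d = (t2 : ↥Co0) ^ d * s := by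
      have hxy' : (x : ℕ) ≠ (y : ℕ) := fun h => hxy (Fin.ext h)
      rcases Nat.lt_or_gt_of_ne hxy' with h | h
      · exact ⟨(y : ℕ) - (x : ℕ), by omega, by omega, conj_comm_aux _ s _ _ h hf'⟩
      · exact ⟨(x : ℕ) - (y : ℕ), by omega, by omega, conj_comm_aux _ s _ _ h hf'.symm⟩
    have ht2o : orderOf (t2 : ↥Co0) = 23 := by rw [Subgroup.orderOf_coe]; exact ht2
    have hu23 : ((t2 : ↥Co0) ^ d) ^ 23 = 1 := by
      rw [← pow_mul, mul_comm, pow_mul, ← ht2o, pow_orderOf_eq_one, one_pow]
    have hu1 : (t2 : ↥Co0) ^ d ≠ 1 := by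
      intro h
      have h1 := orderOf_dvd_of_pow_eq_one h
      rw [ht2o] at h1
      have h2 := Nat.le_of_dvd hd0 h1
      omega
    obtain ⟨k, hk⟩ := conj_mem_crossStab _ hu23
    have hsN : k * s * k⁻¹ ∈ crossStab := by
      refine centralizer23_le (k * (t2 : ↥Co0) ^ d * k⁻¹) _ hk
        (by rw [conj_pow, hu23]; group) ?_ ?_
      · intro h
        apply hu1
        have h1 : (t2 : ↥Co0) ^ d = k⁻¹ * (k * (t2 : ↥Co0) ^ d * k⁻¹) * k := by group
        rw [h1, h]
        group
      · have h1 : k * s * k⁻¹ * (k * (t2 : ↥Co0) ^ d * k⁻¹)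
            = k * (s * (t2 : ↥Co0) ^ d) * k⁻¹ := by group
        have h2 : k * (t2 : ↥Co0) ^ d * k⁻¹ * (k * s * k⁻¹)
            = k * ((t2 : ↥Co0) ^ d * s) * k⁻¹ := by group
        rw [h1, h2, hcomm]
    -- the order of `k * s * k⁻¹` divides 13 and the order of the stabiliser
    have ho1 : orderOf (k * s * k⁻¹) ∣ 13 := by
      apply orderOf_dvd_of_pow_eq_one
      rw [conj_pow]
      have h1 : s ^ 13 = 1 := by
        have h2 := Subgroup.orderOf_dvd_natCard P' hsP
        rw [hP'card] at h2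
        exact orderOf_dvd_iff_pow_eq_one.mp h2
      rw [h1]
      group
    have ho2 : orderOf (k * s * k⁻¹) ∣ Nat.card crossStab :=
      Subgroup.orderOf_dvd_natCard crossStab hsN
    have ho3 : orderOf (k * s * k⁻¹) ∣ Nat.gcd 13 (Nat.card crossStab) := Nat.dvd_gcd ho1 ho2
    rw [card_crossStab] at ho3
    have ho4 : Nat.gcd 13 (4096 * 244823040) = 1 := by norm_num
    rw [ho4, Nat.dvd_one, orderOf_eq_one_iff] at ho3
    apply hs1
    have h1 : s = k⁻¹ * (k * s * k⁻¹) * k := by group
    rw [h1, ho3]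
    group

/-- The automorphism group of the lattice modulo its centre has order
`4157776806543360000`. -/
theorem co1_card : Nat.card (↥Co0 ⧸ Subgroup.center ↥Co0) = 4157776806543360000 := by
  have h := Subgroup.card_eq_card_quotient_mul_card_subgroup (Subgroup.center ↥Co0)
  rw [co0_card, card_center_Co0] at h
  omega

/-- The automorphism group of the lattice modulo its centre is simple. -/
theorem co1_simple : IsSimpleGroup (↥Co0 ⧸ Subgroup.center ↥Co0) := by
  have hcard := co1_card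
  have hfin : Finite (↥Co0 ⧸ Subgroup.center ↥Co0) :=
    Nat.finite_of_card_ne_zero (by rw [hcard]; norm_num)
  have hnt : Nontrivial (↥Co0 ⧸ Subgroup.center ↥Co0) := by
    rw [← Finite.one_lt_card_iff_nontrivial, hcard]
    norm_num
  refine { toNontrivial := hnt, eq_bot_or_eq_top_of_normal := ?_ }
  intro H hH
  have hn : (H.comap (QuotientGroup.mk' (Subgroup.center ↥Co0))).Normal := hH.comap _
  rcases normal_dichotomy (H.comap (QuotientGroup.mk' (Subgroup.center ↥Co0))) with h | h
  · left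
    rw [Subgroup.eq_bot_iff_forall]
    intro x hx
    obtain ⟨g, rfl⟩ := QuotientGroup.mk_surjective x
    have h1 : g ∈ H.comap (QuotientGroup.mk' (Subgroup.center ↥Co0)) := hx
    exact (QuotientGroup.eq_one_iff g).mpr (h h1)
  · right
    rw [eq_top_iff]
    intro x _
    obtain ⟨g, rfl⟩ := QuotientGroup.mk_surjective x
    have h1 : g ∈ H.comap (QuotientGroup.mk' (Subgroup.center ↥Co0)) := by
      rw [h]
      exact Subgroup.mem_top _
    exact h1

end Cfsg.Agent.H93
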