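import Mathlib
import Cfsg.Prelude.Def_Blocks
import Cfsg.Agent.H93.M11Main
import Cfsg.Agent.H11.M11Name
import Cfsg.Agent.H11.M11CT
import Cfsg.Agent.H32.M11PDV
import Cfsg.Agent.H32.M11Real3
import Cfsg.Agent.H59.M11G3C
import Cfsg.Agent.H59.M11G3D
import Cfsg.Agent.H59.M11G3E
import Cfsg.Agent.H70.M11NoInv
import Cfsg.Agent.H70.M11G3A
import Cfsg.Agent.H70.M11G3B
import Cfsg.Agent.H80.M11SC
import Cfsg.Agent.H80.M11CCInt
import Cfsg.Agent.H80.M11InvVal
import Cfsg.Agent.H81.M11Arith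
import Cfsg.Agent.H78.DefectZero
import Cfsg.Agent.H4.IrrCount
import Cfsg.Agent.H64.Ord7920Lin

set_option autoImplicit false
set_option linter.style.haveILetI false

namespace Cfsg.Agent.H93.M11C

open Subgroup
open scoped ComplexConjugate

/-- The character table data of a simple group of order 7920 that we use. -/
def IsTable {G : Type*} [Group G] (χ₁ a b c u s s' w d f : Cfsg.IrrCharacter G) : Prop :=
  (∀ F : Cfsg.IrrCharacter G → ℂ, ∑ᶠ χ, F χ =
      F χ₁ + F a + F b + F c + F u + F s + F s' + F w + F d + F f) ∧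
  (Cfsg.charDegree (χ₁ : G → ℂ) = 1 ∧ Cfsg.charDegree (a : G → ℂ) = 10 ∧
    Cfsg.charDegree (b : G → ℂ) = 10 ∧ Cfsg.charDegree (c : G → ℂ) = 10 ∧
    Cfsg.charDegree (u : G → ℂ) = 11 ∧ Cfsg.charDegree (s : G → ℂ) = 16 ∧
    Cfsg.charDegree (s' : G → ℂ) = 16 ∧ Cfsg.charDegree (w : G → ℂ) = 44 ∧
    Cfsg.charDegree (d : G → ℂ) = 45 ∧ Cfsg.charDegree (f : G → ℂ) = 55) ∧
  (∀ g : G, (χ₁ : G → ℂ) g = 1) ∧
  (∀ g : G, ¬ 11 ∣ orderOf g → (s : G → ℂ) g = (s' : G → ℂ) g ∧
      (s : G → ℂ) g = 1 - (a : G → ℂ) g - (b : G → ℂ) g - (c : G → ℂ) g + (d : G → ℂ) g) ∧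
  (∀ g : G, ¬ 5 ∣ orderOf g → 1 + (u : G → ℂ) g + (s : G → ℂ) g + (s' : G → ℂ) g
      - (w : G → ℂ) g = 0) ∧
  (∀ z : G, orderOf z = 11 → (a : G → ℂ) z = -1 ∧ (b : G → ℂ) z = -1 ∧ (c : G → ℂ) z = -1 ∧
      (d : G → ℂ) z = 1 ∧ (u : G → ℂ) z = 0 ∧ (w : G → ℂ) z = 0 ∧ (f : G → ℂ) z = 0 ∧
      (s : G → ℂ) z + (s' : G → ℂ) z = -1)

theorem pdv_hyps11 {G : Type*} [Group G] [Finite G] [IsSimpleGroup G]
    (hG : Nat.card G = 7920) (Q : Sylow 11 G) :
    Nat.card (Q : Subgroup G) = 11 ∧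
    (centralizer ((Q : Subgroup G) : Set G)).relIndex
      (normalizer ((Q : Subgroup G) : Set G)) = 5 ∧
    Nat.card (ConjClasses ↥(normalizer ((Q : Subgroup G) : Set G))) = 5 + (11 - 1) / 5 := by
  haveI : Fact (Nat.Prime 11) := ⟨by norm_num⟩
  obtain ⟨-, hNQ, hCQ⟩ := Cfsg.Agent.H5.Ord7920.sylow11_simple hG Q
  have hQ : Nat.card (Q : Subgroup G) = 11 := Cfsg.Agent.H93.M11.sylow11_card' hG Q
  refine ⟨hQ, ?_, ?_⟩
  · exact Cfsg.Agent.H93.M11.relIndex_of_card _ _
      (centralizer_le_normalizer ((Q : Subgroup G) : Set G)) 11 5 (by norm_num) hCQ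
      (by rw [hNQ])
  · obtain ⟨h1, h2⟩ := Cfsg.Agent.H93.M11.conj_hyp (Q : Subgroup G) 11 hQ hCQ
    exact Cfsg.Agent.H24.Ord7920.card_conjClasses_55 hNQ _ h1 h2

theorem pdv_hyps5 {G : Type*} [Group G] [Finite G] [IsSimpleGroup G]
    (hG : Nat.card G = 7920) (P : Sylow 5 G) :
    Nat.card (P : Subgroup G) = 5 ∧
    (centralizer ((P : Subgroup G) : Set G)).relIndex
      (normalizer ((P : Subgroup G) : Set G)) = 4 ∧
    Nat.card (ConjClasses ↥(normalizer ((P : Subgroup G) : Set G))) = 4 + (5 - 1) / 4 := by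
  haveI : Fact (Nat.Prime 5) := ⟨by norm_num⟩
  obtain ⟨hNP, hCP⟩ := Cfsg.Agent.H93.M11.sylow5_data hG P
  have hP : Nat.card (P : Subgroup G) = 5 := Cfsg.Agent.H93.M11.sylow5_card hG P
  refine ⟨hP, ?_, ?_⟩
  · exact Cfsg.Agent.H93.M11.relIndex_of_card _ _
      (centralizer_le_normalizer ((P : Subgroup G) : Set G)) 5 4 (by norm_num) hCP
      (by rw [hNP])
  · obtain ⟨h1, h2⟩ := Cfsg.Agent.H93.M11.conj_hyp (P : Subgroup G) 5 hP hCP
    exact Cfsg.Agent.H24.Ord7920.card_conjClasses_20 hNP _ h1 h2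

/-- every element of order 11 is conjugate into a given Sylow 11-subgroup -/
theorem exists_conj_mem_sylow {G : Type*} [Group G] [Finite G] (p : ℕ) [Fact p.Prime]
    (Q : Sylow p G) (z : G) (hz : orderOf z = p) :
    ∃ g : G, g * z * g⁻¹ ∈ (Q : Subgroup G) := by
  have hpg : IsPGroup p (zpowers z) := by
    apply IsPGroup.of_card (n := 1)
    rw [Nat.card_zpowers, hz, pow_one]
  obtain ⟨Q', hQ'⟩ := hpg.exists_le_sylow
  obtain ⟨g, hg⟩ := MulAction.exists_smul_eq G Q' Q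
  refine ⟨g, ?_⟩
  rw [← hg]
  have hz' : z ∈ (Q' : Subgroup G) := hQ' (mem_zpowers z)
  have : g * z * g⁻¹ ∈ ((g • Q' : Sylow p G) : Subgroup G) := by
    rw [Sylow.coe_subgroup_smul]
    exact ⟨z, hz', rfl⟩
  exact this

theorem exists_table {G : Type*} [Group G] [Finite G] [IsSimpleGroup G]
    (hG : Nat.card G = 7920) :
    ∃ χ₁ a b c u s s' w d f : Cfsg.IrrCharacter G, IsTable χ₁ a b c u s s' w d f := by
  classical
  haveI : Fact (Nat.Prime 11) := ⟨by norm_num⟩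
  haveI : Fact (Nat.Prime 5) := ⟨by norm_num⟩
  haveI : Finite (Cfsg.IrrCharacter G) := Cfsg.Agent.H80.irr_finite G
  letI : Fintype G := Fintype.ofFinite G
  obtain ⟨χ₁, a, b, c, u, s, s', w, d, f, h1, ha, hb, hc, hu, hs, hs', hw, hd, hf, hab, hac,
    hbc, hss', hall, hsum⟩ :=
    Cfsg.Agent.H11.M11.exists_names (fun χ : Cfsg.IrrCharacter G => Cfsg.charDegree (χ : G → ℂ))
      (Cfsg.Agent.H93.M11.main hG).2
  obtain ⟨Q⟩ : Nonempty (Sylow 11 G) := inferInstance
  obtain ⟨P⟩ : Nonempty (Sylow 5 G) := inferInstance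
  obtain ⟨hQ, he11, hk11⟩ := pdv_hyps11 hG Q
  obtain ⟨hP, he5, hk5⟩ := pdv_hyps5 hG P
  obtain ⟨X, Y, εX, ε, hXY, hdisj, hX, hY, hεX, hε, hYd, hYeq, hrel⟩ :=
    Cfsg.Agent.H32.M11.principal_data_values 11 (by norm_num) Q hQ 5 he11 hk11 (by norm_num) (by norm_num)
  obtain ⟨X', Y', εX', ε', hXY', hdisj', hX', hY', hεX', hε', hYd', -, hrel'⟩ :=
    Cfsg.Agent.H32.M11.principal_data_values 5 (by norm_num) P hP 4 he5 hk5 (by norm_num) (by norm_num)
  obtain ⟨hR11, hV11⟩ := Cfsg.Agent.H11.M11.ct11 χ₁ a b c u s s' w d f h1 ha hb hc hu hs hs' hw hd hf hab hac hbc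
    hss' hall (Q : Subgroup G) X Y εX ε hXY hdisj hX hY (by simpa using hεX) hε
    (by simpa using hYd) hYeq hrel
  have hR5 := Cfsg.Agent.H11.M11.ct5 χ₁ a b c u s s' w d f h1 ha hb hc hu hs hs' hw hd hf hss' hall X' Y' εX' ε'
    hXY' hdisj' hX' hY' (fun χ hχ => ⟨(hεX' χ hχ).1, by simpa using (hεX' χ hχ).2.1⟩) hε'
    (by simpa using hYd') hrel'
  -- the trivial character
  have hnp : ¬ (Nat.card G).Prime := by rw [hG]; norm_num
  have htriv : ∀ g : G, (χ₁ : G → ℂ) g = 1 := by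
    intro g
    obtain ⟨χ₀, -, huniq⟩ := Cfsg.Agent.H64.Ord7920.existsUnique_linear hG
    have e1 : χ₁ = χ₀ := huniq χ₁ h1
    have e2 : Cfsg.Agent.H82.linChar (1 : G →* ℂˣ) = χ₀ := by
      apply huniq
      have h := Cfsg.Agent.H82.irr_one_eq_charDegree (Cfsg.Agent.H82.linChar (1 : G →* ℂˣ))
      rw [Cfsg.Agent.H82.linChar_one] at h
      exact_mod_cast h.symm
    rw [e1, ← e2]
    show (Cfsg.Agent.H82.linChar (1 : G →* ℂˣ)).1 g = 1
    rw [Cfsg.Agent.H82.linChar_apply]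
    simp
  have hdegC : ∀ χ : Cfsg.IrrCharacter G, (χ : G → ℂ) 1 = (Cfsg.charDegree (χ : G → ℂ) : ℂ) :=
    fun χ => Cfsg.Agent.H82.irr_one_eq_charDegree χ
  refine ⟨χ₁, a, b, c, u, s, s', w, d, f, hsum, ⟨h1, ha, hb, hc, hu, hs, hs', hw, hd, hf⟩,
    htriv, ?_, ?_, ?_⟩
  · intro g hg
    obtain ⟨e1, e2⟩ := hR11 g hg
    refine ⟨e1, ?_⟩
    rw [e2, htriv g]
  · intro g hg
    have := hR5 g hg
    rw [htriv g] at this
    exact this
  · intro z hz
    obtain ⟨g, hg⟩ := exists_conj_mem_sylow 11 Q z hz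
    have hne : g * z * g⁻¹ ≠ 1 := by
      intro h
      have : z = 1 := by
        have := congrArg (fun t => g⁻¹ * t * g) h
        simpa [mul_assoc] using this
      rw [this, orderOf_one] at hz
      norm_num at hz
    obtain ⟨-, va, vb, vc, vd⟩ := hV11 _ hg hne
    have cj : ∀ χ : Cfsg.IrrCharacter G, (χ : G → ℂ) (g * z * g⁻¹) = (χ : G → ℂ) z :=
      fun χ => Cfsg.Agent.H82.irr_conj χ z g
    rw [cj] at va vb vc vd
    have h11z : 11 ∣ orderOf z := by rw [hz]
    have hp11 : Nat.Prime 11 := by norm_num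
    have vu : (u : G → ℂ) z = 0 :=
      Cfsg.Agent.H78.irr_defect_zero_vanish 11 hp11 u (by rw [hG, hu]; norm_num) z h11z
    have vw : (w : G → ℂ) z = 0 :=
      Cfsg.Agent.H78.irr_defect_zero_vanish 11 hp11 w (by rw [hG, hw]; norm_num) z h11z
    have vf : (f : G → ℂ) z = 0 :=
      Cfsg.Agent.H78.irr_defect_zero_vanish 11 hp11 f (by rw [hG, hf]; norm_num) z h11z
    refine ⟨va, vb, vc, vd, vu, vw, vf, ?_⟩
    have hco := Cfsg.Agent.H4.column_orthogonality (G := G) z 1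
    have hempty : Nat.card {c : G // c * z * c⁻¹ = 1} = 0 := by
      rw [Nat.card_eq_zero]
      left
      refine ⟨fun ⟨c, hc⟩ => ?_⟩
      have : z = 1 := by
        have := congrArg (fun t => c⁻¹ * t * c) hc
        simpa [mul_assoc] using this
      rw [this, orderOf_one] at hz
      norm_num at hz
    rw [hempty, hsum] at hco
    simp only [hdegC, h1, ha, hb, hc, hu, hs, hs', hw, hd, hf, htriv z, va, vb, vc, vd, vu, vw,
      vf] at hco
    simp only [Nat.cast_ofNat, Nat.cast_one, Nat.cast_zero] at hco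
    simp only [map_ofNat, map_one] at hco
    linear_combination hco / 16

/-- relations for an element regular for 5 and 11 with integer character values -/
theorem regular_relations {G : Type*} [Group G] [Finite G]
    {χ₁ a b c u s s' w d f : Cfsg.IrrCharacter G} (hT : IsTable χ₁ a b c u s s' w d f)
    (g : G) (hg1 : g ≠ 1) (h5 : ¬ 5 ∣ orderOf g) (h11 : ¬ 11 ∣ orderOf g)
    (na nb nc nu ns nw nd nf : ℤ)
    (ea : (a : G → ℂ) g = (na : ℂ)) (eb : (b : G → ℂ) g = (nb : ℂ))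
    (ec : (c : G → ℂ) g = (nc : ℂ)) (eu : (u : G → ℂ) g = (nu : ℂ))
    (es : (s : G → ℂ) g = (ns : ℂ)) (ew : (w : G → ℂ) g = (nw : ℂ))
    (ed : (d : G → ℂ) g = (nd : ℂ)) (ef : (f : G → ℂ) g = (nf : ℂ)) :
    (s' : G → ℂ) g = (ns : ℂ) ∧
    ns = 1 - na - nb - nc + nd ∧ 1 + nu + 2 * ns - nw = 0 ∧
    1 + 10 * (na + nb + nc) + 11 * nu + 32 * ns + 44 * nw + 45 * nd + 55 * nf = 0 ∧
    (Nat.card (centralizer ({g} : Set G)) : ℤ) =
      1 + na ^ 2 + nb ^ 2 + nc ^ 2 + nu ^ 2 + 2 * ns ^ 2 + nw ^ 2 + nd ^ 2 + nf ^ 2 := by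
  classical
  letI : Fintype G := Fintype.ofFinite G
  obtain ⟨hsum, ⟨h1, ha, hb, hc, hu, hs, hs', hw, hd, hf⟩, htriv, hR11, hR5, -⟩ := hT
  have hdegC : ∀ χ : Cfsg.IrrCharacter G, (χ : G → ℂ) 1 = (Cfsg.charDegree (χ : G → ℂ) : ℂ) :=
    fun χ => Cfsg.Agent.H82.irr_one_eq_charDegree χ
  obtain ⟨e1, e2⟩ := hR11 g h11
  have es' : (s' : G → ℂ) g = (ns : ℂ) := by rw [← e1, es]
  have r5 := hR5 g h5
  rw [ea, eb, ec, ed, es] at e2
  rw [eu, es, es', ew] at r5
  refine ⟨es', by exact_mod_cast e2, ?_, ?_, ?_⟩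
  · have : ((1 + nu + 2 * ns - nw : ℤ) : ℂ) = ((0 : ℤ) : ℂ) := by
      push_cast
      linear_combination r5
    exact_mod_cast this
  · have hco := Cfsg.Agent.H4.column_orthogonality (G := G) g 1
    have hempty : Nat.card {c : G // c * g * c⁻¹ = 1} = 0 := by
      rw [Nat.card_eq_zero]
      left
      refine ⟨fun ⟨c, hc⟩ => hg1 ?_⟩
      have := congrArg (fun t => c⁻¹ * t * c) hc
      simpa [mul_assoc] using this
    rw [hempty, hsum] at hco
    simp only [hdegC, h1, ha, hb, hc, hu, hs, hs', hw, hd, hf, htriv g, ea, eb, ec, eu, es, es',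
      ew, ed, ef] at hco
    simp only [Nat.cast_ofNat, Nat.cast_one, Nat.cast_zero, map_ofNat, map_one] at hco
    have : ((1 + 10 * (na + nb + nc) + 11 * nu + 32 * ns + 44 * nw + 45 * nd + 55 * nf : ℤ) : ℂ)
        = ((0 : ℤ) : ℂ) := by
      push_cast
      linear_combination hco
    exact_mod_cast this
  · have hco := Cfsg.Agent.H4.column_orthogonality (G := G) g g
    have hcard : Nat.card {c : G // c * g * c⁻¹ = g} =
        Nat.card (centralizer ({g} : Set G)) := by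
      have := Cfsg.Agent.H4.card_conj_fiber g (1 : G)
      simpa using this
    rw [hcard, hsum] at hco
    simp only [htriv g, ea, eb, ec, eu, es, es', ew, ed, ef] at hco
    simp only [map_intCast, map_one] at hco
    have : ((Nat.card (centralizer ({g} : Set G)) : ℤ) : ℂ) =
        ((1 + na ^ 2 + nb ^ 2 + nc ^ 2 + nu ^ 2 + 2 * ns ^ 2 + nw ^ 2 + nd ^ 2 + nf ^ 2 : ℤ) : ℂ)
        := by
      push_cast
      linear_combination -hco
    exact_mod_cast this

theorem hperf_7920 {G : Type*} [Group G] [Finite G] [IsSimpleGroup G]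
    (hG : Nat.card G = 7920) (φ : G →* ℂˣ) (g : G) : φ g = 1 :=
  Cfsg.Agent.H64.Ord7920.hom_comm_trivial (by rw [hG]; norm_num) φ g

/-- S0435: involution centralizers have order 48. -/
theorem invol_centralizer {G : Type*} [Group G] [Finite G] [IsSimpleGroup G]
    (hG : Nat.card G = 7920) (t : G) (ht : orderOf t = 2) :
    Nat.card (centralizer ({t} : Set G)) = 48 := by
  classical
  haveI : Fact (Nat.Prime 11) := ⟨by norm_num⟩
  obtain ⟨χ₁, a, b, c, u, s, s', w, d, f, hT⟩ := exists_table hG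
  have hT' := hT
  obtain ⟨hsum, ⟨h1, ha, hb, hc, hu, hs, hs', hw, hd, hf⟩, htriv, hR11, hR5, hV⟩ := hT'
  have hperf := hperf_7920 hG
  obtain ⟨na, ea, ma, ba⟩ := Cfsg.Agent.H80.M11.invol_value hperf a t ht
  obtain ⟨nb, eb, mb, bb⟩ := Cfsg.Agent.H80.M11.invol_value hperf b t ht
  obtain ⟨nc, ec, mc, bc⟩ := Cfsg.Agent.H80.M11.invol_value hperf c t ht
  obtain ⟨nu, eu, mu, bu⟩ := Cfsg.Agent.H80.M11.invol_value hperf u t ht
  obtain ⟨ns, es, ms, bs⟩ := Cfsg.Agent.H80.M11.invol_value hperf s t ht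
  obtain ⟨nw, ew, mw, bw⟩ := Cfsg.Agent.H80.M11.invol_value hperf w t ht
  obtain ⟨nd, ed, md, bd⟩ := Cfsg.Agent.H80.M11.invol_value hperf d t ht
  obtain ⟨nf, ef, mf, bf⟩ := Cfsg.Agent.H80.M11.invol_value hperf f t ht
  rw [ha] at ma ba
  rw [hb] at mb bb
  rw [hc] at mc bc
  rw [hu] at mu bu
  rw [hs] at ms bs
  rw [hw] at mw bw
  rw [hd] at md bd
  rw [hf] at mf bf
  have ht1 : t ≠ 1 := by
    intro h
    rw [h, orderOf_one] at ht
    norm_num at ht
  obtain ⟨es', r11, r5, r1, rN⟩ := regular_relations hT t ht1 (by rw [ht]; norm_num)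
    (by rw [ht]; norm_num) na nb nc nu ns nw nd nf ea eb ec eu es ew ed ef
  -- the class product constant
  have h11G : 11 ∣ Nat.card G := by rw [hG]; norm_num
  obtain ⟨z, hz⟩ := exists_prime_orderOf_dvd_card' (G := G) 11 h11G
  obtain ⟨va, vb, vc, vd, vu, vw, vf, vs⟩ := hV z hz
  have hsc := Cfsg.Agent.H80.M11.class_product_vanish t z (Cfsg.Agent.H70.M11.no_invol_prod_11 hG t z ht hz)
  have hdegC : ∀ χ : Cfsg.IrrCharacter G, (χ : G → ℂ) 1 = (Cfsg.charDegree (χ : G → ℂ) : ℂ) :=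
    fun χ => Cfsg.Agent.H82.irr_one_eq_charDegree χ
  rw [hsum] at hsc
  have vs' : conj ((s : G → ℂ) z) + conj ((s' : G → ℂ) z) = -1 := by
    rw [← map_add, vs]
    simp
  simp only [hdegC, h1, ha, hb, hc, hu, hs, hs', hw, hd, hf, htriv, ea, eb, ec, eu, es, es',
    ew, ed, ef, va, vb, vc, vd, vu, vw, vf] at hsc
  simp only [Nat.cast_ofNat, Nat.cast_one, map_one, map_neg, map_zero] at hsc
  have hsc' : ((720 - 72 * (na ^ 2 + nb ^ 2 + nc ^ 2) + 16 * nd ^ 2 - 45 * ns ^ 2 : ℤ) : ℂ) =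
      ((0 : ℤ) : ℂ) := by
    push_cast
    linear_combination 720 * hsc - 45 * (ns : ℂ) ^ 2 * vs'
  have hsc'' : 720 - 72 * (na ^ 2 + nb ^ 2 + nc ^ 2) + 16 * nd ^ 2 - 45 * ns ^ 2 = 0 := by
    exact_mod_cast hsc'
  have hdvd : Nat.card (centralizer ({t} : Set G)) ∣ 7920 := by
    rw [← hG]
    exact Subgroup.card_subgroup_dvd_card _
  exact Cfsg.Agent.H81.M11.invol_arith na nb nc nu ns nw nd nf _
    (ma.trans (by decide)) (mb.trans (by decide)) (mc.trans (by decide)) (mu.trans (by decide))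
    (ms.trans (by decide)) (mw.trans (by decide)) (md.trans (by decide)) (mf.trans (by decide))
    (by exact_mod_cast ba) (by exact_mod_cast bb) (by exact_mod_cast bc) (by exact_mod_cast bu)
    (by exact_mod_cast bs) (by exact_mod_cast bw) (by exact_mod_cast bd) (by exact_mod_cast bf)
    r11 r5 r1 hsc'' rN hdvd

/-- values of the characters on a real element of order 3 -/
theorem real3_values {G : Type*} [Group G] [Finite G] [IsSimpleGroup G]
    (hG : Nat.card G = 7920) {χ₁ a b c u s s' w d f : Cfsg.IrrCharacter G}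
    (hT : IsTable χ₁ a b c u s s' w d f) (x r : G) (hx : orderOf x = 3)
    (hr : r * x * r⁻¹ = x⁻¹) :
    (a : G → ℂ) x = 1 ∧ (b : G → ℂ) x = 1 ∧ (c : G → ℂ) x = 1 ∧ (u : G → ℂ) x = 2 ∧
    (s : G → ℂ) x = -2 ∧ (s' : G → ℂ) x = -2 ∧ (w : G → ℂ) x = -1 ∧ (d : G → ℂ) x = 0 ∧
    (f : G → ℂ) x = 1 := by
  classical
  have hT' := hT
  obtain ⟨hsum, ⟨h1, ha, hb, hc, hu, hs, hs', hw, hd, hf⟩, htriv, hR11, hR5, hV⟩ := hT'
  obtain ⟨na, ea, ma⟩ := Cfsg.Agent.H32.M11.real3_value a x r hx hr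
  obtain ⟨nb, eb, mb⟩ := Cfsg.Agent.H32.M11.real3_value b x r hx hr
  obtain ⟨nc, ec, mc⟩ := Cfsg.Agent.H32.M11.real3_value c x r hx hr
  obtain ⟨nu, eu, mu⟩ := Cfsg.Agent.H32.M11.real3_value u x r hx hr
  obtain ⟨ns, es, ms⟩ := Cfsg.Agent.H32.M11.real3_value s x r hx hr
  obtain ⟨nw, ew, mw⟩ := Cfsg.Agent.H32.M11.real3_value w x r hx hr
  obtain ⟨nd, ed, md⟩ := Cfsg.Agent.H32.M11.real3_value d x r hx hr
  obtain ⟨nf, ef, mf⟩ := Cfsg.Agent.H32.M11.real3_value f x r hx hr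
  rw [ha] at ma
  rw [hb] at mb
  rw [hc] at mc
  rw [hu] at mu
  rw [hs] at ms
  rw [hw] at mw
  rw [hd] at md
  rw [hf] at mf
  have hx1 : x ≠ 1 := by
    intro h
    rw [h, orderOf_one] at hx
    norm_num at hx
  obtain ⟨es', r11, r5, r1, rN⟩ := regular_relations hT x hx1 (by rw [hx]; norm_num)
    (by rw [hx]; norm_num) na nb nc nu ns nw nd nf ea eb ec eu es ew ed ef
  have hdvd := Cfsg.Agent.H59.M11.centralizer_order3_dvd hG x hx
  have hcc := Cfsg.Agent.H80.M11.central_char_dvd s x ns es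
  rw [hs, hG] at hcc
  obtain ⟨va, vb, vc, vu, vs, vw, vd, vf⟩ := Cfsg.Agent.H81.M11.real3_arith na nb nc nu ns nw nd nf _
    (ma.trans (by decide)) (mb.trans (by decide)) (mc.trans (by decide)) (mu.trans (by decide))
    (ms.trans (by decide)) (mw.trans (by decide)) (md.trans (by decide)) (mf.trans (by decide))
    r11 r5 r1 rN hdvd (by exact_mod_cast hcc)
  subst va vb vc vu vs vw vd vf
  refine ⟨?_, ?_, ?_, ?_, ?_, ?_, ?_, ?_, ?_⟩
  · rw [ea]; norm_num
  · rw [eb]; norm_num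
  · rw [ec]; norm_num
  · rw [eu]; norm_num
  · rw [es]; norm_num
  · rw [es']; norm_num
  · rw [ew]; norm_num
  · rw [ed]; norm_num
  · rw [ef]; norm_num

/-- S0434: the normalizer of a Sylow 3-subgroup has order 144. -/
theorem normalizer_sylow3 {G : Type*} [Group G] [Finite G] [IsSimpleGroup G]
    (hG : Nat.card G = 7920) (P : Sylow 3 G) :
    Nat.card (normalizer ((P : Subgroup G) : Set G)) = 144 := by
  classical
  haveI : Fact (Nat.Prime 2) := ⟨by norm_num⟩
  haveI : Fact (Nat.Prime 3) := ⟨by norm_num⟩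
  letI : Fintype G := Fintype.ofFinite G
  rcases Cfsg.Agent.H70.M11.normalizer_sylow3_cases hG P with h36 | h144
  · exfalso
    obtain ⟨χ₁, a, b, c, u, s, s', w, d, f, hT⟩ := exists_table hG
    have hP9 : Nat.card (P : Subgroup G) = 9 := by
      have h := P.card_eq_multiplicity
      have hfac : (7920 : ℕ).factorization 3 = 2 := by
        have h' : (7920 : ℕ) = 3 ^ 2 * 880 := by norm_num
        rw [h', Nat.factorization_mul (by norm_num) (by norm_num),
          Nat.Prime.factorization_pow (by norm_num)]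
        have h2 : (880 : ℕ).factorization 3 = 0 :=
          Nat.factorization_eq_zero_of_not_dvd (by norm_num)
        simp [h2]
      rw [hG, hfac] at h
      simpa using h
    -- a subgroup of order 4 of the normalizer
    obtain ⟨K, hK⟩ := Sylow.exists_subgroup_card_pow_prime (G := ↥(normalizer ((P : Subgroup G) : Set G)))
      2 (n := 2) (by rw [h36]; norm_num)
    set Q : Subgroup G := K.map (normalizer ((P : Subgroup G) : Set G)).subtype with hQdef
    have hQcard : Nat.card Q = 4 := by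
      rw [hQdef, Subgroup.card_map_of_injective (Subgroup.subtype_injective _), hK]
      norm_num
    have hQle : Q ≤ normalizer ((P : Subgroup G) : Set G) := by
      rw [hQdef]
      exact Subgroup.map_subtype_le K
    have hC9 := Cfsg.Agent.H70.M11.centralizer_sylow3 hG (fun t ht => invol_centralizer hG t ht) P
    have hfaith : ∀ q ∈ Q, (∀ x ∈ (P : Subgroup G), q * x * q⁻¹ = x) → q = 1 := by
      intro q hq hcen
      have hqC : q ∈ centralizer ((P : Subgroup G) : Set G) := by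
        rw [mem_centralizer_iff]
        intro x hx
        have := hcen x hx
        have h2 := congrArg (fun t => t * q) this
        simp only [inv_mul_cancel_right] at h2
        exact h2.symm
      have o1 : orderOf q ∣ 9 := by
        rw [← hC9]
        have := orderOf_dvd_natCard (⟨q, hqC⟩ : ↥(centralizer ((P : Subgroup G) : Set G)))
        rwa [Subgroup.orderOf_mk] at this
      have o2 : orderOf q ∣ 4 := by
        rw [← hQcard]
        have := orderOf_dvd_natCard (⟨q, hq⟩ : ↥Q)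
        rwa [Subgroup.orderOf_mk] at this
      have o3 : orderOf q ∣ Nat.gcd 9 4 := Nat.dvd_gcd o1 o2
      have o4 : orderOf q = 1 := by
        have : Nat.gcd 9 4 = 1 := by norm_num
        rw [this] at o3
        exact Nat.dvd_one.mp o3
      exact orderOf_eq_one_iff.mp o4
    obtain ⟨hexp, r, -, hr⟩ := Cfsg.Agent.H59.M11.exists_inverting_of_card_four (P : Subgroup G) Q hP9 hQcard hQle
      hfaith
    have hord3 : ∀ x ∈ (P : Subgroup G), x ≠ 1 → orderOf x = 3 := by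
      intro x hx hx1
      have h3 : orderOf x ∣ 3 := orderOf_dvd_of_pow_eq_one (hexp x hx)
      rcases (Nat.dvd_prime (by norm_num : Nat.Prime 3)).mp h3 with h | h
      · exact absurd (orderOf_eq_one_iff.mp h) hx1
      · exact h
    have hconj : ∀ x ∈ (P : Subgroup G), ∀ y ∈ (P : Subgroup G), x ≠ 1 → y ≠ 1 → IsConj x y := by
      intro x hx y hy hx1 hy1
      obtain ⟨xa, xb, xc, xu, xs, xs', xw, xd, xf⟩ :=
        real3_values hG hT x r (hord3 x hx hx1) (hr x hx)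
      obtain ⟨ya, yb, yc, yu, ys, ys', yw, yd, yf⟩ :=
        real3_values hG hT y r (hord3 y hy hy1) (hr y hy)
      have hco := Cfsg.Agent.H4.column_orthogonality (G := G) x y
      rw [hT.1] at hco
      simp only [hT.2.2.1, xa, xb, xc, xu, xs, xs', xw, xd, xf, ya, yb, yc, yu, ys, ys', yw, yd,
        yf] at hco
      simp only [map_one, map_ofNat, map_neg, map_zero] at hco
      have hne : Nat.card {c : G // c * x * c⁻¹ = y} ≠ 0 := by
        intro h0
        rw [h0] at hco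
        norm_num at hco
      have hnonempty : Nonempty {c : G // c * x * c⁻¹ = y} := by
        by_contra hemp
        rw [not_nonempty_iff] at hemp
        exact hne (Nat.card_eq_zero.mpr (Or.inl hemp))
      obtain ⟨c0, hc0⟩ := hnonempty
      exact isConj_iff.mpr ⟨c0, hc0⟩
    have h8 := Cfsg.Agent.H59.M11.eight_dvd_normalizer P hP9 hconj
    rw [h36] at h8
    norm_num at h8
  · exact h144

end Cfsg.Agent.H93.M11C
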