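import Mathlib
import Cfsg.Prelude.Def_Blocks
import Cfsg.Prelude.Def_Sporadic_a
import Cfsg.Agent.H93.M11C
import Cfsg.Agent.H83.ClassProd
import Cfsg.Agent.H25.M11Arith2V
import Cfsg.Agent.H64.M11TI
import Cfsg.Agent.H64.M11NoE8
import Cfsg.Agent.H64.M11Free
import Cfsg.Agent.H80.M11Reg
import Cfsg.Agent.H25.M11NonInv
import Cfsg.Agent.H71.M11Fib
import Cfsg.Agent.H80.M11Type
import Cfsg.Agent.H4.M11DQ
import Cfsg.Agent.H4.M11BN
import Cfsg.Agent.H70.M11Perm
import Cfsg.Agent.H61.M11Steiner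
import Cfsg.Agent.H69.M11AutIso
import Cfsg.Agent.S0418
import Cfsg.Agent.S0426
import Cfsg.Agent.S0411

set_option autoImplicit false
set_option linter.style.haveILetI false

namespace Cfsg.Agent.H93.M11U

open Subgroup
open scoped ComplexConjugate
open Cfsg.Agent.H93.M11C

/-- class equation for one class: `|a^G| * |C(a)| = |G|`. -/
theorem card_isConj_mul {G : Type*} [Group G] [Finite G] (a : G) :
    Nat.card {x : G // IsConj a x} * Nat.card (Subgroup.centralizer ({a} : Set G)) =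
      Nat.card G := by
  classical
  have h1 : Nat.card (MulAction.orbit (ConjAct G) a) *
      Nat.card (MulAction.stabilizer (ConjAct G) a) = Nat.card (ConjAct G) := by
    rw [← Subgroup.card_mul_index (MulAction.stabilizer (ConjAct G) a),
      MulAction.index_stabilizer, mul_comm, Nat.card_coe_set_eq]
  have h2 : Nat.card (MulAction.orbit (ConjAct G) a) = Nat.card {x : G // IsConj a x} := by
    apply Nat.card_congr
    apply Equiv.subtypeEquivRight
    intro x
    rw [ConjAct.mem_orbit_conjAct, isConj_comm]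
  have h3 : Nat.card (MulAction.stabilizer (ConjAct G) a) =
      Nat.card (Subgroup.centralizer ({a} : Set G)) := by
    apply Nat.card_congr
    refine Equiv.subtypeEquiv ConjAct.ofConjAct.toEquiv ?_
    intro g
    rw [MulAction.mem_stabilizer_iff, ConjAct.smul_def, Subgroup.mem_centralizer_iff]
    simp only [Set.mem_singleton_iff, forall_eq, MulEquiv.toEquiv_eq_coe, EquivLike.coe_coe]
    constructor
    · intro h
      calc a * ConjAct.ofConjAct g
          = (ConjAct.ofConjAct g * a * (ConjAct.ofConjAct g)⁻¹) * ConjAct.ofConjAct g := by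
            rw [h]
        _ = ConjAct.ofConjAct g * a := by group
    · intro h
      calc ConjAct.ofConjAct g * a * (ConjAct.ofConjAct g)⁻¹
          = (a * ConjAct.ofConjAct g) * (ConjAct.ofConjAct g)⁻¹ := by rw [h]
        _ = a := by group
  have h4 : Nat.card (ConjAct G) = Nat.card G := rfl
  rw [← h2, ← h3, h1, h4]

theorem sylow3_card {G : Type*} [Group G] [Finite G] (hG : Nat.card G = 7920)
    (P : Sylow 3 G) : Nat.card (P : Subgroup G) = 9 := by
  haveI : Fact (Nat.Prime 3) := ⟨by norm_num⟩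
  have h := P.card_eq_multiplicity
  have hfac : (7920 : ℕ).factorization 3 = 2 := by
    have h' : (7920 : ℕ) = 3 ^ 2 * 880 := by norm_num
    rw [h', Nat.factorization_mul (by norm_num) (by norm_num),
      Nat.Prime.factorization_pow (by norm_num)]
    have h2 : (880 : ℕ).factorization 3 = 0 :=
      Nat.factorization_eq_zero_of_not_dvd (by norm_num)
    simp [h2]
  rw [hG, hfac] at h
  simpa using h

theorem centralizer_sylow3' {G : Type*} [Group G] [Finite G] [IsSimpleGroup G]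
    (hG : Nat.card G = 7920) (P : Sylow 3 G) :
    Nat.card (centralizer ((P : Subgroup G) : Set G)) = 9 :=
  Cfsg.Agent.H70.M11.centralizer_sylow3 hG (fun t ht => invol_centralizer hG t ht) P

/-- exponent 3 and an inverting involution -/
theorem sylow3_invol {G : Type*} [Group G] [Finite G] [IsSimpleGroup G]
    (hG : Nat.card G = 7920) (P : Sylow 3 G) :
    (∀ x ∈ (P : Subgroup G), x ^ 3 = 1) ∧
      ∃ t : G, orderOf t = 2 ∧ ∀ p ∈ (P : Subgroup G), t * p * t⁻¹ = p⁻¹ := by
  classical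
  haveI : Fact (Nat.Prime 2) := ⟨by norm_num⟩
  haveI : Fact (Nat.Prime 3) := ⟨by norm_num⟩
  have h144 := normalizer_sylow3 hG P
  have hP9 := sylow3_card hG P
  obtain ⟨K, hK⟩ := Sylow.exists_subgroup_card_pow_prime
    (G := ↥(normalizer ((P : Subgroup G) : Set G))) 2 (n := 2) (by rw [h144]; norm_num)
  set Q : Subgroup G := K.map (normalizer ((P : Subgroup G) : Set G)).subtype with hQdef
  have hQcard : Nat.card Q = 4 := by
    rw [hQdef, Subgroup.card_map_of_injective (Subgroup.subtype_injective _), hK]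
    norm_num
  have hQle : Q ≤ normalizer ((P : Subgroup G) : Set G) := by
    rw [hQdef]
    exact Subgroup.map_subtype_le K
  have hC9 := centralizer_sylow3' hG P
  have hfaith : ∀ q ∈ Q, (∀ x ∈ (P : Subgroup G), q * x * q⁻¹ = x) → q = 1 := by
    intro q hq hcen
    have hqC : q ∈ centralizer ((P : Subgroup G) : Set G) := by
      rw [mem_centralizer_iff]
      intro x hx
      have := hcen x hx
      have h2 := congrArg (fun t => t * q) this
      simp only [inv_mul_cancel_right] at h2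
      exact h2.symm
    have o1 : orderOf q ∣ 9 := by
      rw [← hC9]
      have := orderOf_dvd_natCard (⟨q, hqC⟩ : ↥(centralizer ((P : Subgroup G) : Set G)))
      rwa [Subgroup.orderOf_mk] at this
    have o2 : orderOf q ∣ 4 := by
      rw [← hQcard]
      have := orderOf_dvd_natCard (⟨q, hq⟩ : ↥Q)
      rwa [Subgroup.orderOf_mk] at this
    have o3 : orderOf q ∣ Nat.gcd 9 4 := Nat.dvd_gcd o1 o2
    have o4 : orderOf q = 1 := by
      have : Nat.gcd 9 4 = 1 := by norm_num
      rw [this] at o3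
      exact Nat.dvd_one.mp o3
    exact orderOf_eq_one_iff.mp o4
  obtain ⟨hexp, r, hrQ, hr⟩ :=
    Cfsg.Agent.H59.M11.exists_inverting_of_card_four (P : Subgroup G) Q hP9 hQcard hQle hfaith
  refine ⟨hexp, r, ?_, hr⟩
  have hr2 : r * r = 1 := by
    apply hfaith (r * r) (Q.mul_mem hrQ hrQ)
    intro x hx
    have h1 := hr x hx
    have h2 := hr x⁻¹ ((P : Subgroup G).inv_mem hx)
    rw [inv_inv] at h2
    calc r * r * x * (r * r)⁻¹ = r * (r * x * r⁻¹) * r⁻¹ := by group
      _ = r * x⁻¹ * r⁻¹ := by rw [h1]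
      _ = x := h2
  have hr1 : r ≠ 1 := by
    intro h1
    -- then every element of P is its own inverse
    have hall : ∀ x ∈ (P : Subgroup G), x = 1 := by
      intro x hx
      have h2 := hr x hx
      rw [h1] at h2
      simp only [one_mul, inv_one, mul_one] at h2
      have h3 : x ^ 3 = 1 := hexp x hx
      have h4 : x * x = 1 := by
        nth_rewrite 2 [h2]
        exact mul_inv_cancel x
      calc x = x ^ 3 * (x * x)⁻¹ := by group
        _ = 1 := by rw [h3, h4]; simp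
    have hbot : (P : Subgroup G) = ⊥ := by
      rw [Subgroup.eq_bot_iff_forall]
      exact hall
    rw [hbot] at hP9
    simp at hP9
  exact orderOf_eq_prime (by rw [pow_two]; exact hr2) hr1

/-- every element of order 3 lies in a Sylow 3-subgroup -/
theorem exists_sylow3_mem {G : Type*} [Group G] [Finite G] (x : G) (hx : orderOf x = 3) :
    ∃ P : Sylow 3 G, x ∈ (P : Subgroup G) := by
  haveI : Fact (Nat.Prime 3) := ⟨by norm_num⟩
  have hpg : IsPGroup 3 (zpowers x) := by
    apply IsPGroup.of_card (n := 1)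
    rw [Nat.card_zpowers, hx, pow_one]
  obtain ⟨P, hP⟩ := hpg.exists_le_sylow
  exact ⟨P, hP (mem_zpowers x)⟩

/-- values and centralizer of an element of order 3 -/
theorem order3_data {G : Type*} [Group G] [Finite G] [IsSimpleGroup G]
    (hG : Nat.card G = 7920) {χ₁ a b c u s s' w d f : Cfsg.IrrCharacter G}
    (hT : IsTable χ₁ a b c u s s' w d f) (x : G) (hx : orderOf x = 3) :
    ((a : G → ℂ) x = 1 ∧ (b : G → ℂ) x = 1 ∧ (c : G → ℂ) x = 1 ∧ (u : G → ℂ) x = 2 ∧
    (s : G → ℂ) x = -2 ∧ (s' : G → ℂ) x = -2 ∧ (w : G → ℂ) x = -1 ∧ (d : G → ℂ) x = 0 ∧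
    (f : G → ℂ) x = 1) ∧ Nat.card (centralizer ({x} : Set G)) = 18 := by
  obtain ⟨P, hxP⟩ := exists_sylow3_mem x hx
  obtain ⟨-, t, -, ht⟩ := sylow3_invol hG P
  have hv := real3_values hG hT x t hx (ht x hxP)
  refine ⟨hv, ?_⟩
  obtain ⟨va, vb, vc, vu, vs, vs', vw, vd, vf⟩ := hv
  have hx1 : x ≠ 1 := by
    intro h
    rw [h, orderOf_one] at hx
    norm_num at hx
  obtain ⟨-, -, -, -, rN⟩ := regular_relations hT x hx1 (by rw [hx]; norm_num)
    (by rw [hx]; norm_num) 1 1 1 2 (-2) (-1) 0 1 (by rw [va]; norm_num) (by rw [vb]; norm_num)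
    (by rw [vc]; norm_num) (by rw [vu]; norm_num) (by rw [vs]; norm_num)
    (by rw [vw]; norm_num) (by rw [vd]; norm_num) (by rw [vf]; norm_num)
  norm_num at rN
  exact_mod_cast rN

theorem order3_centralizer {G : Type*} [Group G] [Finite G] [IsSimpleGroup G]
    (hG : Nat.card G = 7920) (x : G) (hx : orderOf x = 3) :
    Nat.card (centralizer ({x} : Set G)) = 18 := by
  obtain ⟨χ₁, a, b, c, u, s, s', w, d, f, hT⟩ := exists_table hG
  exact (order3_data hG hT x hx).2

theorem isConj_of_sum_ne_zero {G : Type*} [Group G] [Finite G] (x y : G)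
    (h : ∑ᶠ χ : Cfsg.IrrCharacter G, (χ : G → ℂ) x * conj ((χ : G → ℂ) y) ≠ 0) :
    IsConj x y := by
  classical
  letI : Fintype G := Fintype.ofFinite G
  have hco := Cfsg.Agent.H4.column_orthogonality (G := G) x y
  have hne : Nat.card {c : G // c * x * c⁻¹ = y} ≠ 0 := by
    intro h0
    rw [h0] at hco
    apply h
    rw [hco]
    simp
  have hnonempty : Nonempty {c : G // c * x * c⁻¹ = y} := by
    by_contra hemp
    rw [not_nonempty_iff] at hemp
    exact hne (Nat.card_eq_zero.mpr (Or.inl hemp))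
  obtain ⟨c0, hc0⟩ := hnonempty
  exact isConj_iff.mpr ⟨c0, hc0⟩

theorem order3_conj {G : Type*} [Group G] [Finite G] [IsSimpleGroup G]
    (hG : Nat.card G = 7920) (x y : G) (hx : orderOf x = 3) (hy : orderOf y = 3) :
    IsConj x y := by
  obtain ⟨χ₁, a, b, c, u, s, s', w, d, f, hT⟩ := exists_table hG
  obtain ⟨⟨xa, xb, xc, xu, xs, xs', xw, xd, xf⟩, -⟩ := order3_data hG hT x hx
  obtain ⟨⟨ya, yb, yc, yu, ys, ys', yw, yd, yf⟩, -⟩ := order3_data hG hT y hy
  apply isConj_of_sum_ne_zero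
  rw [hT.1]
  simp only [hT.2.2.1, xa, xb, xc, xu, xs, xs', xw, xd, xf, ya, yb, yc, yu, ys, ys', yw, yd, yf]
  simp only [map_one, map_ofNat, map_neg, map_zero]
  norm_num


/-- values of the characters on an involution -/
theorem invol_values {G : Type*} [Group G] [Finite G] [IsSimpleGroup G]
    (hG : Nat.card G = 7920) {χ₁ a b c u s s' w d f : Cfsg.IrrCharacter G}
    (hT : IsTable χ₁ a b c u s s' w d f) (t : G) (ht : orderOf t = 2) :
    (((a : G → ℂ) t = 2 ∧ (b : G → ℂ) t = -2 ∧ (c : G → ℂ) t = -2) ∨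
     ((a : G → ℂ) t = -2 ∧ (b : G → ℂ) t = 2 ∧ (c : G → ℂ) t = -2) ∨
     ((a : G → ℂ) t = -2 ∧ (b : G → ℂ) t = -2 ∧ (c : G → ℂ) t = 2)) ∧
    (u : G → ℂ) t = 3 ∧ (s : G → ℂ) t = 0 ∧ (s' : G → ℂ) t = 0 ∧ (w : G → ℂ) t = 4 ∧
    (d : G → ℂ) t = -3 ∧ (f : G → ℂ) t = -1 := by
  classical
  haveI : Fact (Nat.Prime 11) := ⟨by norm_num⟩
  have hT' := hT
  obtain ⟨hsum, ⟨h1, ha, hb, hc, hu, hs, hs', hw, hd, hf⟩, htriv, hR11, hR5, hV⟩ := hT'
  have hperf := hperf_7920 hG
  obtain ⟨na, ea, ma, ba⟩ := Cfsg.Agent.H80.M11.invol_value hperf a t ht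
  obtain ⟨nb, eb, mb, bb⟩ := Cfsg.Agent.H80.M11.invol_value hperf b t ht
  obtain ⟨nc, ec, mc, bc⟩ := Cfsg.Agent.H80.M11.invol_value hperf c t ht
  obtain ⟨nu, eu, mu, bu⟩ := Cfsg.Agent.H80.M11.invol_value hperf u t ht
  obtain ⟨ns, es, ms, bs⟩ := Cfsg.Agent.H80.M11.invol_value hperf s t ht
  obtain ⟨nw, ew, mw, bw⟩ := Cfsg.Agent.H80.M11.invol_value hperf w t ht
  obtain ⟨nd, ed, md, bd⟩ := Cfsg.Agent.H80.M11.invol_value hperf d t ht
  obtain ⟨nf, ef, mf, bf⟩ := Cfsg.Agent.H80.M11.invol_value hperf f t ht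
  rw [ha] at ma ba
  rw [hb] at mb bb
  rw [hc] at mc bc
  rw [hu] at mu bu
  rw [hs] at ms bs
  rw [hw] at mw bw
  rw [hd] at md bd
  rw [hf] at mf bf
  have ht1 : t ≠ 1 := by
    intro h
    rw [h, orderOf_one] at ht
    norm_num at ht
  obtain ⟨es', r11, r5, r1, rN⟩ := regular_relations hT t ht1 (by rw [ht]; norm_num)
    (by rw [ht]; norm_num) na nb nc nu ns nw nd nf ea eb ec eu es ew ed ef
  -- the class product constant
  have h11G : 11 ∣ Nat.card G := by rw [hG]; norm_num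
  obtain ⟨z, hz⟩ := exists_prime_orderOf_dvd_card' (G := G) 11 h11G
  obtain ⟨va, vb, vc, vd, vu, vw, vf, vs⟩ := hV z hz
  have hsc := Cfsg.Agent.H80.M11.class_product_vanish t z
    (Cfsg.Agent.H70.M11.no_invol_prod_11 hG t z ht hz)
  have hdegC : ∀ χ : Cfsg.IrrCharacter G, (χ : G → ℂ) 1 = (Cfsg.charDegree (χ : G → ℂ) : ℂ) :=
    fun χ => Cfsg.Agent.H82.irr_one_eq_charDegree χ
  rw [hsum] at hsc
  have vs' : conj ((s : G → ℂ) z) + conj ((s' : G → ℂ) z) = -1 := by
    rw [← map_add, vs]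
    simp
  simp only [hdegC, h1, ha, hb, hc, hu, hs, hs', hw, hd, hf, htriv, ea, eb, ec, eu, es, es',
    ew, ed, ef, va, vb, vc, vd, vu, vw, vf] at hsc
  simp only [Nat.cast_ofNat, Nat.cast_one, map_one, map_neg, map_zero] at hsc
  have hsc' : ((720 - 72 * (na ^ 2 + nb ^ 2 + nc ^ 2) + 16 * nd ^ 2 - 45 * ns ^ 2 : ℤ) : ℂ) =
      ((0 : ℤ) : ℂ) := by
    push_cast
    linear_combination 720 * hsc - 45 * (ns : ℂ) ^ 2 * vs'
  have hsc'' : 720 - 72 * (na ^ 2 + nb ^ 2 + nc ^ 2) + 16 * nd ^ 2 - 45 * ns ^ 2 = 0 := by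
    exact_mod_cast hsc'
  have hdvd : Nat.card (centralizer ({t} : Set G)) ∣ 7920 := by
    rw [← hG]
    exact Subgroup.card_subgroup_dvd_card _
  obtain ⟨habc, vu', vs'', vw', vd', vf'⟩ := Cfsg.Agent.H25.M11.invol_arith_values na nb nc nu ns nw nd nf _
    (ma.trans (by decide)) (mb.trans (by decide)) (mc.trans (by decide)) (mu.trans (by decide))
    (ms.trans (by decide)) (mw.trans (by decide)) (md.trans (by decide)) (mf.trans (by decide))
    (by exact_mod_cast ba) (by exact_mod_cast bb) (by exact_mod_cast bc) (by exact_mod_cast bu)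
    (by exact_mod_cast bs) (by exact_mod_cast bw) (by exact_mod_cast bd) (by exact_mod_cast bf)
    r11 r5 r1 hsc'' rN hdvd
  subst vu' vs'' vw' vd' vf'
  refine ⟨?_, ?_, ?_, ?_, ?_, ?_, ?_⟩
  · rcases habc with ⟨h1, h2, h3⟩ | ⟨h1, h2, h3⟩ | ⟨h1, h2, h3⟩
    · left
      subst h1 h2 h3
      exact ⟨by rw [ea]; norm_num, by rw [eb]; norm_num, by rw [ec]; norm_num⟩
    · right; left
      subst h1 h2 h3
      exact ⟨by rw [ea]; norm_num, by rw [eb]; norm_num, by rw [ec]; norm_num⟩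
    · right; right
      subst h1 h2 h3
      exact ⟨by rw [ea]; norm_num, by rw [eb]; norm_num, by rw [ec]; norm_num⟩
  · rw [eu]; norm_num
  · rw [es]; norm_num
  · rw [es']; norm_num
  · rw [ew]; norm_num
  · rw [ed]; norm_num
  · rw [ef]; norm_num

theorem invol_conj {G : Type*} [Group G] [Finite G] [IsSimpleGroup G]
    (hG : Nat.card G = 7920) (t t' : G) (ht : orderOf t = 2) (ht' : orderOf t' = 2) :
    IsConj t t' := by
  obtain ⟨χ₁, a, b, c, u, s, s', w, d, f, hT⟩ := exists_table hG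
  obtain ⟨xabc, xu, xs, xs', xw, xd, xf⟩ := invol_values hG hT t ht
  obtain ⟨yabc, yu, ys, ys', yw, yd, yf⟩ := invol_values hG hT t' ht'
  apply isConj_of_sum_ne_zero
  rw [hT.1]
  rcases xabc with ⟨xa, xb, xc⟩ | ⟨xa, xb, xc⟩ | ⟨xa, xb, xc⟩ <;>
  rcases yabc with ⟨ya, yb, yc⟩ | ⟨ya, yb, yc⟩ | ⟨ya, yb, yc⟩ <;>
  · simp only [hT.2.2.1, xa, xb, xc, xu, xs, xs', xw, xd, xf, ya, yb, yc, yu, ys, ys', yw, yd,
      yf]
    simp only [map_one, map_ofNat, map_neg, map_zero]
    norm_num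

theorem exists_invol {G : Type*} [Group G] [Finite G] (hG : Nat.card G = 7920) :
    ∃ t : G, orderOf t = 2 := by
  haveI : Fact (Nat.Prime 2) := ⟨by norm_num⟩
  exact exists_prime_orderOf_dvd_card' (G := G) 2 (by rw [hG]; norm_num)

theorem orderOf_eq_of_isConj {G : Type*} [Group G] {x y : G} (h : IsConj x y) :
    orderOf x = orderOf y := by
  obtain ⟨c, hc⟩ := isConj_iff.mp h
  have hsc : SemiconjBy c x y := by
    unfold SemiconjBy
    rw [← hc]
    group
  exact hsc.orderOf_eq c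

theorem invol_iff {G : Type*} [Group G] [Finite G] [IsSimpleGroup G]
    (hG : Nat.card G = 7920) (t₀ : G) (ht₀ : orderOf t₀ = 2) (g : G) :
    orderOf g = 2 ↔ IsConj g t₀ :=
  ⟨fun h => invol_conj hG g t₀ h ht₀, fun h => by rw [orderOf_eq_of_isConj h, ht₀]⟩

theorem order3_iff {G : Type*} [Group G] [Finite G] [IsSimpleGroup G]
    (hG : Nat.card G = 7920) (x : G) (hx : orderOf x = 3) (g : G) :
    orderOf g = 3 ↔ IsConj g x :=
  ⟨fun h => order3_conj hG g x h hx, fun h => by rw [orderOf_eq_of_isConj h, hx]⟩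



theorem count18 {G : Type*} [Group G] [Finite G] [IsSimpleGroup G]
    (hG : Nat.card G = 7920) (x : G) (hx : orderOf x = 3) :
    Nat.card {g : G // orderOf g = 2 ∧ orderOf (g * x) = 3} = 18 := by
  obtain ⟨χ₁, a, b, c, u, s, s', w, d, f, hT⟩ := exists_table hG
  obtain ⟨t₀, ht₀⟩ := exists_invol hG
  have hcongr : Nat.card {g : G // orderOf g = 2 ∧ orderOf (g * x) = 3} =
      Nat.card {g : G // IsConj g t₀ ∧ IsConj (g * x) x} := by
    apply Nat.card_congr
    apply Equiv.subtypeEquivRight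
    intro g
    rw [invol_iff hG t₀ ht₀, order3_iff hG x hx]
  rw [hcongr]
  have hsc := Cfsg.Agent.H83.ClassProd.class_product_count t₀ x x
  rw [invol_centralizer hG t₀ ht₀, order3_centralizer hG x hx, hG, hT.1] at hsc
  obtain ⟨⟨xa, xb, xc, xu, xs, xs', xw, xd, xf⟩, -⟩ := order3_data hG hT x hx
  obtain ⟨tabc, tu, ts, ts', tw, td, tf⟩ := invol_values hG hT t₀ ht₀
  have hdegC : ∀ χ : Cfsg.IrrCharacter G, (χ : G → ℂ) 1 = (Cfsg.charDegree (χ : G → ℂ) : ℂ) :=
    fun χ => Cfsg.Agent.H82.irr_one_eq_charDegree χ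
  obtain ⟨-, ⟨h1, ha, hb, hc, hu, hs, hs', hw, hd, hf⟩, htriv, -⟩ := hT
  have key : (Nat.card {g : G // IsConj g t₀ ∧ IsConj (g * x) x} : ℂ) = ((18 : ℕ) : ℂ) := by
    rcases tabc with ⟨ta, tb, tc⟩ | ⟨ta, tb, tc⟩ | ⟨ta, tb, tc⟩ <;>
    · simp only [hdegC, h1, ha, hb, hc, hu, hs, hs', hw, hd, hf, htriv, xa, xb, xc, xu, xs, xs',
        xw, xd, xf, ta, tb, tc, tu, ts, ts', tw, td, tf] at hsc
      simp only [map_one, map_ofNat, map_neg, map_zero, Nat.cast_ofNat, Nat.cast_one] at hsc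
      simp only [Nat.cast_ofNat]
      linear_combination hsc / 864
  exact_mod_cast key

theorem inv_iff_order {G : Type*} [Group G] (g x : G) (hg : orderOf g = 2) (hx : orderOf x = 3) :
    g * x * g⁻¹ = x⁻¹ ↔ orderOf (g * x) = 2 := by
  have hg2 : g * g = 1 := by
    have := pow_orderOf_eq_one g
    rwa [hg, pow_two] at this
  have hginv : g⁻¹ = g := inv_eq_of_mul_eq_one_left hg2
  constructor
  · intro h
    apply orderOf_eq_prime
    · rw [pow_two]
      calc g * x * (g * x) = (g * x * g⁻¹) * (g * g) * x := by group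
        _ = 1 := by rw [h, hg2]; group
    · intro h1
      have hxg : x = g := by
        have : x = g⁻¹ := by
          calc x = g⁻¹ * (g * x) := by group
            _ = g⁻¹ := by rw [h1, mul_one]
        rw [this, hginv]
      rw [hxg, hg] at hx
      norm_num at hx
  · intro h
    have h2 : g * x * (g * x) = 1 := by
      have := pow_orderOf_eq_one (g * x)
      rwa [h, pow_two] at this
    rw [hginv]
    calc g * x * g = (g * x * (g * x)) * x⁻¹ := by group
      _ = x⁻¹ := by rw [h2, one_mul]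

theorem comm_iff_order {G : Type*} [Group G] (g h : G) (hg : orderOf g = 2)
    (hh : orderOf h = 2) :
    (g ≠ h ∧ g * h = h * g) ↔ orderOf (g * h) = 2 := by
  have hg2 : g * g = 1 := by
    have := pow_orderOf_eq_one g
    rwa [hg, pow_two] at this
  have hh2 : h * h = 1 := by
    have := pow_orderOf_eq_one h
    rwa [hh, pow_two] at this
  have hginv : g⁻¹ = g := inv_eq_of_mul_eq_one_left hg2
  have hhinv : h⁻¹ = h := inv_eq_of_mul_eq_one_left hh2
  constructor
  · rintro ⟨hne, hcomm⟩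
    apply orderOf_eq_prime
    · rw [pow_two]
      calc g * h * (g * h) = g * (h * g) * h := by group
        _ = g * (g * h) * h := by rw [hcomm]
        _ = (g * g) * (h * h) := by group
        _ = 1 := by rw [hg2, hh2, one_mul]
    · intro h1
      apply hne
      calc g = g * h * h⁻¹ := by group
        _ = h := by rw [h1, one_mul, hhinv]
  · intro ho
    have h2 : g * h * (g * h) = 1 := by
      have := pow_orderOf_eq_one (g * h)
      rwa [ho, pow_two] at this
    refine ⟨?_, ?_⟩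
    · intro hgh
      rw [hgh, hh2, orderOf_one] at ho
      norm_num at ho
    · calc g * h = (g * h * (g * h)) * (h⁻¹ * g⁻¹) := by group
        _ = h * g := by rw [h2, one_mul, hhinv, hginv]

theorem count12 {G : Type*} [Group G] [Finite G] [IsSimpleGroup G]
    (hG : Nat.card G = 7920) (x : G) (hx : orderOf x = 3) :
    Nat.card {h : G // orderOf h = 2 ∧ h * x * h⁻¹ = x⁻¹} = 12 := by
  obtain ⟨χ₁, a, b, c, u, s, s', w, d, f, hT⟩ := exists_table hG
  obtain ⟨t₀, ht₀⟩ := exists_invol hG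
  have hcongr : Nat.card {h : G // orderOf h = 2 ∧ h * x * h⁻¹ = x⁻¹} =
      Nat.card {g : G // IsConj g t₀ ∧ IsConj (g * x) t₀} := by
    apply Nat.card_congr
    apply Equiv.subtypeEquivRight
    intro g
    rw [← invol_iff hG t₀ ht₀, ← invol_iff hG t₀ ht₀]
    constructor
    · rintro ⟨h1, h2⟩
      exact ⟨h1, (inv_iff_order g x h1 hx).mp h2⟩
    · rintro ⟨h1, h2⟩
      exact ⟨h1, (inv_iff_order g x h1 hx).mpr h2⟩
  rw [hcongr]
  have hsc := Cfsg.Agent.H83.ClassProd.class_product_count t₀ x t₀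
  rw [invol_centralizer hG t₀ ht₀, hG, hT.1] at hsc
  obtain ⟨⟨xa, xb, xc, xu, xs, xs', xw, xd, xf⟩, -⟩ := order3_data hG hT x hx
  obtain ⟨tabc, tu, ts, ts', tw, td, tf⟩ := invol_values hG hT t₀ ht₀
  have hdegC : ∀ χ : Cfsg.IrrCharacter G, (χ : G → ℂ) 1 = (Cfsg.charDegree (χ : G → ℂ) : ℂ) :=
    fun χ => Cfsg.Agent.H82.irr_one_eq_charDegree χ
  obtain ⟨-, ⟨h1, ha, hb, hc, hu, hs, hs', hw, hd, hf⟩, htriv, -⟩ := hT
  have key : (Nat.card {g : G // IsConj g t₀ ∧ IsConj (g * x) t₀} : ℂ) = ((12 : ℕ) : ℂ) := by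
    rcases tabc with ⟨ta, tb, tc⟩ | ⟨ta, tb, tc⟩ | ⟨ta, tb, tc⟩ <;>
    · simp only [hdegC, h1, ha, hb, hc, hu, hs, hs', hw, hd, hf, htriv, xa, xb, xc, xu, xs, xs',
        xw, xd, xf, ta, tb, tc, tu, ts, ts', tw, td, tf] at hsc
      simp only [map_one, map_ofNat, map_neg, map_zero, Nat.cast_ofNat, Nat.cast_one] at hsc
      simp only [Nat.cast_ofNat]
      linear_combination hsc / 2304
  exact_mod_cast key

theorem comm12 {G : Type*} [Group G] [Finite G] [IsSimpleGroup G]
    (hG : Nat.card G = 7920) (h : G) (hh : orderOf h = 2) :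
    Nat.card {g : G // orderOf g = 2 ∧ g ≠ h ∧ g * h = h * g} = 12 := by
  obtain ⟨χ₁, a, b, c, u, s, s', w, d, f, hT⟩ := exists_table hG
  have hcongr : Nat.card {g : G // orderOf g = 2 ∧ g ≠ h ∧ g * h = h * g} =
      Nat.card {g : G // IsConj g h ∧ IsConj (g * h) h} := by
    apply Nat.card_congr
    apply Equiv.subtypeEquivRight
    intro g
    rw [← invol_iff hG h hh, ← invol_iff hG h hh]
    constructor
    · rintro ⟨h1, h2⟩
      exact ⟨h1, (comm_iff_order g h h1 hh).mp h2⟩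
    · rintro ⟨h1, h2⟩
      exact ⟨h1, (comm_iff_order g h h1 hh).mpr h2⟩
  rw [hcongr]
  have hsc := Cfsg.Agent.H83.ClassProd.class_product_count h h h
  rw [invol_centralizer hG h hh, hG, hT.1] at hsc
  obtain ⟨tabc, tu, ts, ts', tw, td, tf⟩ := invol_values hG hT h hh
  have hdegC : ∀ χ : Cfsg.IrrCharacter G, (χ : G → ℂ) 1 = (Cfsg.charDegree (χ : G → ℂ) : ℂ) :=
    fun χ => Cfsg.Agent.H82.irr_one_eq_charDegree χ
  obtain ⟨-, ⟨h1, ha, hb, hc, hu, hs, hs', hw, hd, hf⟩, htriv, -⟩ := hT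
  have key : (Nat.card {g : G // IsConj g h ∧ IsConj (g * h) h} : ℂ) = ((12 : ℕ) : ℂ) := by
    rcases tabc with ⟨ta, tb, tc⟩ | ⟨ta, tb, tc⟩ | ⟨ta, tb, tc⟩ <;>
    · simp only [hdegC, h1, ha, hb, hc, hu, hs, hs', hw, hd, hf, htriv,
        ta, tb, tc, tu, ts, ts', tw, td, tf] at hsc
      simp only [map_one, map_ofNat, map_neg, map_zero, Nat.cast_ofNat, Nat.cast_one] at hsc
      simp only [Nat.cast_ofNat]
      linear_combination hsc / 2304
  exact_mod_cast key

theorem exists_order3 {G : Type*} [Group G] [Finite G] (hG : Nat.card G = 7920) :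
    ∃ x : G, orderOf x = 3 := by
  haveI : Fact (Nat.Prime 3) := ⟨by norm_num⟩
  exact exists_prime_orderOf_dvd_card' (G := G) 3 (by rw [hG]; norm_num)

theorem count3 {G : Type*} [Group G] [Finite G] [IsSimpleGroup G]
    (hG : Nat.card G = 7920) : Nat.card {x : G // orderOf x = 3} = 440 := by
  obtain ⟨x₀, hx₀⟩ := exists_order3 hG
  have hcongr : Nat.card {x : G // orderOf x = 3} = Nat.card {x : G // IsConj x₀ x} := by
    apply Nat.card_congr
    apply Equiv.subtypeEquivRight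
    intro g
    rw [order3_iff hG x₀ hx₀, isConj_comm]
  rw [hcongr]
  have h := card_isConj_mul x₀
  rw [order3_centralizer hG x₀ hx₀, hG] at h
  omega



theorem orderOf_mul_swap {G : Type*} [Group G] (g x : G) : orderOf (x * g) = orderOf (g * x) := by
  have hsc : SemiconjBy g (x * g) (g * x) := by
    unfold SemiconjBy
    group
  exact hsc.orderOf_eq g

/-- Part I: a simple group of order 7920 has a subgroup of order 720. -/
theorem exists_subgroup_card_720 {G : Type*} [Group G] [Finite G] [IsSimpleGroup G]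
    (hG : Nat.card G = 7920) : ∃ M : Subgroup G, Nat.card M = 720 := by
  classical
  haveI : Fact (Nat.Prime 3) := ⟨by norm_num⟩
  have h48 : ∀ t : G, orderOf t = 2 → Nat.card (centralizer ({t} : Set G)) = 48 :=
    fun t ht => invol_centralizer hG t ht
  have h18 : ∀ x : G, orderOf x = 3 → Nat.card (centralizer ({x} : Set G)) = 18 :=
    fun x hx => order3_centralizer hG x hx
  have hN := normalizer_sylow3 hG
  have hC := centralizer_sylow3' hG
  have hTI := Cfsg.Agent.H64.M11.sylow3_unique_of_mem hG h18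
  have hnoE8 : ∀ E : Subgroup G, Nat.card E = 8 → ¬ ∀ e ∈ E, e * e = 1 :=
    fun E hE hexp => Cfsg.Agent.H64.M11.no_elementary_eight hG h18 hN hC E hE hexp
  have hfree := Cfsg.Agent.H64.M11.centralizer_pair_trivial h18 hnoE8
  have hcount3 := count3 hG
  have hcount18 := count18 hG
  have htrans := Cfsg.Agent.H80.M11.pair_transitive hG hfree hcount3 hcount18
  have hnon : ∀ (P : Sylow 3 G) (x : G), orderOf x = 3 → x ∈ (P : Subgroup G) →
      Nat.card {h : G // orderOf h = 2 ∧ h * x * h⁻¹ = x⁻¹ ∧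
        ¬ ∀ p ∈ (P : Subgroup G), h * p * h⁻¹ = p⁻¹} ≤ 3 := by
    intro P x hx hxP
    obtain ⟨-, t, ht, htP⟩ := sylow3_invol hG P
    exact Cfsg.Agent.H25.M11.card_noninverting_le_three P (sylow3_card hG P) t ht htP x hx hxP (count12 hG x hx)
  have hfib : ∀ (P : Sylow 3 G) (x h : G), orderOf x = 3 → x ∈ (P : Subgroup G) →
      orderOf h = 2 → h * x * h⁻¹ = x⁻¹ → h ∈ normalizer ((P : Subgroup G) : Set G) →
      (¬ ∀ p ∈ (P : Subgroup G), h * p * h⁻¹ = p⁻¹) →
      Nat.card {g : G // orderOf g = 2 ∧ orderOf (g * x) = 3 ∧ g * h = h * g} ≤ 5 := by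
    intro P x h hx hxP hh hhx hnorm hnot
    obtain ⟨-, t, ht, htP⟩ := sylow3_invol hG P
    exact Cfsg.Agent.H71.M11.card_fiber_le_five P (sylow3_card hG P) (hC P) t ht htP x h hx hxP hh hhx hnorm hnot
      (comm12 hG h hh)
  -- choose x, P, g
  obtain ⟨x, hx⟩ := exists_order3 hG
  obtain ⟨P, hxP⟩ := exists_sylow3_mem x hx
  have hx1 : x ≠ 1 := by
    intro h
    rw [h, orderOf_one] at hx
    norm_num at hx
  have hne : Nonempty {g : G // orderOf g = 2 ∧ orderOf (g * x) = 3} := by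
    by_contra hemp
    rw [not_nonempty_iff] at hemp
    have := hcount18 x hx
    rw [Nat.card_eq_zero.mpr (Or.inl hemp)] at this
    norm_num at this
  obtain ⟨⟨g, hg, hgx⟩⟩ := hne
  have hg2 : g * g = 1 := by
    have := pow_orderOf_eq_one g
    rwa [hg, pow_two] at this
  have hginv : g⁻¹ = g := inv_eq_of_mul_eq_one_left hg2
  -- the canonical involution
  have hxinv : orderOf x⁻¹ = 3 := by rw [orderOf_inv, hx]
  have hgxinv : orderOf (g * x⁻¹) = 3 := by
    have h1 : g * x⁻¹ = (x * g)⁻¹ := by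
      rw [mul_inv_rev, hginv]
    rw [h1, orderOf_inv, orderOf_mul_swap, hgx]
  obtain ⟨h, hhg', hhx⟩ := htrans g x g x⁻¹ hg hx hgx hg hxinv hgxinv
  have hhg : h * g = g * h := by
    calc h * g = (h * g * h⁻¹) * h := by group
      _ = g * h := by rw [hhg']
  have hhxinv : h * x⁻¹ * h⁻¹ = x := by
    calc h * x⁻¹ * h⁻¹ = (h * x * h⁻¹)⁻¹ := by group
      _ = x := by rw [hhx, inv_inv]
  have hh2 : h * h = 1 := by
    apply hfree g x (h * h) hg hx hgx
    · calc h * h * g = h * (h * g) := by group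
        _ = h * (g * h) := by rw [hhg]
        _ = (h * g) * h := by group
        _ = g * (h * h) := by rw [hhg]; group
    · calc h * h * x = h * (h * x * h⁻¹) * h⁻¹ * (h * h) := by group
        _ = x * (h * h) := by rw [hhx, hhxinv]
  have hh1 : h ≠ 1 := by
    intro h1
    rw [h1] at hhx
    simp only [one_mul, inv_one, mul_one] at hhx
    have hxx : x * x = 1 := by
      nth_rewrite 2 [hhx]
      exact mul_inv_cancel x
    have h3 : orderOf x ∣ 2 := orderOf_dvd_of_pow_eq_one (by rw [pow_two]; exact hxx)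
    rw [hx] at h3
    norm_num at h3
  have hh : orderOf h = 2 := orderOf_eq_prime (by rw [pow_two]; exact hh2) hh1
  -- h inverts P
  have hinv : ∀ p ∈ (P : Subgroup G), h * p * h⁻¹ = p⁻¹ :=
    Cfsg.Agent.H80.M11.canonical_inverts hTI htrans hcount18 hnon hfib P g x h hg hx hxP hgx hh hhg hhx
  have hP9 := sylow3_card hG P
  obtain ⟨hexp, -⟩ := sylow3_invol hG P
  have hrel : (g * x) ^ 3 = 1 := by
    have := pow_orderOf_eq_one (g * x)
    rwa [hgx] at this
  -- g does not normalize P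
  have hgP : g ∉ normalizer ((P : Subgroup G) : Set G) := by
    intro hgN
    have hgxg : g * x * g⁻¹ ∈ (P : Subgroup G) := (mem_normalizer_iff.mp hgN x).mp hxP
    have hp : g * x * g⁻¹ * x * (g * x * g⁻¹) ∈ (P : Subgroup G) :=
      (P : Subgroup G).mul_mem ((P : Subgroup G).mul_mem hgxg hxP) hgxg
    have hgp : g = (g * x * g⁻¹ * x * (g * x * g⁻¹))⁻¹ := by
      have h1 : (g * x * g⁻¹ * x * (g * x * g⁻¹)) * g = 1 := by
        calc (g * x * g⁻¹ * x * (g * x * g⁻¹)) * g = g * x * g⁻¹ * x * g * x := by group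
          _ = g * x * g * x * g * x := by rw [hginv]
          _ = (g * x) ^ 3 := by rw [pow_succ, pow_two]; group
          _ = 1 := hrel
      exact eq_inv_of_mul_eq_one_right h1
    have hgmem : g ∈ (P : Subgroup G) := by
      rw [hgp]
      exact (P : Subgroup G).inv_mem hp
    have hdvd : orderOf g ∣ 9 := by
      rw [← hP9]
      have := orderOf_dvd_natCard (⟨g, hgmem⟩ : ↥(P : Subgroup G))
      rwa [Subgroup.orderOf_mk] at this
    rw [hg] at hdvd
    norm_num at hdvd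
  obtain ⟨Q, hQ8, hQP, hgQ, hreg⟩ := Cfsg.Agent.H4.M11.exists_regular_Q hG h48 h18 P hP9 hexp (hN P) (hC P) h g hh
    hinv hg hhg.symm hgP
  have hTI' : ∀ p ∈ (P : Subgroup G), p ≠ 1 → g * p * g⁻¹ ∉ (P : Subgroup G) := by
    intro p hp hp1 hgp
    have hp3 : orderOf p = 3 := orderOf_eq_prime (hexp p hp) hp1
    have hmem : p ∈ ((g⁻¹ • P : Sylow 3 G) : Subgroup G) := by
      rw [Sylow.coe_subgroup_smul, Subgroup.mem_pointwise_smul_iff_inv_smul_mem]
      simpa [MulAut.smul_def] using hgp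
    have heq : P = g⁻¹ • P := hTI P (g⁻¹ • P) p hp3 hp hmem
    have hmemN : g⁻¹ ∈ normalizer ((P : Subgroup G) : Set G) :=
      Sylow.smul_eq_iff_mem_normalizer.mp heq.symm
    exact hgP (by simpa using (normalizer ((P : Subgroup G) : Set G)).inv_mem hmemN)
  exact Cfsg.Agent.H4.M11.exists_card_720 (P : Subgroup G) Q g x hP9 hQ8 hQP hreg hg2 hgQ hTI' hxP hx1 hrel



theorem sharply4_eq_aut (H : Subgroup (Equiv.Perm (Fin 11)))
    [MulAction.IsMultiplyPretransitive H (Fin 11) 4]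
    (hsharp : ∀ x : Fin 4 ↪ Fin 11, MulAction.stabilizer H x = ⊥) :
    ∃ B : Set (Finset (Fin 11)), Cfsg.IsSteinerSystem 4 5 B ∧ H = Cfsg.setSystemAut B := by
  obtain ⟨B, hB, hle⟩ := Cfsg.Agent.H61.M11.sharply4_steiner H hsharp
  refine ⟨B, hB, ?_⟩
  have h1 : Nat.card H = 7920 := (Cfsg.Agent.S0418.result (by simp) H hsharp).2
  have h2 : Nat.card (Cfsg.setSystemAut B) = 7920 :=
    (Cfsg.Agent.S0426.result (by simp) hB).1.2
  exact Subgroup.eq_of_le_of_card_ge hle (by rw [h1, h2])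

/-- Any two simple groups of order 7920 are isomorphic. -/
theorem unique_m11 {G : Type*} {G' : Type*} [Group G] [Finite G] [IsSimpleGroup G]
    [Group G'] [Finite G'] [IsSimpleGroup G']
    (hG : Nat.card G = 7920) (hG' : Nat.card G' = 7920) : Nonempty (G ≃* G') := by
  obtain ⟨M, hM⟩ := exists_subgroup_card_720 hG
  obtain ⟨H, ⟨e⟩, h4, hsharp⟩ := Cfsg.Agent.H70.M11.exists_sharply4_of_card_720 hG M hM
  obtain ⟨M', hM'⟩ := exists_subgroup_card_720 hG'
  obtain ⟨H', ⟨e'⟩, h4', hsharp'⟩ := Cfsg.Agent.H70.M11.exists_sharply4_of_card_720 hG' M' hM'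
  haveI := h4
  haveI := h4'
  obtain ⟨B, hB, hHB⟩ := sharply4_eq_aut H hsharp
  obtain ⟨B', hB', hHB'⟩ := sharply4_eq_aut H' hsharp'
  have hiso := Cfsg.Agent.S0411.result (by simp) (by simp) hB hB'
  obtain ⟨φ⟩ := Cfsg.Agent.H69.M11.aut_iso_of_iso B B' hiso
  subst hHB hHB'
  exact ⟨e.trans (φ.trans e'.symm)⟩


end Cfsg.Agent.H93.M11U
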