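import Mathlib
import Cfsg.Prelude.Def_Spor_Mathieu
import Cfsg.Prelude.Def_Sporadic
import Cfsg.Agent.S0420
import Cfsg.Agent.S0388
import Cfsg.Agent.H9.M11b
import Cfsg.Agent.H5.Ord7920G11

set_option autoImplicit false
set_option linter.style.haveILetI false

namespace Cfsg.Agent.H93.M11Spor

open Subgroup
open scoped Pointwise

/-- the comparison isomorphism between the two concrete models of `M11` -/
theorem stab_iso_sporM11 :
    Nonempty (↥(MulAction.stabilizer Cfsg.M24 Cfsg.Spor.squareDodecad ⊓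
      MulAction.stabilizer Cfsg.M24 (some 0 : Cfsg.GolayPt)) ≃* ↥Cfsg.Spor.M11) := by
  have h := (MulAction.stabilizer Cfsg.M24 Cfsg.Spor.squareDodecad ⊓
    MulAction.stabilizer Cfsg.M24 (some 0 : Cfsg.GolayPt)).equivMapOfInjective
      Cfsg.M24.subtype Cfsg.M24.subtype_injective
  rw [Cfsg.Agent.H9.sporM11_eq_map] at h
  exact ⟨h⟩

/-- a simple group of order 7920 is isomorphic to `Cfsg.Spor.M11` -/
theorem iso_sporM11 {G : Type*} [Group G] [Finite G] (hG : Cfsg.IsM11 G) :
    Nonempty (G ≃* ↥Cfsg.Spor.M11) := by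
  obtain ⟨e⟩ := Cfsg.Agent.S0420.result hG Cfsg.Spor.squareDodecad
    Cfsg.Agent.H9.squareDodecad_mem (some 0) Cfsg.Agent.H9.some_zero_mem
  obtain ⟨e2⟩ := stab_iso_sporM11
  exact ⟨e.trans e2⟩

theorem sporM11_simple : IsSimpleGroup ↥Cfsg.Spor.M11 := by
  haveI := Cfsg.Agent.S0388.result Cfsg.Spor.squareDodecad
    Cfsg.Agent.H9.squareDodecad_mem (some 0) Cfsg.Agent.H9.some_zero_mem
  obtain ⟨e2⟩ := stab_iso_sporM11
  exact e2.symm.isSimpleGroup

theorem sporM11_isM11 : Cfsg.IsM11 ↥Cfsg.Spor.M11 :=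
  ⟨sporM11_simple, Cfsg.Agent.H9.card_sporM11⟩

/-- in a simple group of order 7920 some non-identity element has centralizer of order 11 -/
theorem exists_centralizer_eleven {G : Type*} [Group G] [Finite G] [IsSimpleGroup G]
    (hG : Nat.card G = 7920) :
    ∃ x : G, x ≠ 1 ∧ Nat.card (centralizer ({x} : Set G)) = 11 := by
  classical
  haveI : Fact (Nat.Prime 11) := ⟨by norm_num⟩
  obtain ⟨x, hx⟩ := exists_prime_orderOf_dvd_card' (G := G) 11 (by rw [hG]; norm_num)
  have hpg : IsPGroup 11 (zpowers x) := by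
    apply IsPGroup.of_card (n := 1)
    rw [Nat.card_zpowers, hx, pow_one]
  obtain ⟨Q, hQ⟩ := hpg.exists_le_sylow
  obtain ⟨-, -, hC⟩ := Cfsg.Agent.H5.Ord7920.sylow11_simple hG Q
  have hQ11 : Nat.card (Q : Subgroup G) = 11 := by
    have h := Q.card_eq_multiplicity
    have hfac : (7920 : ℕ).factorization 11 = 1 := by
      have h' : (7920 : ℕ) = 11 ^ 1 * 720 := by norm_num
      rw [h', Nat.factorization_mul (by norm_num) (by norm_num),
        Nat.Prime.factorization_pow (by norm_num)]
      have h2 : (720 : ℕ).factorization 11 = 0 :=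
        Nat.factorization_eq_zero_of_not_dvd (by norm_num)
      simp [h2]
    rw [hG, hfac] at h
    simpa using h
  have hQeq : zpowers x = (Q : Subgroup G) := by
    apply Subgroup.eq_of_le_of_card_ge hQ
    rw [hQ11, Nat.card_zpowers, hx]
  refine ⟨x, ?_, ?_⟩
  · intro h
    rw [h, orderOf_one] at hx
    norm_num at hx
  · have hceq : centralizer ({x} : Set G) = centralizer ((Q : Subgroup G) : Set G) := by
      rw [← hQeq]
      ext y
      rw [mem_centralizer_iff, mem_centralizer_iff]
      constructor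
      · intro h z hz
        rw [SetLike.mem_coe, mem_zpowers_iff] at hz
        obtain ⟨k, rfl⟩ := hz
        have hc : Commute x y := h x (Set.mem_singleton x)
        exact (hc.zpow_left k).eq
      · intro h z hz
        rw [Set.mem_singleton_iff] at hz
        subst hz
        exact h z (mem_zpowers z)
    rw [hceq, hC]

end Cfsg.Agent.H93.M11Spor
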