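import Mathlib
import Cfsg.Prelude.Def_Spor_Mathieu
import Cfsg.Prelude.Def_Sporadic
import Cfsg.Agent.S2490
import Cfsg.Agent.H93.M11Spor
import Cfsg.Agent.H53.CgM11

set_option autoImplicit false
set_option linter.style.haveILetI false

namespace Cfsg.Agent.H93.CommGraphM11

open Subgroup

/-- S3413: a finite group with the commuting graph of `M11` is isomorphic to `M11`. -/
theorem main {H : Type*} [Group H] [Finite H]
    (f : {h : H // h ≠ 1} ≃ {g : ↥Cfsg.Spor.M11 // g ≠ 1})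
    (hf : ∀ x y : {h : H // h ≠ 1}, (x : H) * y = y * x ↔
      ((f x) : ↥Cfsg.Spor.M11) * (f y) = (f y) * (f x)) :
    Nonempty (H ≃* ↥Cfsg.Spor.M11) := by
  classical
  have hH : Nat.card H = 7920 := by
    rw [Cfsg.Agent.H53.CgM11.card_eq_of_equiv_ne_one f, Cfsg.Agent.H9.card_sporM11]
  haveI := Cfsg.Agent.H93.M11Spor.sporM11_simple
  haveI : Finite ↥Cfsg.Spor.M11 :=
    Nat.finite_of_card_ne_zero (by rw [Cfsg.Agent.H9.card_sporM11]; norm_num)
  obtain ⟨x, hx1, hx⟩ := Cfsg.Agent.H93.M11Spor.exists_centralizer_eleven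
    (G := ↥Cfsg.Spor.M11) Cfsg.Agent.H9.card_sporM11
  have hcard := Cfsg.Agent.H53.CgM11.card_centralizer_of_commuting_equiv f hf (f.symm ⟨x, hx1⟩)
  rw [Equiv.apply_symm_apply] at hcard
  rw [hx] at hcard
  have hsimple : IsSimpleGroup H := by
    apply Cfsg.Agent.S2490.result hH
    refine ⟨{11}, ⟨11, rfl, by norm_num, by rw [hH]; norm_num⟩,
      ⟨2, by simp, by norm_num, by rw [hH]; norm_num⟩, ?_⟩
    intro a ha b hb _ hbp _ _
    rw [Set.mem_singleton_iff] at ha hb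
    subst ha
    exact Cfsg.Agent.H53.CgM11.no_order_eleven_mul_of_centralizer hH (f.symm ⟨x, hx1⟩).1
      (f.symm ⟨x, hx1⟩).2 hcard b hbp hb
  exact Cfsg.Agent.H93.M11Spor.iso_sporM11 ⟨hsimple, hH⟩

end Cfsg.Agent.H93.CommGraphM11
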