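import Mathlib
import Cfsg.Agent.H9.Golay2
import Cfsg.Agent.H33.Orbit

/-!
Rigidity of the length-24 code: an additive map on the code words (as sets of points) that fixes
the full set and preserves the size of every code word up to complement agrees, up to complement,
with a coordinate permutation of the automorphism group of the code.

The proof follows a chain of eleven octads `w₁, …, w₁₁` spanning the code with the full set: at
each level the octads whose sums with the combinations of the earlier octads have the right sizes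
(up to complement) form one orbit of the stabiliser of the earlier octads.
-/

set_option autoImplicit false

namespace Cfsg.Agent.H93

open Cfsg Cfsg.Agent.H9 Cfsg.Agent.H33
open scoped Pointwise

local notation "SC" => supports (golayCode : Set (GolayPt → ZMod 2))

/-- A size up to complement in 24 points. -/
def ccV (c : ℕ) : ℕ := bif Nat.ble c 12 then c else Nat.sub 24 c

/-- The number of points of the set of a mask, up to complement. -/
def ccN (m : ℕ) : ℕ := ccV (pcT m)

/-- The size of a set of points, up to complement. -/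
def ccF (A : Finset GolayPt) : ℕ := ccV A.card

theorem ccV_compl : ∀ c < 25, ccV (24 - c) = ccV c := by decide

theorem ccV_eight : ∀ c < 25, ccV c = 8 → c = 8 ∨ c = 16 := by decide

theorem card_le_24 (A : Finset GolayPt) : A.card ≤ 24 := by
  have := Finset.card_le_univ A
  rwa [card_golayPt] at this

theorem ccF_fs (m : ℕ) : ccF (fs m) = ccN m := by
  unfold ccF ccN
  rw [card_fs']

theorem ccF_compl (A : Finset GolayPt) : ccF Aᶜ = ccF A := by
  unfold ccF
  rw [Finset.card_compl, card_golayPt]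
  exact ccV_compl _ (Nat.lt_succ_of_le (card_le_24 A))

theorem ccF_smul (σ : Equiv.Perm GolayPt) (A : Finset GolayPt) : ccF (σ • A) = ccF A := by
  unfold ccF
  rw [Finset.card_smul_finset]

/-- Equality of sets of points up to complement. -/
def Eqc (A B : Finset GolayPt) : Prop := A = B ∨ A = Bᶜ

theorem ccF_eqc {A B : Finset GolayPt} (h : Eqc A B) : ccF A = ccF B := by
  rcases h with rfl | rfl
  · rfl
  · exact ccF_compl _

theorem symmDiff_compl_left' (A B : Finset GolayPt) : symmDiff Aᶜ B = (symmDiff A B)ᶜ := by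
  ext p
  simp only [Finset.mem_symmDiff, Finset.mem_compl]
  tauto

theorem symmDiff_compl_right' (A B : Finset GolayPt) : symmDiff A Bᶜ = (symmDiff A B)ᶜ := by
  ext p
  simp only [Finset.mem_symmDiff, Finset.mem_compl]
  tauto

theorem eqc_symmDiff {A B A' B' : Finset GolayPt} (h1 : Eqc A A') (h2 : Eqc B B') :
    Eqc (symmDiff A B) (symmDiff A' B') := by
  rcases h1 with rfl | rfl <;> rcases h2 with rfl | rfl
  · exact Or.inl rfl
  · exact Or.inr (symmDiff_compl_right' _ _)
  · exact Or.inr (symmDiff_compl_left' _ _)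
  · left
    rw [symmDiff_compl_left', symmDiff_compl_right', compl_compl]

theorem smul_compl' (σ : Equiv.Perm GolayPt) (A : Finset GolayPt) : σ • Aᶜ = (σ • A)ᶜ := by
  ext p
  rw [← Finset.inv_smul_mem_iff, Finset.mem_compl, Finset.mem_compl, ← Finset.inv_smul_mem_iff]

theorem fs_compl (m : ℕ) : fs (m ^^^ 0xffffff) = (fs m)ᶜ := by
  rw [fs_xor]
  have h : fs 0xffffff = Finset.univ := fs_full
  rw [h]
  ext p
  simp [Finset.mem_symmDiff]

theorem isGolay_xor {a b : ℕ} (ha : isGolay a = true) (hb : isGolay b = true) :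
    isGolay (a ^^^ b) = true := by
  obtain ⟨j, hj, rfl⟩ := isGolay_iff.mp ha
  obtain ⟨k, hk, rfl⟩ := isGolay_iff.mp hb
  rw [← cw_xor]
  exact isGolay_iff.mpr ⟨j ^^^ k, Nat.xor_lt_two_pow (n := 12) hj hk, rfl⟩

theorem isGolay_zero : isGolay 0 = true := isGolay_iff.mpr ⟨0, by decide, cw_zero.symm⟩

theorem isGolay_full : isGolay 0xffffff = true := by decide +kernel

theorem isGolay_lt {m : ℕ} (h : isGolay m = true) : m < 2 ^ 24 := by
  obtain ⟨k, -, rfl⟩ := isGolay_iff.mp h
  exact cw_lt k

/-- The kernel test of a level: the mask has 8 points and its sums with the test masks have the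
prescribed sizes up to complement. -/
def predT (tl : List (ℕ × ℕ)) (m : ℕ) : Bool :=
  Nat.beq (pcT m) 8 && tl.all (fun p => Nat.beq (ccN (Nat.xor m p.1)) p.2)

section Rigid

variable (Fm : ℕ → Finset GolayPt)

/-- The map `Fm` agrees at the code word `m` with the permutation `σ`, up to complement. -/
def GoodAt (σ : Equiv.Perm GolayPt) (m : ℕ) : Prop :=
  isGolay m = true ∧ Eqc (Fm m) (σ • fs m)

variable (hSC : ∀ m, isGolay m = true → Fm m ∈ SC)
  (hL : ∀ a b, isGolay a = true → isGolay b = true → Fm (a ^^^ b) = symmDiff (Fm a) (Fm b))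
  (hT : ∀ m, isGolay m = true → ccF (Fm m) = ccF (fs m))

include hL in
theorem good_xor (σ : Equiv.Perm GolayPt) {a b : ℕ} (ha : GoodAt Fm σ a) (hb : GoodAt Fm σ b) :
    GoodAt Fm σ (a ^^^ b) := by
  refine ⟨isGolay_xor ha.1 hb.1, ?_⟩
  rw [hL a b ha.1 hb.1, fs_xor, Finset.smul_finset_symmDiff]
  exact eqc_symmDiff ha.2 hb.2

include hL in
theorem good_zero (σ : Equiv.Perm GolayPt) : GoodAt Fm σ 0 := by
  refine ⟨isGolay_zero, Or.inl ?_⟩
  have h := hL 0 0 isGolay_zero isGolay_zero
  rw [Nat.xor_self, symmDiff_self] at h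
  rw [h, fs_zero]
  simp

include hL in
theorem good_comb (σ : Equiv.Perm GolayPt) (l : List ℕ) (h : ∀ m ∈ l, GoodAt Fm σ m) (s : ℕ) :
    GoodAt Fm σ (comb l s) := by
  induction l generalizing s with
  | nil => exact good_zero Fm hL σ
  | cons b bs ih =>
    simp only [comb]
    apply good_xor Fm hL
    · rcases Nat.mod_two_eq_zero_or_one s with hs | hs
      · rw [hs, zero_mul]; exact good_zero Fm hL σ
      · rw [hs, one_mul]; exact h b (List.mem_cons_self ..)
    · exact ih (fun c hc => h c (List.mem_cons_of_mem _ hc)) _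

include hSC hL hT in
/-- One level of the chain. -/
theorem level_step (σ : Equiv.Perm GolayPt) (hσ : σ ∈ M24) (fixed : List ℕ)
    (hfix : ∀ m ∈ fixed, GoodAt Fm σ m) (w : ℕ) (hw : isGolay w = true) (hw8 : pcT w = 8)
    (sel : List ℕ) (tl : List (ℕ × ℕ))
    (htl : tl = sel.map (fun s => (comb fixed s, ccN (Nat.xor w (comb fixed s)))))
    (hclass : ∀ k < 4096, predT tl (cw k) = true → ∃ g ∈ stabOf fixed, g • fs w = fs (cw k)) :
    ∃ σ' ∈ M24, ∀ m ∈ w :: fixed, GoodAt Fm σ' m := by
  have hU : Fm w ∈ SC := hSC w hw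
  have hU' : σ⁻¹ • Fm w ∈ SC := smul_mem_supports (M24.inv_mem hσ) hU
  obtain ⟨k, hk, hkU⟩ := (mem_supports_iff _).mp hU'
  have hkU' : σ • fs (cw k) = Fm w := by rw [← hkU, smul_inv_smul]
  have hmG : isGolay (cw k) = true := isGolay_iff.mpr ⟨k, hk, rfl⟩
  -- the tests hold for `cw k`
  have htest : ∀ s, ccN (cw k ^^^ comb fixed s) = ccN (w ^^^ comb fixed s) := by
    intro s
    have hg := good_comb Fm hL σ fixed hfix s
    have h1 : ccF (fs (cw k ^^^ comb fixed s)) = ccF (symmDiff (Fm w) (σ • fs (comb fixed s))) := by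
      rw [fs_xor, ← ccF_smul σ, Finset.smul_finset_symmDiff, hkU']
    have h2 : ccF (symmDiff (Fm w) (σ • fs (comb fixed s)))
        = ccF (symmDiff (Fm w) (Fm (comb fixed s))) :=
      (ccF_eqc (eqc_symmDiff (Or.inl rfl) hg.2)).symm
    rw [← ccF_fs, ← ccF_fs, h1, h2, ← hL w _ hw hg.1, hT _ (isGolay_xor hw hg.1)]
  have hcard : ccV (pcT (cw k)) = 8 := by
    have h1 : ccF (fs (cw k)) = ccF (Fm w) := by rw [← hkU', ccF_smul]
    have h2 : ccF (Fm w) = ccN w := by rw [hT w hw, ccF_fs]
    have h3 : ccN w = 8 := by unfold ccN; rw [hw8]; rfl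
    rw [ccF_fs] at h1
    unfold ccN at h1
    rw [h1, h2, h3]
  have hlt : pcT (cw k) < 25 := by
    rw [← card_fs']
    exact Nat.lt_succ_of_le (card_le_24 _)
  -- the test of the level for a mask of 8 points
  have hpred : ∀ m, pcT m = 8 → (∀ s, ccN (m ^^^ comb fixed s) = ccN (w ^^^ comb fixed s)) →
      predT tl m = true := by
    intro m hm8 hm
    unfold predT
    rw [Bool.and_eq_true]
    refine ⟨by rw [hm8]; rfl, ?_⟩
    rw [List.all_eq_true]
    intro p hp
    rw [htl, List.mem_map] at hp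
    obtain ⟨s, -, rfl⟩ := hp
    have e : ccN (Nat.xor m (comb fixed s)) = ccN (Nat.xor w (comb fixed s)) := hm s
    show Nat.beq (ccN (Nat.xor m (comb fixed s))) (ccN (Nat.xor w (comb fixed s))) = true
    rw [e]
    exact Nat.beq_refl _
  rcases ccV_eight _ hlt hcard with h8 | h16
  · obtain ⟨g, hg, hgw⟩ := hclass k hk (hpred _ h8 htest)
    refine ⟨σ * g, M24.mul_mem hσ hg.1, ?_⟩
    intro m hm
    rcases List.mem_cons.mp hm with rfl | hm
    · refine ⟨hw, Or.inl ?_⟩
      rw [mul_smul, hgw, hkU']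
    · refine ⟨(hfix m hm).1, ?_⟩
      rw [mul_smul, hg.2 m hm]
      exact (hfix m hm).2
  · -- pass to the complement
    have hfull : cw 4095 = 0xffffff := by
      rw [← cwN_eq]; decide +kernel
    have hk2 : k ^^^ 4095 < 4096 := Nat.xor_lt_two_pow (n := 12) hk (by norm_num)
    have hm2 : cw (k ^^^ 4095) = cw k ^^^ 0xffffff := by rw [cw_xor, hfull]
    have h8 : pcT (cw (k ^^^ 4095)) = 8 := by
      rw [hm2, ← card_fs', fs_compl, Finset.card_compl, card_golayPt, card_fs', h16]
    have htest2 : ∀ s, ccN (cw (k ^^^ 4095) ^^^ comb fixed s) = ccN (w ^^^ comb fixed s) := by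
      intro s
      rw [← htest s, hm2, ← ccF_fs, ← ccF_fs]
      have e : cw k ^^^ 0xffffff ^^^ comb fixed s = (cw k ^^^ comb fixed s) ^^^ 0xffffff := by
        rw [Nat.xor_assoc, Nat.xor_comm 0xffffff, ← Nat.xor_assoc]
      rw [e, fs_compl, ccF_compl]
    obtain ⟨g, hg, hgw⟩ := hclass _ hk2 (hpred _ h8 htest2)
    refine ⟨σ * g, M24.mul_mem hσ hg.1, ?_⟩
    intro m hm
    rcases List.mem_cons.mp hm with rfl | hm
    · refine ⟨hw, Or.inr ?_⟩
      rw [mul_smul, hgw, hm2, fs_compl, smul_compl', hkU', compl_compl]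
    · refine ⟨(hfix m hm).1, ?_⟩
      rw [mul_smul, hg.2 m hm]
      exact (hfix m hm).2

end Rigid

end Cfsg.Agent.H93
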