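import Cfsg.Agent.H93.M23Pos

/-! Generated data (helper93) for S5529: for each admissible triple of primes `(p, q, r)` a pair of
packed permutations of `M₂₃` of orders `p`, `q` with product of order `r`, their packed inverses,
and three words evaluating to the generators `x ↦ x + 1`, `x ↦ 2 x` and the cube twist. -/

set_option autoImplicit false

namespace Cfsg.Agent.H93

open Cfsg Cfsg.Agent.H9 Cfsg.Agent.H33 Cfsg.Agent.H94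

theorem c_2_5_11 : caseOK 2 5 11 0xb82a29c2321b8cc59d09534857d036 0xb82a29c2321b8cc59d09534857d036
    0xbd806654f07866ea2d1120c49549a5 0xbda4b689107b03350c898d007315d5
    [3, 0, 3, 0, 2, 2, 0, 2, 0, 2, 0, 2, 0, 2, 2, 0, 2, 1, 2, 1, 2, 1, 3, 3, 1, 2, 1, 2]
    [3, 0, 2, 2, 0, 3, 3, 0, 3, 3, 0, 3, 3, 0, 2, 2, 0, 2, 1, 3, 1, 2, 1, 2, 2, 1, 2, 1, 2]
    [3, 3, 0, 2, 2, 0, 3, 3, 0, 2, 0, 3, 3, 0, 2, 0, 2, 1, 2, 2, 1, 2, 2] = true := by decide +kernel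

theorem gen_2_5_11 : Gen23 2 5 11 :=
  m23_gen_of_caseOK (by norm_num) (by norm_num) (by norm_num) c_2_5_11

theorem c_2_5_23 : caseOK 2 5 23 0xbce95b1630639af2292010e4b31c28 0xbce95b1630639af2292010e4b31c28
    0xb8cb09a92e6acec40834ac5e695880 0xb88e898cd42c1ec74a2b692a1b2920
    [3, 0, 2, 0, 3, 0, 3, 0, 2, 0, 2, 2, 0, 3, 3, 0, 3, 3, 1, 3, 1, 2, 2, 1, 2, 1, 2, 1, 3]
    [2, 0, 3, 0, 3, 0, 2, 0, 3, 0, 3, 3, 0, 2, 0, 3, 3, 0, 3, 1, 3, 3, 1, 3, 3, 1, 2, 2, 1]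
    [2, 2, 0, 2, 0, 2, 2, 0, 2, 2, 0, 2, 0, 2, 2, 0, 3, 0, 3, 1, 2, 2, 1, 2, 1, 3, 3, 1] = true := by decide +kernel

theorem gen_2_5_23 : Gen23 2 5 23 :=
  m23_gen_of_caseOK (by norm_num) (by norm_num) (by norm_num) c_2_5_23

theorem c_2_7_7 : caseOK 2 7 7 0xbcab47d8449b96869d2c518101c425 0xbcab47d8449b96869d2c518101c425
    0xbb60e4c844b4c2b029066168778e35 0xbbc05748351d2c762a69220d0145ab
    [0, 2, 2, 2, 0, 2, 0, 2, 2, 0, 3, 3, 0, 3, 3, 0, 3, 3, 1]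
    [0, 2, 0, 3, 3, 0, 3, 3, 3, 0, 2, 0, 2, 2, 0, 3, 1, 2, 2, 1, 3]
    [0, 3, 3, 0, 2, 2, 2, 0, 3, 3, 3, 0, 3, 3, 3, 0, 2, 1, 3, 3, 1, 3, 3, 3] = true := by decide +kernel

theorem gen_2_7_7 : Gen23 2 7 7 :=
  m23_gen_of_caseOK (by norm_num) (by norm_num) (by norm_num) c_2_7_7

theorem c_2_7_11 : caseOK 2 7 11 0xbda549d42373d606a12a298e480a2c 0xbda549d42373d606a12a298e480a2c
    0xbd562548d32da0fa06284b0ed2006e 0xbbacb8492d60086acce82c5e30d142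
    [3, 3, 0, 2, 2, 2, 0, 3, 0, 3, 0, 3, 3, 0, 3, 0, 2, 1]
    [0, 3, 3, 0, 3, 0, 3, 0, 3, 0, 2, 2, 0, 3, 0, 3, 3, 1, 3]
    [0, 3, 0, 2, 0, 2, 0, 3, 3, 0, 2, 0, 3, 0, 3, 0, 2, 1, 2, 1, 2, 1, 3] = true := by decide +kernel

theorem gen_2_7_11 : Gen23 2 7 11 :=
  m23_gen_of_caseOK (by norm_num) (by norm_num) (by norm_num) c_2_7_11

theorem c_2_7_23 : caseOK 2 7 23 0xbd9c29bc23955ac59c855190985220 0xbd9c29bc23955ac59c855190985220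
    0xba823131f135ab32c1a83b81491169 0xbb9a460e0a899320d8083bd62a4ea5
    [3, 3, 3, 0, 3, 0, 2, 2, 0, 2, 0, 3, 3, 3, 0, 3, 1, 2, 2, 1]
    [0, 2, 0, 2, 2, 0, 3, 0, 2, 0, 2, 0, 2, 0, 3, 0, 3, 3, 1, 2, 1, 3, 3]
    [3, 3, 0, 3, 3, 0, 3, 3, 3, 0, 2, 2, 2, 0, 3, 0, 3, 1, 3, 3, 1, 3, 1, 2] = true := by decide +kernel

theorem gen_2_7_23 : Gen23 2 7 23 :=
  m23_gen_of_caseOK (by norm_num) (by norm_num) (by norm_num) c_2_7_23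

theorem c_2_11_11 : caseOK 2 11 11 0xb92b47c0529a5ac581c8284f61c4ca 0xb92b47c0529a5ac581c8284f61c4ca
    0xbda6c89e8168943aa4062b972241e8 0xbd971a9262099f42b540920e363a09
    [3, 0, 3, 3, 3, 0, 3, 3, 3, 0, 2, 2, 0, 2, 2, 2, 2, 1, 2, 2, 2, 2, 1]
    [3, 3, 3, 0, 3, 0, 2, 2, 2, 2, 0, 2, 0, 3, 0, 3, 1, 2, 2, 1, 2, 1]
    [0, 2, 2, 0, 3, 3, 0, 2, 2, 2, 2, 0, 3, 0, 3, 3, 1, 3, 3, 1, 2, 2] = true := by decide +kernel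

theorem gen_2_11_11 : Gen23 2 11 11 :=
  m23_gen_of_caseOK (by norm_num) (by norm_num) (by norm_num) c_2_11_11

theorem c_2_11_23 : caseOK 2 11 23 0xbdab49a16f831ae8a8920086929827 0xbdab49a16f831ae8a8920086929827
    0xb960e0c9ea590f34d84c445a3302b4 0xba820648d58d0a87c16768ece22662
    [2, 2, 2, 0, 3, 3, 3, 0, 2, 2, 0, 2, 0, 3, 3, 3, 3, 3, 1, 3, 3, 1, 3]
    [0, 3, 3, 3, 3, 0, 2, 0, 2, 0, 3, 3, 0, 3, 3, 3, 1, 3, 1, 2, 1]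
    [2, 2, 0, 2, 0, 3, 3, 0, 2, 2, 2, 0, 3, 0, 3, 1, 2, 2, 2, 1, 2, 1, 3, 3, 1] = true := by decide +kernel

theorem gen_2_11_23 : Gen23 2 11 23 :=
  m23_gen_of_caseOK (by norm_num) (by norm_num) (by norm_num) c_2_11_23

theorem c_2_23_23 : caseOK 2 23 23 0xbdaa99ca117b96069e85519020906c 0xbdaa99ca117b96069e85519020906c
    0xbad8d71aa024a03395ea45033b2451 0xb8e262380d4ce95b20475c94f604b0
    [0, 3, 3, 3, 0, 3, 3, 0, 2, 0, 2, 0, 3, 3, 0, 2, 1, 2]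
    [0, 2, 0, 2, 0, 3, 3, 0, 3, 0, 3, 0, 2, 0, 3, 3, 3, 1, 2, 2, 2, 1, 3]
    [2, 0, 2, 2, 0, 3, 3, 0, 3, 0, 2, 0, 2, 0, 2, 2, 2, 1, 2, 2] = true := by decide +kernel

theorem gen_2_23_23 : Gen23 2 23 23 :=
  m23_gen_of_caseOK (by norm_num) (by norm_num) (by norm_num) c_2_23_23

theorem c_3_3_11 : caseOK 3 3 11 0xbc687448c25cdac0aa0ead864025e5 0xb98f574ac90a1ac7a853a44042c163
    0xb9d74b39507a0a2492b29b031199a0 0xbcd343a0907c826ac56eb09aa1b0a0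
    [0, 3, 1, 3, 0, 2, 1, 3, 1, 3, 1, 2, 1, 2, 1, 2, 1, 2, 1, 3, 0, 2, 0]
    [2, 1, 2, 0, 2, 0, 2, 1, 3, 0, 3, 1, 2, 0, 2, 0, 2, 1, 2, 0, 3, 1, 3]
    [2, 0, 2, 1, 3, 1, 2, 1, 3, 1, 2, 0, 3, 1, 3, 0, 2, 1, 3, 1, 3] = true := by decide +kernel

theorem gen_3_3_11 : Gen23 3 3 11 :=
  m23_gen_of_caseOK (by norm_num) (by norm_num) (by norm_num) c_3_3_11

theorem c_3_3_23 : caseOK 3 3 23 0xbb5740c8901b8c74c6a82d98a04c4f 0xb99341495003ac5a9168634f178663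
    0xbbc6820a050c9b5a4d2b39a2a63ac0 0xb858b538b1b09a34113439a13ac9e0
    [1, 3, 1, 3, 0, 2, 0, 3, 0, 3, 0, 2, 1, 2, 0, 3, 1, 3, 1]
    [2, 1, 3, 0, 2, 1, 2, 1, 2, 1, 3, 1, 3, 1, 2, 1, 3, 0, 2, 0, 3]
    [3, 1, 3, 1, 3, 1, 3, 1, 2, 0, 2, 1, 2, 0, 2, 0, 3, 1, 2, 0, 2, 0] = true := by decide +kernel

theorem gen_3_3_23 : Gen23 3 3 23 :=
  m23_gen_of_caseOK (by norm_num) (by norm_num) (by norm_num) c_3_3_23

theorem c_3_5_5 : caseOK 3 5 5 0xbd8d5722218366c1c80a3d12b209e5 0xbda866aa2f0cdcc220b23d40358a09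
    0xb89cc514704cec779a289568d58024 0xbb4c571d305d4941cde862a408d822
    [2, 1, 2, 0, 2, 1, 2, 2, 1, 3, 1, 2, 1, 3, 0, 2, 1, 2, 0]
    [0, 3, 0, 2, 1, 3, 1, 3, 0, 3, 3, 1, 2, 0, 2, 2, 1, 3]
    [3, 3, 0, 3, 3, 0, 3, 3, 0, 3, 3, 0, 2, 1, 3, 0] = true := by decide +kernel

theorem gen_3_5_5 : Gen23 3 5 5 :=
  m23_gen_of_caseOK (by norm_num) (by norm_num) (by norm_num) c_3_5_5

theorem c_3_5_7 : caseOK 3 5 7 0xbd9c02c48c4ada3aa83339912851e2 0xbd962412430d5b0729e539a7160134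
    0xbd026ac9407ad301398821e762c46d 0xb92762c84c7a809745a8350670aeb0
    [0, 2, 1, 3, 0, 3, 3, 1, 3, 0, 3, 0, 2, 0, 2, 0, 2, 0]
    [1, 3, 3, 1, 3, 0, 2, 0, 2, 2, 0, 2, 1, 2, 0, 3, 3, 0, 2]
    [2, 2, 0, 2, 0, 2, 2, 0, 3, 1, 2, 1, 3, 0, 3, 1, 3, 0, 3] = true := by decide +kernel

theorem gen_3_5_7 : Gen23 3 5 7 :=
  m23_gen_of_caseOK (by norm_num) (by norm_num) (by norm_num) c_3_5_7

theorem c_3_5_11 : caseOK 3 5 11 0xbc50cb2a66ab9a04948f38e4b80834 0xbcde0896c3439b4249753c1493082c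
    0xb8ab2b388ca00332a4c86ad471c22f 0xbceaf65022048f031548225711d9ae
    [2, 2, 1, 2, 0, 3, 1, 2, 0, 2, 1, 2, 1, 2, 1]
    [2, 0, 2, 0, 3, 0, 3, 3, 0, 3, 0, 3, 1, 3, 1, 3, 0, 3]
    [3, 0, 2, 1, 2, 2, 0, 3, 3, 0, 3, 0, 2, 0, 3, 0] = true := by decide +kernel

theorem gen_3_5_11 : Gen23 3 5 11 :=
  m23_gen_of_caseOK (by norm_num) (by norm_num) (by norm_num) c_3_5_11

theorem c_3_5_23 : caseOK 3 5 23 0xb86544b1712b895834163bcca18913 0xba1940560b3395289261395ed18ac9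
    0xbac367193503dac28d51a40e444e42 0xbd2071050674dacb26232c964502af
    [2, 0, 2, 2, 1, 2, 1, 3, 1]
    [3, 3, 1, 2, 2, 1, 3, 0, 3, 3, 1, 3, 3, 1, 3, 3, 1, 2, 1]
    [0, 2, 0, 2, 0, 3, 3, 1, 2, 0, 2, 0, 3] = true := by decide +kernel

theorem gen_3_5_23 : Gen23 3 5 23 :=
  m23_gen_of_caseOK (by norm_num) (by norm_num) (by norm_num) c_3_5_23

theorem c_3_7_7 : caseOK 3 7 7 0xb81219c9b06510b7d8d12d487189ca 0xba8ce9c9105862f602ad224e518a96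
    0xbd14c4556f34ac71812d988ae84481 0xbb6563b843811148d53363ca15980a
    [1, 3, 3, 3, 1, 2, 1, 2, 2, 1, 3, 1, 3, 1, 2, 1]
    [2, 1, 2, 2, 2, 1, 2, 2, 1, 3, 0, 2, 0, 2, 2, 1]
    [3, 1, 2, 2, 0, 2, 0, 3, 3, 0, 2, 0, 3] = true := by decide +kernel

theorem gen_3_7_7 : Gen23 3 7 7 :=
  m23_gen_of_caseOK (by norm_num) (by norm_num) (by norm_num) c_3_7_7

theorem c_3_7_11 : caseOK 3 7 11 0xb86a43ac487c9ac746092d266b2860 0xb8ea62b9497adac90910990f40c6c0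
    0xb996f6ba20aaa531a12c21c41858b4 0xb89e063623a4a68ab92a3582759490
    [2, 0, 2, 1, 3, 1, 2, 1, 3, 3, 0, 3, 3]
    [1, 3, 3, 1, 2, 2, 2, 1, 3, 3, 0, 2, 0, 3, 1, 2, 1]
    [0, 3, 1, 2, 0, 2, 2, 1, 3, 1, 2, 2, 2, 0, 2, 2, 2] = true := by decide +kernel

theorem gen_3_7_11 : Gen23 3 7 11 :=
  m23_gen_of_caseOK (by norm_num) (by norm_num) (by norm_num) c_3_7_11

theorem c_3_7_23 : caseOK 3 7 23 0xbaea563a0f886c66a902a4ce41a640 0xbb6a7305f184973b28492b2841a1c0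
    0xbd46023e8c5b90a6a626396560cc50 0xb92d111520939707b14d3a0d3a8474
    [3, 0, 2, 2, 2, 1, 2, 2, 1, 2, 1, 3, 0, 2, 1, 2, 0]
    [3, 0, 2, 0, 3, 0, 3, 3, 3, 0, 2, 2, 2, 1, 2, 0]
    [2, 1, 3, 3, 1, 2, 0, 2, 0, 3, 0, 2, 1, 3, 3, 1, 3] = true := by decide +kernel

theorem gen_3_7_23 : Gen23 3 7 23 :=
  m23_gen_of_caseOK (by norm_num) (by norm_num) (by norm_num) c_3_7_23

theorem c_3_11_11 : caseOK 3 11 11 0xbb892ac6898080c2a9ed598f31d828 0xb8a712524f4d90c3aa00299751b82d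
    0xbbc348cc6690085158f583568629c9 0xba91493e67b04c3288044c18d8aeae
    [2, 0, 2, 1, 2, 2, 2, 2, 1, 3, 0, 2, 1, 2, 1, 2]
    [2, 1, 3, 1, 3, 0, 3, 3, 0, 2, 0, 2, 2, 1, 3, 1, 2, 1]
    [1, 3, 3, 3, 3, 1, 2, 1, 3, 1, 3, 1, 2, 1, 3, 3, 1] = true := by decide +kernel

theorem gen_3_11_11 : Gen23 3 11 11 :=
  m23_gen_of_caseOK (by norm_num) (by norm_num) (by norm_num) c_3_11_11

theorem c_3_11_23 : caseOK 3 11 23 0xbd614991d60a4ac3ae2853c03908cd 0xbc2d498d353440c51dc8585b2209e5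
    0xb86327d4e92aa68a008b71a02b0dac 0xb8e4b6d2a599c2043a0c899e9112ca
    [0, 2, 2, 0, 3, 1, 3, 0, 2, 2, 2, 2, 0, 3, 1, 3]
    [2, 1, 2, 1, 3, 3, 3, 0, 3, 0, 3, 1, 2, 1, 2, 1]
    [1, 3, 3, 1, 2, 2, 2, 1, 3, 0, 3, 1, 2, 1, 3, 3, 3, 0] = true := by decide +kernel

theorem gen_3_11_23 : Gen23 3 11 23 :=
  m23_gen_of_caseOK (by norm_num) (by norm_num) (by norm_num) c_3_11_23

theorem c_3_23_23 : caseOK 3 23 23 0xbd870ac5a17224c5912f3a84698285 0xbda611b65443e2c5992e3900aa9602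
    0xbd4e35c4c42893094e807a14d0b2ce 0xb86c952e4c38082995a6ac5f0a3868
    [0, 2, 1, 3, 3, 3, 3, 0, 3, 3, 0, 3, 0, 3, 3, 0]
    [0, 2, 0, 2, 2, 2, 2, 0, 2, 0, 2, 2, 0, 3, 0]
    [3, 3, 3, 3, 0, 2, 0, 2, 0, 2, 2, 1, 2, 2, 2, 0] = true := by decide +kernel

theorem gen_3_23_23 : Gen23 3 23 23 :=
  m23_gen_of_caseOK (by norm_num) (by norm_num) (by norm_num) c_3_23_23

theorem c_5_5_5 : caseOK 5 5 5 0xbb9b1980cbac0ef55a5460ca442441 0xba9e89a68e65aa782c436c4a430412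
    0xb954d21d7263ab3b21341c4c20be00 0xbada8640c113a8f8d52a916d339060
    [3, 0, 2, 1, 1, 2, 0, 0, 2, 1, 3, 0, 3, 1, 3, 0]
    [2, 1, 1, 2, 2, 1, 2, 1, 2, 0, 0]
    [1, 1, 2, 2, 1, 2, 0, 2, 0, 0, 3, 0, 0, 2, 1, 3] = true := by decide +kernel

theorem gen_5_5_5 : Gen23 5 5 5 :=
  m23_gen_of_caseOK (by norm_num) (by norm_num) (by norm_num) c_5_5_5

theorem c_5_5_7 : caseOK 5 5 7 0xba8959ca2e2bd8b38db04d101058c2 0xb8a869ca287412d658e5585f550083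
    0xb85c538cc07aa0d5d92c24e51152a8 0xba8223148d7d5885b9209c68790ed0
    [1, 3, 3, 1, 2, 0, 0, 3, 0, 0, 3, 1, 3, 1, 1]
    [0, 0, 3, 1, 1, 3, 0, 0, 3, 0, 2, 0, 2, 2, 0, 2]
    [2, 0, 3, 0, 2, 1, 1, 2, 0, 2, 1, 2, 1, 2, 1, 1] = true := by decide +kernel

theorem gen_5_5_7 : Gen23 5 5 7 :=
  m23_gen_of_caseOK (by norm_num) (by norm_num) (by norm_num) c_5_5_7

theorem c_5_5_11 : caseOK 5 5 11 0xbceaaa02284b1a7304ae8484f592c3 0xb86b3b1a27221ae1d1f062d2201552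
    0xbd1428116e098ac4592f99c0d1d632 0xba856380334408c8d52b339b21d1e5
    [0, 0, 3, 0, 3, 0, 2, 1, 2, 1, 3, 1, 2, 0, 2, 1, 1]
    [1, 2, 1, 1, 3, 0, 2, 1, 2, 0, 0, 2, 2, 0, 3, 1]
    [0, 0, 3, 0, 2, 1, 3, 1, 3, 0, 3, 1, 3, 0, 3, 1] = true := by decide +kernel

theorem gen_5_5_11 : Gen23 5 5 11 :=
  m23_gen_of_caseOK (by norm_num) (by norm_num) (by norm_num) c_5_5_11

theorem c_5_5_23 : caseOK 5 5 23 0xbd8436c82a63cc87162b3d0809a6b0 0xbd8261c92072e6f4404c3b545a5624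
    0xb8ce19900d115f25aad44c111a99cc 0xba4689b086686005a8e5a89d2b3e91
    [3, 0, 3, 1, 1, 2, 0, 3, 3, 0, 3, 0, 2, 0, 3, 0]
    [2, 2, 0, 0, 2, 2, 1, 2, 1, 3, 0, 3, 3, 1, 3]
    [3, 0, 2, 0, 3, 0, 2, 0, 0, 3, 0, 0, 3, 0] = true := by decide +kernel

theorem gen_5_5_23 : Gen23 5 5 23 :=
  m23_gen_of_caseOK (by norm_num) (by norm_num) (by norm_num) c_5_5_23

theorem c_5_7_7 : caseOK 5 7 7 0xbadb0a24247b94764ab644e2619402 0xba133328b47baabb36476105018221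
    0xba6936157151aae200687b60138a56 0xb81b5a06053b0d38bec81ba4b4888a
    [0, 0, 2, 0, 0, 3, 0, 0, 3, 3, 3, 1, 1]
    [0, 2, 1, 2, 0, 0, 2, 2, 0, 2, 2, 1, 3, 3, 3]
    [2, 2, 2, 1, 1, 3, 1, 1, 3, 1, 2, 0, 2, 2, 1, 1] = true := by decide +kernel

theorem gen_5_7_7 : Gen23 5 7 7 :=
  m23_gen_of_caseOK (by norm_num) (by norm_num) (by norm_num) c_5_7_7

theorem c_5_7_11 : caseOK 5 7 11 0xbaa724d5b12896c19a8f4388785820 0xb8a49ad20341a2c6da67229e55b820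
    0xb9d2128090b322b451af708d21aa75 0xbbc0a091b041d2e60aabb167119a92
    [3, 0, 2, 0, 3, 1, 2, 0, 3, 0, 2, 0]
    [0, 3, 0, 3, 1, 3, 0, 3, 3, 0, 3, 1, 1, 3, 0, 3]
    [0, 2, 2, 0, 0, 3, 1, 2, 2, 0, 0, 2, 1, 2, 0, 2] = true := by decide +kernel

theorem gen_5_7_11 : Gen23 5 7 11 :=
  m23_gen_of_caseOK (by norm_num) (by norm_num) (by norm_num) c_5_7_11

theorem c_5_7_23 : caseOK 5 7 23 0xb942304988b52276892459953abdd0 0xbbc6e249a0105713953061ac8a2ab3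
    0xbd408504f1711ed4acccb48b480a63 0xb9ec409a036bd8854d748a4ae00a55
    [2, 1, 2, 2, 0, 2, 2, 0, 3, 1, 3, 0, 3, 1, 1, 2, 1]
    [1, 3, 3, 0, 3, 1, 2, 2, 1, 2, 2, 0, 2, 0, 0]
    [1, 2, 2, 0, 0, 2, 0, 2, 1, 1, 3, 3, 1] = true := by decide +kernel

theorem gen_5_7_23 : Gen23 5 7 23 :=
  m23_gen_of_caseOK (by norm_num) (by norm_num) (by norm_num) c_5_7_23

theorem c_5_11_11 : caseOK 5 11 11 0xb8025638c23b672aa9e8b50911ae09 0xb9d666b0814c9d3128087c6851c2b6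
    0xb85c9a2ec2514d3655b0022243c86f 0xbc553608a80552b93e861b5c40c2c7
    [2, 1, 3, 1, 3, 0, 3, 0, 2, 2, 0, 0, 3, 1, 3]
    [2, 0, 2, 0, 2, 2, 1, 2, 1, 3, 0, 3, 1, 1, 2]
    [2, 1, 2, 1, 3, 3, 0, 3, 3, 1, 3, 3, 3, 0, 2] = true := by decide +kernel

theorem gen_5_11_11 : Gen23 5 11 11 :=
  m23_gen_of_caseOK (by norm_num) (by norm_num) (by norm_num) c_5_11_11

theorem c_5_11_23 : caseOK 5 11 23 0xbaa1128e6471ad55892d3c8207a28c 0xbb58189a951bd005d9223ba70928a4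
    0xbaa03b51f3115a431eab044284b992 0xbcd32800d5889a14586452dcca3ca7
    [0, 2, 0, 0, 2, 1, 3, 1, 3, 0, 3, 1, 3, 1, 3]
    [3, 3, 3, 0, 2, 1, 2, 0, 0, 2, 1, 1, 2, 1, 3]
    [2, 2, 2, 0, 0, 3, 3, 3, 0, 0, 3, 0, 0, 2, 0] = true := by decide +kernel

theorem gen_5_11_23 : Gen23 5 11 23 :=
  m23_gen_of_caseOK (by norm_num) (by norm_num) (by norm_num) c_5_11_23

theorem c_5_23_23 : caseOK 5 23 23 0xbc2479b1347ae213548e00da540956 0xb81509d5b67a0b270623a2c8930987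
    0xbccef4c2b471905209416b0760464b 0xb9230b0452a3ce60266dab98b2a903
    [0, 2, 0, 0, 3, 0, 2, 2, 2, 2, 2, 0, 2]
    [1, 2, 1, 2, 0, 0, 3, 0, 0, 3, 3, 1, 2, 1, 1]
    [2, 2, 1, 2, 2, 0, 3, 1, 3, 0, 2, 1] = true := by decide +kernel

theorem gen_5_23_23 : Gen23 5 23 23 :=
  m23_gen_of_caseOK (by norm_num) (by norm_num) (by norm_num) c_5_23_23

theorem c_7_7_7 : caseOK 7 7 7 0xb9d3490ccc805cb9d84d402a47c545 0xba8b45cc4f1b510606a7b4404925c6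
    0xbc4cc4b90fb1410110f452ead1c833 0xbbca800acc8489431e714d5ca1ac2d
    [0, 0, 2, 2, 1, 3, 1, 3, 1, 2, 1, 3, 0, 3, 3, 1]
    [2, 0, 3, 1, 2, 1, 2, 0, 2, 2, 2, 1, 2, 1, 2]
    [1, 1, 2, 1, 1, 1, 2, 2, 0, 0, 3, 0, 2] = true := by decide +kernel

theorem gen_7_7_7 : Gen23 7 7 7 :=
  m23_gen_of_caseOK (by norm_num) (by norm_num) (by norm_num) c_7_7_7

theorem c_7_7_11 : caseOK 7 7 11 0xba052816960a4753c40c5196474daf 0xbc1911515300c2829dd659a446d5e9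
    0xbcea440de6915c9b1c4d8056a64680 0xbaea1b3c478b50329193541d4924c0
    [0, 2, 1, 2, 2, 1, 2, 0, 0, 2, 1, 3, 3]
    [0, 2, 1, 3, 1, 3, 1, 3, 0, 3, 0, 2, 1, 3, 0]
    [3, 1, 1, 3, 1, 2, 0, 3, 3] = true := by decide +kernel

theorem gen_7_7_11 : Gen23 7 7 11 :=
  m23_gen_of_caseOK (by norm_num) (by norm_num) (by norm_num) c_7_7_11

theorem c_7_7_23 : caseOK 7 7 23 0xbd0a4ac5466b993486cb7c8e344040 0xba67661a423b9ed445632c2b420540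
    0xbc40373daaa9c5461646b256484c28 0xb9dec126c394e2b2c0c072144a3435
    [1, 3, 1, 1, 1, 3, 3, 0, 3, 3, 1, 2, 2, 1, 2, 2]
    [2, 1, 2, 2, 0, 3, 0, 2, 0, 2, 0]
    [1, 1, 2, 0, 2, 0, 2, 1, 2, 0, 0, 2, 2, 1, 3] = true := by decide +kernel

theorem gen_7_7_23 : Gen23 7 7 23 :=
  m23_gen_of_caseOK (by norm_num) (by norm_num) (by norm_num) c_7_7_23

theorem c_7_11_11 : caseOK 7 11 11 0xb914ead93011e486006d33e8b99431 0xbca651b4103510b2562c71c564bc2a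
    0xbc5ab0c8a703cc3809c454d0c4d696 0xb804134acb726a4a1c658362862a6f
    [3, 1, 3, 3, 3, 0, 0, 2, 0, 0, 0, 3, 3, 3]
    [0, 0, 3, 3, 1, 2, 0, 2, 0, 3, 3, 0, 0, 2]
    [2, 2, 2, 1, 3, 3, 1, 3, 3, 1, 2, 2, 2] = true := by decide +kernel

theorem gen_7_11_11 : Gen23 7 11 11 :=
  m23_gen_of_caseOK (by norm_num) (by norm_num) (by norm_num) c_7_11_11

theorem c_7_11_23 : caseOK 7 11 23 0xbb63504dc6785851aad0a496849c44 0xba68791aa87c6cd2a86414180585d3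
    0xb8a6c02a341d9e5ab82d3492b3a090 0xbb970a9a206a914248a219d817d933
    [0, 3, 1, 2, 0, 2, 0, 2, 2, 2, 0, 2]
    [3, 0, 2, 1, 3, 1, 3, 0, 2, 1, 3]
    [0, 2, 2, 0, 0, 2, 0, 2, 2, 0, 3, 3, 3, 1, 1, 1] = true := by decide +kernel

theorem gen_7_11_23 : Gen23 7 11 23 :=
  m23_gen_of_caseOK (by norm_num) (by norm_num) (by norm_num) c_7_11_23

theorem c_7_23_23 : caseOK 7 23 23 0xb8135998f0196510b10273c8ab2e8d 0xb8e819b59031c0a112a98c9c57a176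
    0xbc0c3011ed9c847552d1aa02b4958e 0xba4ea7b9168820122c6665452a34b3
    [0, 3, 0, 3, 0, 0, 2, 0, 3, 1, 3, 1, 1, 2, 1, 1]
    [1, 3, 1, 3, 0, 2, 2, 2, 2, 0, 2, 1, 1, 1]
    [3, 0, 2, 2, 2, 2, 1, 3, 0, 0, 0, 2] = true := by decide +kernel

theorem gen_7_23_23 : Gen23 7 23 23 :=
  m23_gen_of_caseOK (by norm_num) (by norm_num) (by norm_num) c_7_23_23

theorem c_11_11_11 : caseOK 11 11 11 0xba2a1824475ca2f2d0866bacc50c13 0xb96aa039b3618e478e568216914681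
    0xba00559ea44d06e142516194f0b6d3 0xb862e0250a23047995f691a906ac75
    [1, 1, 2, 2, 0, 2, 1, 1, 3, 3, 0, 3, 3, 0, 0]
    [3, 1, 2, 0, 0, 0, 2, 0, 2, 1, 2, 1, 1, 3]
    [3, 0, 3, 0, 0, 3, 1, 2, 2, 1, 1, 2] = true := by decide +kernel

theorem gen_11_11_11 : Gen23 11 11 11 :=
  m23_gen_of_caseOK (by norm_num) (by norm_num) (by norm_num) c_11_11_11

theorem c_11_11_23 : caseOK 11 11 23 0xb95ea405d521c7658a546827132590 0xbb2082a480ac4e15d05370ecf6aa46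
    0xbd425b126c599c389d20921b413e0a 0xbcec489d61134b07812653a9260ea8
    [0, 2, 2, 2, 0, 2, 1, 3, 1, 2, 1, 2, 2, 1, 1]
    [3, 1, 1, 3, 1, 3, 1, 3, 0, 0, 0, 3, 1, 1]
    [0, 0, 0, 3, 0, 0, 2, 2, 1, 3, 3, 0, 3, 0, 2] = true := by decide +kernel

theorem gen_11_11_23 : Gen23 11 11 23 :=
  m23_gen_of_caseOK (by norm_num) (by norm_num) (by norm_num) c_11_11_23

theorem c_11_23_23 : caseOK 11 23 23 0xb94cfb2c528a5949c1413baad40083 0xbccac5c1eaa188d925c33d6c104502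
    0xb9c966c5c8a86869ad4200df04b0b2 0xbd1ed582442c66252470b3035321c7
    [2, 2, 2, 0, 3, 1, 3, 0, 2, 2, 1, 2, 1]
    [1, 1, 1, 1, 3, 3, 3, 1, 1, 2, 1, 3, 0, 0, 0]
    [0, 2, 0, 0, 0, 3, 1, 1, 2, 1, 3, 3, 1, 2] = true := by decide +kernel

theorem gen_11_23_23 : Gen23 11 23 23 :=
  m23_gen_of_caseOK (by norm_num) (by norm_num) (by norm_num) c_11_23_23

theorem c_23_23_23 : caseOK 23 23 23 0xb9167895d684a6251aac4840da0de8 0xbc1236ba6f0c488aace0a2a56130c5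
    0xbd5ab6192a940607d2622848e3c516 0xb82ca4bc4e592b3a42211c8e56a0cc
    [1, 3, 3, 0, 0, 0, 2, 0, 2, 0, 0, 2, 0, 3, 1]
    [1, 3, 0, 0, 0, 3, 0, 2, 1, 2, 0, 3, 1, 3]
    [2, 0, 2, 0, 0, 0, 2, 1, 3, 1, 3, 1, 2, 1] = true := by decide +kernel

theorem gen_23_23_23 : Gen23 23 23 23 :=
  m23_gen_of_caseOK (by norm_num) (by norm_num) (by norm_num) c_23_23_23

end Cfsg.Agent.H93
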