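import Cfsg.Agent.H93.M23Data
import Cfsg.Agent.H93.M23Neg

/-!
# `(p, q, r)`-generation of `M₂₃` (helper93)

`gen23_all`: the positive cases; `prime_dvd_m23`: the primes dividing the order.
-/

set_option autoImplicit false

namespace Cfsg.Agent.H93

open Cfsg

theorem prime_dvd_m23 {p : ℕ} (hp : p.Prime) (h : p ∣ 10200960) :
    p = 2 ∨ p = 3 ∨ p = 5 ∨ p = 7 ∨ p = 11 ∨ p = 23 := by
  have e : (10200960 : ℕ) = 2 ^ 7 * (3 ^ 2 * (5 * (7 * (11 * 23)))) := by norm_num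
  rw [e] at h
  rcases (Nat.Prime.dvd_mul hp).mp h with h | h
  · exact Or.inl ((Nat.prime_dvd_prime_iff_eq hp (by norm_num)).mp (hp.dvd_of_dvd_pow h))
  rcases (Nat.Prime.dvd_mul hp).mp h with h | h
  · exact Or.inr (Or.inl ((Nat.prime_dvd_prime_iff_eq hp (by norm_num)).mp (hp.dvd_of_dvd_pow h)))
  rcases (Nat.Prime.dvd_mul hp).mp h with h | h
  · exact Or.inr (Or.inr (Or.inl ((Nat.prime_dvd_prime_iff_eq hp (by norm_num)).mp h)))
  rcases (Nat.Prime.dvd_mul hp).mp h with h | h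
  · exact Or.inr (Or.inr (Or.inr (Or.inl ((Nat.prime_dvd_prime_iff_eq hp (by norm_num)).mp h))))
  rcases (Nat.Prime.dvd_mul hp).mp h with h | h
  · exact Or.inr (Or.inr (Or.inr (Or.inr (Or.inl
      ((Nat.prime_dvd_prime_iff_eq hp (by norm_num)).mp h)))))
  · exact Or.inr (Or.inr (Or.inr (Or.inr (Or.inr
      ((Nat.prime_dvd_prime_iff_eq hp (by norm_num)).mp h)))))

theorem gen23_all {p q r : ℕ} (hP : p = 2 ∨ p = 3 ∨ p = 5 ∨ p = 7 ∨ p = 11 ∨ p = 23)
    (hQ : q = 2 ∨ q = 3 ∨ q = 5 ∨ q = 7 ∨ q = 11 ∨ q = 23)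
    (hR : r = 2 ∨ r = 3 ∨ r = 5 ∨ r = 7 ∨ r = 11 ∨ r = 23)
    (hpq : p ≤ q) (hqr : q ≤ r) (hp2 : ¬ (p = 2 ∧ q = 2))
    (hne : ¬ ((p = 2 ∧ q = 3) ∨ (p = 2 ∧ q = 5 ∧ r = 5) ∨ (p = 2 ∧ q = 5 ∧ r = 7) ∨
      (p = 3 ∧ q = 3 ∧ r ≤ 7))) : Gen23 p q r := by
  rcases hP with rfl | rfl | rfl | rfl | rfl | rfl <;>
  rcases hQ with rfl | rfl | rfl | rfl | rfl | rfl <;>
  rcases hR with rfl | rfl | rfl | rfl | rfl | rfl <;>
  first
    | (exfalso; omega)
    | exact gen_2_5_11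
    | exact gen_2_5_23
    | exact gen_2_7_7
    | exact gen_2_7_11
    | exact gen_2_7_23
    | exact gen_2_11_11
    | exact gen_2_11_23
    | exact gen_2_23_23
    | exact gen_3_3_11
    | exact gen_3_3_23
    | exact gen_3_5_5
    | exact gen_3_5_7
    | exact gen_3_5_11
    | exact gen_3_5_23
    | exact gen_3_7_7
    | exact gen_3_7_11
    | exact gen_3_7_23
    | exact gen_3_11_11
    | exact gen_3_11_23
    | exact gen_3_23_23
    | exact gen_5_5_5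
    | exact gen_5_5_7
    | exact gen_5_5_11
    | exact gen_5_5_23
    | exact gen_5_7_7
    | exact gen_5_7_11
    | exact gen_5_7_23
    | exact gen_5_11_11
    | exact gen_5_11_23
    | exact gen_5_23_23
    | exact gen_7_7_7
    | exact gen_7_7_11
    | exact gen_7_7_23
    | exact gen_7_11_11
    | exact gen_7_11_23
    | exact gen_7_23_23
    | exact gen_11_11_11
    | exact gen_11_11_23
    | exact gen_11_23_23
    | exact gen_23_23_23

end Cfsg.Agent.H93
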