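import Cfsg.Agent.H94.Mult23
import Cfsg.Agent.S2063

/-!
# Generating pairs of `M₂₃` from packed data (helper93)

`m23_gen_of_caseOK`: packed permutations `X`, `Y` (with packed inverses) of `M₂₃` of orders `p`,
`q` with product of order `r`, together with three words in `X`, `Y` and their inverses that
evaluate to `x ↦ x + 1`, `x ↦ 2 x` and the cube twist (which generate `M₂₃`, helper94), give a
`(p, q, r)`-generation of `M₂₃`.
-/

set_option autoImplicit false
set_option linter.style.haveILetI false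

namespace Cfsg.Agent.H93

open Cfsg Cfsg.Agent.H9 Cfsg.Agent.H33 Cfsg.Agent.H94

/-- the letters of a word -/
def selN (X XI Y YI : ℕ) : ℕ → ℕ
  | 0 => X
  | 1 => XI
  | 2 => Y
  | _ => YI

/-- evaluation of a word on packed permutations -/
def wordN (X XI Y YI : ℕ) : List ℕ → ℕ
  | [] => idN
  | k :: w => mulN (selN X XI Y YI k) (wordN X XI Y YI w)

/-- the certificate of a `(p, q, r)`-generation -/
def caseOK (p q r X XI Y YI : ℕ) (w1 w2 w3 : List ℕ) : Bool :=
  ok23 X XI && (ok23 Y YI &&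
  (eqN (pwN X p) idN && (!(eqN X idN) &&
  (eqN (pwN Y q) idN && (!(eqN Y idN) &&
  (eqN (pwN (mulN X Y) r) idN && (!(eqN (mulN X Y) idN) &&
  (eqN (wordN X XI Y YI w1) o24T && (eqN (wordN X XI Y YI w2) o24Y &&
    eqN (wordN X XI Y YI w3) o24D)))))))))

/-- the property proved for each admissible triple -/
def Gen23 (p q r : ℕ) : Prop :=
  ∃ x y z : ↥Spor.M23, orderOf x = p ∧ orderOf y = q ∧ orderOf z = r ∧ x * y * z = 1 ∧
    Subgroup.closure ({x, y} : Set ↥Spor.M23) = ⊤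

theorem rep_inv23 {X XI : ℕ} (h : ok23 X XI = true) :
    Rep XI (((mk23 X XI)⁻¹ : ↥Spor.M23) : Equiv.Perm GolayPt) := by
  have hr := rep_mk23 h
  rw [Subgroup.coe_inv]
  apply rep_inv hr
  rw [allB_iff]
  intro i hi
  have := (chkInv_spec (ok23_spec h).1 i hi).2.2.1
  rw [this]
  exact Nat.beq_refl i

theorem word_mem {X XI Y YI : ℕ} (hX : ok23 X XI = true) (hY : ok23 Y YI = true) (w : List ℕ) :
    ∃ g ∈ Subgroup.closure ({mk23 X XI, mk23 Y YI} : Set ↥Spor.M23),
      Rep (wordN X XI Y YI w) (g : Equiv.Perm GolayPt) := by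
  have hx : mk23 X XI ∈ Subgroup.closure ({mk23 X XI, mk23 Y YI} : Set ↥Spor.M23) :=
    Subgroup.subset_closure (Set.mem_insert _ _)
  have hy : mk23 Y YI ∈ Subgroup.closure ({mk23 X XI, mk23 Y YI} : Set ↥Spor.M23) :=
    Subgroup.subset_closure (Set.mem_insert_of_mem _ rfl)
  induction w with
  | nil => exact ⟨1, one_mem _, rep_one23⟩
  | cons k w ih =>
    obtain ⟨g, hg, hr⟩ := ih
    rcases k with _ | _ | _ | k
    · exact ⟨mk23 X XI * g, mul_mem hx hg, rep_mul23 (rep_mk23 hX) hr⟩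
    · exact ⟨(mk23 X XI)⁻¹ * g, mul_mem (inv_mem hx) hg, rep_mul23 (rep_inv23 hX) hr⟩
    · exact ⟨mk23 Y YI * g, mul_mem hy hg, rep_mul23 (rep_mk23 hY) hr⟩
    · exact ⟨(mk23 Y YI)⁻¹ * g, mul_mem (inv_mem hy) hg, rep_mul23 (rep_inv23 hY) hr⟩

theorem m23_gen_of_caseOK {p q r X XI Y YI : ℕ} {w1 w2 w3 : List ℕ} (hp : p.Prime)
    (hq : q.Prime) (hr : r.Prime) (h : caseOK p q r X XI Y YI w1 w2 w3 = true) :
    Gen23 p q r := by
  unfold caseOK at h
  simp only [Bool.and_eq_true, Bool.not_eq_true'] at h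
  obtain ⟨hX, hY, hxp, hx1, hyq, hy1, hzr, hz1, hw1, hw2, hw3⟩ := h
  have rx := rep_mk23 hX
  have ry := rep_mk23 hY
  haveI := Fact.mk hp
  haveI := Fact.mk hq
  haveI := Fact.mk hr
  refine ⟨mk23 X XI, mk23 Y YI, (mk23 X XI * mk23 Y YI)⁻¹, ?_, ?_, ?_, mul_inv_cancel _, ?_⟩
  · exact orderOf_eq_prime (eq_of_rep23 (rep_pow23 rx p) rep_one23 hxp)
      (ne_of_rep23 rx rep_one23 hx1)
  · exact orderOf_eq_prime (eq_of_rep23 (rep_pow23 ry q) rep_one23 hyq)
      (ne_of_rep23 ry rep_one23 hy1)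
  · rw [orderOf_inv]
    exact orderOf_eq_prime (eq_of_rep23 (rep_pow23 (rep_mul23 rx ry) r) rep_one23 hzr)
      (ne_of_rep23 (rep_mul23 rx ry) rep_one23 hz1)
  · have key : ∀ (w : List ℕ) (T : ℕ) (t : Equiv.Perm GolayPt), Rep T t →
        eqN (wordN X XI Y YI w) T = true →
        t ∈ (Subgroup.closure ({mk23 X XI, mk23 Y YI} : Set ↥Spor.M23)).map Spor.M23.subtype := by
      intro w T t hT he
      obtain ⟨g, hg, hrep⟩ := word_mem hX hY w
      exact ⟨g, hg, eq_of_eqN hrep hT he⟩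
    have hle : Subgroup.closure Cfsg.Agent.S2063.gen3 ≤
        (Subgroup.closure ({mk23 X XI, mk23 Y YI} : Set ↥Spor.M23)).map Spor.M23.subtype := by
      rw [Subgroup.closure_le]
      intro t ht
      simp only [Cfsg.Agent.S2063.gen3, Set.mem_insert_iff, Set.mem_singleton_iff] at ht
      rcases ht with rfl | rfl | rfl
      · exact key w1 _ _ rT hw1
      · exact key w2 _ _ rY hw2
      · exact key w3 _ _ rD hw3
    rw [eq_top_iff]
    intro g _
    obtain ⟨h, hh, he⟩ := hle (Cfsg.Agent.S2063.M23_le g.2)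
    have : h = g := Subtype.ext he
    rw [← this]
    exact hh

end Cfsg.Agent.H93
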