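import Mathlib
import Cfsg.Prelude.Def_Spor_Mathieu
import Cfsg.Prelude.Def_Sporadic
import Cfsg.Agent.H93.M11Spor
import Cfsg.Agent.S2490
import Cfsg.Agent.H9.M11b
import Cfsg.Agent.H64.M11TI
import Cfsg.Agent.H71.M11Nse
import Cfsg.Agent.H36.NseA
import Cfsg.Agent.H36.NseC
import Cfsg.Agent.H60.NseB

set_option autoImplicit false
set_option linter.style.haveILetI false

namespace Cfsg.Agent.H93.NseM11

open Subgroup
open scoped Pointwise

/-- S3592: same order and same nse as `M11` implies isomorphic to `M11`. -/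
theorem main {G : Type*} [Group G] [Finite G]
    (hcard : Nat.card G = Nat.card ↥Cfsg.Spor.M11)
    (hnse : {c : ℕ | 0 < c ∧ ∃ n : ℕ, c = Nat.card {g : G // orderOf g = n}} =
      {c : ℕ | 0 < c ∧ ∃ n : ℕ, c = Nat.card {g : ↥Cfsg.Spor.M11 // orderOf g = n}}) :
    Nonempty (G ≃* ↥Cfsg.Spor.M11) := by
  classical
  haveI : Fact (Nat.Prime 11) := ⟨by norm_num⟩
  haveI : Fact (Nat.Prime 5) := ⟨by norm_num⟩
  have hG : Nat.card G = 7920 := by rw [hcard, Cfsg.Agent.H9.card_sporM11]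
  have hL : ∀ n : ℕ, Nat.card {g : G // orderOf g = n} ∈
      ({0, 1, 165, 440, 990, 1320, 1440, 1584, 1980} : Finset ℕ) := by
    intro n
    by_cases h0 : Nat.card {g : G // orderOf g = n} = 0
    · rw [h0]
      decide
    · have hmem : Nat.card {g : G // orderOf g = n} ∈
          {c : ℕ | 0 < c ∧ ∃ n : ℕ, c = Nat.card {g : G // orderOf g = n}} :=
        ⟨Nat.pos_of_ne_zero h0, n, rfl⟩
      rw [hnse] at hmem
      obtain ⟨-, k, hk⟩ := hmem
      rw [hk]
      exact Cfsg.Agent.H71.M11.sporM11_nse k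
  have hS11 : ∀ P : Sylow 11 G, Nat.card (P : Subgroup G) = 11 := by
    intro P
    have h := Cfsg.Agent.H64.M11.card_sylow_eq P 1 720 (by rw [hG]; norm_num) (by norm_num)
    simpa using h
  have hS5 : ∀ P : Sylow 5 G, Nat.card (P : Subgroup G) = 5 := by
    intro P
    have h := Cfsg.Agent.H64.M11.card_sylow_eq P 1 1584 (by rw [hG]; norm_num) (by norm_num)
    simpa using h
  have hc11 : Nat.card {g : G // orderOf g = 11} = 10 * Nat.card (Sylow 11 G) :=
    Cfsg.Agent.H36.Nse.card_orderOf_eq_prime 11 hS11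
  have hc5 : Nat.card {g : G // orderOf g = 5} = 4 * Nat.card (Sylow 5 G) :=
    Cfsg.Agent.H36.Nse.card_orderOf_eq_prime 5 hS5
  have hN11 := Cfsg.Agent.H60.Nse.normalizer_sylow11_of_count hG hc11 (hL 11)
  have hN5 := Cfsg.Agent.H60.Nse.normalizer_sylow5_of_count hG hc5 (hL 5)
  have hsimple : IsSimpleGroup G := by
    apply Cfsg.Agent.S2490.result hG
    refine ⟨{11}, ⟨11, rfl, by norm_num, by rw [hG]; norm_num⟩,
      ⟨2, by simp, by norm_num, by rw [hG]; norm_num⟩, ?_⟩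
    intro a ha b hb _ hbp _ _
    rw [Set.mem_singleton_iff] at ha hb
    subst ha
    exact Cfsg.Agent.H36.Nse.no_order_eleven_mul hG hN11 hN5 b hbp hb
  exact Cfsg.Agent.H93.M11Spor.iso_sporM11 ⟨hsimple, hG⟩

end Cfsg.Agent.H93.NseM11
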