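import Mathlib
import Cfsg.Prelude.Def_Spor_Ru

/-!
Generic tools for the rank-28 Gaussian lattice `Cfsg.Spor.ruLattice`: integer coordinates,
vectors given by lists, linear combinations, parity words and their spans.
-/

set_option autoImplicit false

namespace Cfsg.Agent.H93.Ru

open Cfsg Cfsg.Spor

/-! ### Integer coordinates -/

/-- The integer coordinate number `q < 56` of a vector: real and imaginary parts alternate. -/
def coord (v : RuVec) (q : ℕ) : ℤ :=
  if q % 2 = 0 then (v (⟨q / 8 % 7, Nat.mod_lt _ (by norm_num)⟩, ⟨q / 2 % 4, Nat.mod_lt _ (by norm_num)⟩)).re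
  else (v (⟨q / 8 % 7, Nat.mod_lt _ (by norm_num)⟩, ⟨q / 2 % 4, Nat.mod_lt _ (by norm_num)⟩)).im

/-- The vector with prescribed integer coordinates. -/
def ofF (f : ℕ → ℤ) : RuVec :=
  fun p => ⟨f (2 * (4 * p.1.val + p.2.val)), f (2 * (4 * p.1.val + p.2.val) + 1)⟩

/-- The vector given by a list of 56 integers. -/
def ofL (l : List ℤ) : RuVec := ofF (fun q => l.getD q 0)

/-- The list of the 56 integer coordinates of a vector. -/
def toL (v : RuVec) : List ℤ := (List.range 56).map (coord v)

theorem ofF_coord (v : RuVec) : ofF (coord v) = v := by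
  funext ⟨n, t⟩
  have hn := n.2
  have ht := t.2
  have h1 : (2 * (4 * n.val + t.val)) % 2 = 0 := by omega
  have h2 : ¬ (2 * (4 * n.val + t.val) + 1) % 2 = 0 := by omega
  have e1 : (⟨(2 * (4 * n.val + t.val)) / 8 % 7, Nat.mod_lt _ (by norm_num)⟩ : Fin 7) = n := by
    apply Fin.ext; show (2 * (4 * n.val + t.val)) / 8 % 7 = n.val; omega
  have e2 : (⟨(2 * (4 * n.val + t.val)) / 2 % 4, Nat.mod_lt _ (by norm_num)⟩ : Fin 4) = t := by
    apply Fin.ext; show (2 * (4 * n.val + t.val)) / 2 % 4 = t.val; omega
  have e3 : (⟨(2 * (4 * n.val + t.val) + 1) / 8 % 7, Nat.mod_lt _ (by norm_num)⟩ : Fin 7) = n := by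
    apply Fin.ext; show (2 * (4 * n.val + t.val) + 1) / 8 % 7 = n.val; omega
  have e4 : (⟨(2 * (4 * n.val + t.val) + 1) / 2 % 4, Nat.mod_lt _ (by norm_num)⟩ : Fin 4) = t := by
    apply Fin.ext; show (2 * (4 * n.val + t.val) + 1) / 2 % 4 = t.val; omega
  apply Zsqrtd.ext
  · show coord v (2 * (4 * n.val + t.val)) = _
    unfold coord
    rw [if_pos h1, e1, e2]
  · show coord v (2 * (4 * n.val + t.val) + 1) = _
    unfold coord
    rw [if_neg h2, e3, e4]

theorem coord_ofF (f : ℕ → ℤ) {q : ℕ} (hq : q < 56) : coord (ofF f) q = f q := by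
  unfold coord ofF
  split_ifs with h
  · show f (2 * (4 * (q / 8 % 7) + q / 2 % 4)) = f q
    congr 1; omega
  · show f (2 * (4 * (q / 8 % 7) + q / 2 % 4) + 1) = f q
    congr 1; omega

theorem ofF_congr {f g : ℕ → ℤ} (h : ∀ q < 56, f q = g q) : ofF f = ofF g := by
  funext ⟨n, t⟩
  have hn := n.2
  have ht := t.2
  apply Zsqrtd.ext
  · exact h _ (by show 2 * (4 * n.val + t.val) < 56; omega)
  · exact h _ (by show 2 * (4 * n.val + t.val) + 1 < 56; omega)

theorem toL_getD (v : RuVec) {q : ℕ} (hq : q < 56) : (toL v).getD q 0 = coord v q := by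
  unfold toL
  rw [List.getD_eq_getElem _ _ (by simpa using hq)]
  simp

theorem ofL_toL (v : RuVec) : ofL (toL v) = v := by
  unfold ofL
  rw [ofF_congr (g := coord v) (fun q hq => toL_getD v hq), ofF_coord]

theorem coord_ofL (l : List ℤ) {q : ℕ} (hq : q < 56) : coord (ofL l) q = l.getD q 0 :=
  coord_ofF _ hq

theorem coord_add (x y : RuVec) (q : ℕ) : coord (x + y) q = coord x q + coord y q := by
  unfold coord
  split_ifs <;> rfl

theorem coord_neg (x : RuVec) (q : ℕ) : coord (-x) q = -coord x q := by
  unfold coord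
  split_ifs <;> rfl

theorem coord_zero (q : ℕ) : coord 0 q = 0 := by
  unfold coord
  split_ifs <;> rfl

theorem ofF_add (f g : ℕ → ℤ) : ofF (fun q => f q + g q) = ofF f + ofF g := by
  funext p
  apply Zsqrtd.ext <;> rfl

theorem ofF_smul (c : ℤ) (f : ℕ → ℤ) : ofF (fun q => c * f q) = c • ofF f := by
  funext p
  apply Zsqrtd.ext
  · show c * f _ = (c • (ofF f p)).re
    rw [zsmul_eq_mul, Zsqrtd.re_smul]; rfl
  · show c * f _ = (c • (ofF f p)).im
    rw [zsmul_eq_mul, Zsqrtd.im_smul]; rfl

theorem ofF_zero : ofF (fun _ => 0) = 0 := by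
  funext p
  apply Zsqrtd.ext <;> rfl

/-! ### The norm in integer coordinates -/

theorem sum_range_56 (F : ℕ → ℤ) :
    ∑ q ∈ Finset.range 56, F q
      = ∑ p : Fin 7 × Fin 4, (F (2 * (4 * p.1.val + p.2.val)) + F (2 * (4 * p.1.val + p.2.val) + 1)) := by
  rw [Fintype.sum_prod_type]
  simp only [Fin.sum_univ_seven, Fin.sum_univ_four, Finset.sum_range_succ, Finset.sum_range_zero]
  norm_num
  ring

theorem ruNorm_eq (x : RuVec) : ruNorm x = ∑ q ∈ Finset.range 56, coord x q ^ 2 := by
  rw [sum_range_56]
  unfold ruNorm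
  apply Finset.sum_congr rfl
  intro p _
  have h := congrFun (ofF_coord x) p
  rw [Zsqrtd.norm_def]
  have hre : (x p).re = coord x (2 * (4 * p.1.val + p.2.val)) := by
    conv_lhs => rw [← h]
    rfl
  have him : (x p).im = coord x (2 * (4 * p.1.val + p.2.val) + 1) := by
    conv_lhs => rw [← h]
    rfl
  rw [hre, him]; ring

/-! ### Vectors given by lists and their linear combinations -/

/-- Coordinatewise sum of two lists (the longer one is kept beyond the shorter one). -/
def addL : List ℤ → List ℤ → List ℤ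
  | [], l' => l'
  | a :: l, [] => a :: l
  | a :: l, b :: l' => (a + b) :: addL l l'

theorem addL_getD (l l' : List ℤ) (q : ℕ) :
    (addL l l').getD q 0 = l.getD q 0 + l'.getD q 0 := by
  induction l generalizing l' q with
  | nil => simp [addL]
  | cons a l ih =>
    cases l' with
    | nil => simp [addL]
    | cons b l' =>
      cases q with
      | zero => simp [addL]
      | succ q =>
        rw [addL, List.getD_cons_succ, List.getD_cons_succ, List.getD_cons_succ]
        exact ih l' q

/-- Multiplication of a list by an integer. -/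
def scaleL (c : ℤ) (l : List ℤ) : List ℤ := l.map (fun a => c * a)

theorem scaleL_getD (c : ℤ) (l : List ℤ) (q : ℕ) :
    (scaleL c l).getD q 0 = c * l.getD q 0 := by
  induction l generalizing q with
  | nil => simp [scaleL]
  | cons a l ih =>
    cases q with
    | zero => simp [scaleL]
    | succ q =>
      have := ih q
      simp only [scaleL] at this ⊢
      simpa using this

/-- The linear combination of the lists `gs` with the coefficients `cs`. -/
def lincombL : List ℤ → List (List ℤ) → List ℤ
  | c :: cs, g :: gs => addL (scaleL c g) (lincombL cs gs)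
  | [], _ => []
  | _ :: _, [] => []

theorem ofL_addL (l l' : List ℤ) : ofL (addL l l') = ofL l + ofL l' := by
  unfold ofL
  rw [← ofF_add]
  congr 1
  funext q
  exact addL_getD l l' q

theorem ofL_scaleL (c : ℤ) (l : List ℤ) : ofL (scaleL c l) = c • ofL l := by
  unfold ofL
  rw [← ofF_smul]
  congr 1
  funext q
  exact scaleL_getD c l q

theorem ofL_nil : ofL [] = 0 := by
  unfold ofL
  rw [← ofF_zero]
  congr 1

theorem lincomb_mem (M : AddSubgroup RuVec) :
    ∀ (gs : List (List ℤ)) (cs : List ℤ), (∀ g ∈ gs, ofL g ∈ M) → ofL (lincombL cs gs) ∈ M := by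
  intro gs
  induction gs with
  | nil =>
    intro cs _
    cases cs with
    | nil => rw [lincombL, ofL_nil]; exact zero_mem M
    | cons c cs => rw [lincombL, ofL_nil]; exact zero_mem M
  | cons g gs ih =>
    intro cs h
    cases cs with
    | nil => rw [lincombL, ofL_nil]; exact zero_mem M
    | cons c cs =>
      rw [lincombL, ofL_addL, ofL_scaleL]
      exact add_mem (M.zsmul_mem (h g (List.mem_cons_self ..)) c)
        (ih cs (fun g' hg' => h g' (List.mem_cons_of_mem _ hg')))

/-- A check of a relation along two lists. -/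
def all2 {α β : Type} (P : α → β → Bool) : List α → List β → Bool
  | [], _ => true
  | _ :: _, [] => false
  | a :: as, b :: bs => P a b && all2 P as bs

theorem all2_spec {α β : Type} (P : α → β → Bool) :
    ∀ (l1 : List α) (l2 : List β), all2 P l1 l2 = true → ∀ a ∈ l1, ∃ b, P a b = true := by
  intro l1
  induction l1 with
  | nil => intro l2 _ a ha; simp at ha
  | cons a1 l1 ih =>
    intro l2 h a ha
    cases l2 with
    | nil => simp [all2] at h
    | cons b l2 =>
      rw [all2, Bool.and_eq_true] at h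
      rcases List.mem_cons.mp ha with rfl | ha'
      · exact ⟨b, h.1⟩
      · exact ih l2 h.2 a ha'

/-- The lattice spanned by the vectors given by the lists `gs`. -/
def latM (gs : List (List ℤ)) : AddSubgroup RuVec :=
  AddSubgroup.closure {v | ∃ g ∈ gs, v = ofL g}

theorem ofL_mem_latM {gs : List (List ℤ)} {g : List ℤ} (hg : g ∈ gs) : ofL g ∈ latM gs :=
  AddSubgroup.subset_closure ⟨g, hg, rfl⟩

/-- If the coordinate list of `v` is a linear combination of `gs` then `v` lies in the lattice. -/
theorem mem_latM_of_toL {gs : List (List ℤ)} {v : RuVec} {c : List ℤ}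
    (h : toL v = lincombL c gs) : v ∈ latM gs := by
  rw [← ofL_toL v, h]
  exact lincomb_mem _ gs c (fun g hg => ofL_mem_latM hg)

/-- A map that is additive and maps the generators into the lattice preserves the lattice. -/
theorem map_mem_latM {gs : List (List ℤ)} (φ : RuVec → RuVec)
    (hadd : ∀ x y, φ (x + y) = φ x + φ y) (hneg : ∀ x, φ (-x) = -φ x)
    (cert : List (List ℤ))
    (hc : all2 (fun g c => decide (toL (φ (ofL g)) = lincombL c gs)) gs cert = true) :
    ∀ x ∈ latM gs, φ x ∈ latM gs := by
  intro x hx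
  have h0 : φ 0 = 0 := by
    have := hadd 0 0
    rw [add_zero] at this
    exact left_eq_add.mp this
  induction hx using AddSubgroup.closure_induction with
  | mem x h =>
    obtain ⟨g, hg, rfl⟩ := h
    obtain ⟨c, hc'⟩ := all2_spec _ _ _ hc g hg
    exact mem_latM_of_toL (of_decide_eq_true hc')
  | zero => rw [h0]; exact zero_mem _
  | add x y _ _ ihx ihy => rw [hadd]; exact add_mem ihx ihy
  | neg x _ ih => rw [hneg]; exact neg_mem ih

/-! ### Dot products -/

/-- The real dot product of two vectors in integer coordinates. -/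
def rdot (x y : RuVec) : ℤ := ∑ q ∈ Finset.range 56, coord x q * coord y q

theorem rdot_add_left (x y z : RuVec) : rdot (x + y) z = rdot x z + rdot y z := by
  unfold rdot
  rw [← Finset.sum_add_distrib]
  apply Finset.sum_congr rfl
  intro q _
  rw [coord_add]; ring

theorem rdot_neg_left (x z : RuVec) : rdot (-x) z = -rdot x z := by
  unfold rdot
  rw [← Finset.sum_neg_distrib]
  apply Finset.sum_congr rfl
  intro q _
  rw [coord_neg]; ring

theorem rdot_zero_left (z : RuVec) : rdot 0 z = 0 := by
  unfold rdot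
  apply Finset.sum_eq_zero
  intro q _
  rw [coord_zero]; ring

theorem rdot_comm (x y : RuVec) : rdot x y = rdot y x := by
  unfold rdot
  apply Finset.sum_congr rfl
  intro q _
  ring

theorem ruNorm_eq_rdot (x : RuVec) : ruNorm x = rdot x x := by
  rw [ruNorm_eq]
  unfold rdot
  apply Finset.sum_congr rfl
  intro q _
  ring

theorem ruNorm_add (x y : RuVec) : ruNorm (x + y) = ruNorm x + ruNorm y + 2 * rdot x y := by
  rw [ruNorm_eq_rdot, ruNorm_eq_rdot, ruNorm_eq_rdot, rdot_add_left, rdot_comm x (x + y),
    rdot_comm y (x + y), rdot_add_left, rdot_add_left, rdot_comm y x]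
  ring

theorem ruNorm_neg (x : RuVec) : ruNorm (-x) = ruNorm x := by
  rw [ruNorm_eq_rdot, ruNorm_eq_rdot, rdot_neg_left, rdot_comm x (-x), rdot_neg_left]
  ring

/-- The dot product of two lists. -/
def dotL (l l' : List ℤ) : ℤ := (List.zipWith (fun a b => a * b) l l').sum

theorem sum_getD_mul (l l' : List ℤ) (n : ℕ) (h : l.length ≤ n) :
    ∑ q ∈ Finset.range n, l.getD q 0 * l'.getD q 0 = dotL l l' := by
  induction l generalizing l' n with
  | nil => simp [dotL]
  | cons a l ih =>
    cases n with
    | zero => simp at h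
    | succ n =>
      rw [Finset.sum_range_succ']
      cases l' with
      | nil => simp [dotL]
      | cons b l' =>
        have h' : l.length ≤ n := by simpa using h
        have := ih l' n h'
        simp only [List.getD_cons_succ, List.getD_cons_zero, dotL, List.zipWith_cons_cons,
          List.sum_cons] at this ⊢
        rw [this]; ring

theorem rdot_ofL (l l' : List ℤ) (h : l.length ≤ 56) : rdot (ofL l) (ofL l') = dotL l l' := by
  rw [← sum_getD_mul l l' 56 h]
  unfold rdot
  apply Finset.sum_congr rfl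
  intro q hq
  rw [coord_ofL l (Finset.mem_range.mp hq), coord_ofL l' (Finset.mem_range.mp hq)]

/-- The Gram conditions on a list of generators: lengths at most 56, square lengths divisible
by 8, dot products divisible by 4. -/
def GramP (gs : List (List ℤ)) : Prop :=
  ∀ g ∈ gs, g.length ≤ 56 ∧ dotL g g % 8 = 0 ∧ ∀ g' ∈ gs, dotL g g' % 4 = 0

theorem dvd_rdot_gen {gs : List (List ℤ)} (h : GramP gs) :
    ∀ x ∈ latM gs, ∀ g ∈ gs, (4 : ℤ) ∣ rdot x (ofL g) := by
  intro x hx g hg
  induction hx using AddSubgroup.closure_induction with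
  | mem x hx' =>
    obtain ⟨g0, hg0, rfl⟩ := hx'
    obtain ⟨hl, -, h4⟩ := h g0 hg0
    rw [rdot_ofL _ _ hl]
    exact Int.dvd_of_emod_eq_zero (h4 g hg)
  | zero => rw [rdot_zero_left]; exact dvd_zero _
  | add x y _ _ ihx ihy => rw [rdot_add_left]; exact dvd_add ihx ihy
  | neg x _ ih => rw [rdot_neg_left]; exact (dvd_neg).mpr ih

theorem dvd_rdot {gs : List (List ℤ)} (h : GramP gs) :
    ∀ x ∈ latM gs, ∀ y ∈ latM gs, (4 : ℤ) ∣ rdot x y := by
  intro x hx y hy
  induction hy using AddSubgroup.closure_induction with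
  | mem y hy' =>
    obtain ⟨g, hg, rfl⟩ := hy'
    exact dvd_rdot_gen h x hx g hg
  | zero => rw [rdot_comm, rdot_zero_left]; exact dvd_zero _
  | add y z _ _ ihy ihz => rw [rdot_comm, rdot_add_left, rdot_comm y, rdot_comm z]; exact dvd_add ihy ihz
  | neg y _ ih => rw [rdot_comm, rdot_neg_left, rdot_comm y]; exact (dvd_neg).mpr ih

theorem dvd_ruNorm {gs : List (List ℤ)} (h : GramP gs) :
    ∀ x ∈ latM gs, (8 : ℤ) ∣ ruNorm x := by
  intro x hx
  induction hx using AddSubgroup.closure_induction with
  | mem x hx' =>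
    obtain ⟨g, hg, rfl⟩ := hx'
    obtain ⟨hl, h8, -⟩ := h g hg
    rw [ruNorm_eq_rdot, rdot_ofL _ _ hl]
    exact Int.dvd_of_emod_eq_zero h8
  | zero =>
    rw [ruNorm_eq_rdot, rdot_zero_left]; exact dvd_zero _
  | add x y hx hy ihx ihy =>
    rw [ruNorm_add]
    obtain ⟨k, hk⟩ := dvd_rdot h x hx y hy
    exact dvd_add (dvd_add ihx ihy) ⟨k, by rw [hk]; ring⟩
  | neg x _ ih => rw [ruNorm_neg]; exact ih

/-! ### Parity words -/

/-- `w` is the parity word of `x`: its bits record the odd integer coordinates. -/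
def IsPar (x : RuVec) (w : ℕ) : Prop := ∀ q < 56, (coord x q % 2 = 1 ↔ w.testBit q = true)

theorem isPar_add {x y : RuVec} {w w' : ℕ} (hx : IsPar x w) (hy : IsPar y w') :
    IsPar (x + y) (w ^^^ w') := by
  intro q hq
  rw [coord_add, Nat.testBit_xor]
  have h1 := hx q hq
  have h2 := hy q hq
  cases h3 : w.testBit q <;> cases h4 : w'.testBit q <;> simp only [h3, h4] at h1 h2 ⊢ <;>
    simp only [Bool.false_eq_true, iff_false, iff_true, Bool.xor_false, Bool.xor_true,
      Bool.not_false, Bool.not_true] at h1 h2 ⊢ <;> omega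

theorem isPar_neg {x : RuVec} {w : ℕ} (hx : IsPar x w) : IsPar (-x) w := by
  intro q hq
  rw [coord_neg, ← hx q hq]
  omega

theorem isPar_zero : IsPar 0 0 := by
  intro q _
  rw [coord_zero, Nat.zero_testBit]
  simp

/-- The span of a list of words under exclusive or. -/
def InSpan : List ℕ → ℕ → Prop
  | [], w => w = 0
  | g :: gs, w => InSpan gs w ∨ InSpan gs (w ^^^ g)

theorem inSpan_zero : ∀ gs : List ℕ, InSpan gs 0 := by
  intro gs
  induction gs with
  | nil => rfl
  | cons g gs ih => exact Or.inl ih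

theorem inSpan_mem : ∀ (gs : List ℕ) (g : ℕ), g ∈ gs → InSpan gs g := by
  intro gs
  induction gs with
  | nil => intro g hg; simp at hg
  | cons g0 gs ih =>
    intro g hg
    rcases List.mem_cons.mp hg with rfl | hg'
    · right; rw [Nat.xor_self]; exact inSpan_zero gs
    · left; exact ih g hg'

theorem inSpan_xor : ∀ (gs : List ℕ) (w w' : ℕ), InSpan gs w → InSpan gs w' →
    InSpan gs (w ^^^ w') := by
  intro gs
  induction gs with
  | nil =>
    intro w w' h h'
    rw [InSpan] at h h' ⊢
    rw [h, h']; rfl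
  | cons g gs ih =>
    intro w w' h h'
    rcases h with h | h <;> rcases h' with h' | h'
    · exact Or.inl (ih _ _ h h')
    · right
      have := ih _ _ h h'
      rwa [← Nat.xor_assoc] at this
    · right
      have := ih _ _ h h'
      have e : w ^^^ g ^^^ w' = w ^^^ w' ^^^ g := by
        rw [Nat.xor_assoc, Nat.xor_comm g w', ← Nat.xor_assoc]
      rwa [e] at this
    · left
      have := ih _ _ h h'
      have e : w ^^^ g ^^^ (w' ^^^ g) = w ^^^ w' := by
        rw [Nat.xor_assoc, Nat.xor_comm w' g, ← Nat.xor_assoc g g w', Nat.xor_self, Nat.zero_xor]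
      rwa [e] at this

theorem exists_par {gs : List (List ℤ)} {pg : List ℕ}
    (h : ∀ g ∈ gs, ∃ w, InSpan pg w ∧ IsPar (ofL g) w) :
    ∀ x ∈ latM gs, ∃ w, InSpan pg w ∧ IsPar x w := by
  intro x hx
  induction hx using AddSubgroup.closure_induction with
  | mem x hx' =>
    obtain ⟨g, hg, rfl⟩ := hx'
    exact h g hg
  | zero => exact ⟨0, inSpan_zero pg, isPar_zero⟩
  | add x y _ _ ihx ihy =>
    obtain ⟨w, hw, hp⟩ := ihx
    obtain ⟨w', hw', hp'⟩ := ihy
    exact ⟨w ^^^ w', inSpan_xor pg w w' hw hw', isPar_add hp hp'⟩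
  | neg x _ ih =>
    obtain ⟨w, hw, hp⟩ := ih
    exact ⟨w, hw, isPar_neg hp⟩

/-- A check of all the words of a span. -/
def allW (chk : ℕ → Bool) : List ℕ → ℕ → Bool
  | [], acc => chk acc
  | g :: gs, acc => allW chk gs acc && allW chk gs (acc ^^^ g)

theorem allW_spec (chk : ℕ → Bool) : ∀ (gs : List ℕ) (acc : ℕ), allW chk gs acc = true →
    ∀ w, InSpan gs w → chk (acc ^^^ w) = true := by
  intro gs
  induction gs with
  | nil =>
    intro acc h w hw
    rw [InSpan] at hw
    rw [hw, Nat.xor_zero]
    exact h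
  | cons g gs ih =>
    intro acc h w hw
    rw [allW, Bool.and_eq_true] at h
    rcases hw with hw | hw
    · exact ih acc h.1 w hw
    · have := ih (acc ^^^ g) h.2 (w ^^^ g) hw
      have e : acc ^^^ g ^^^ (w ^^^ g) = acc ^^^ w := by
        rw [Nat.xor_assoc, Nat.xor_comm w g, ← Nat.xor_assoc g g w, Nat.xor_self, Nat.zero_xor]
      rwa [e] at this

/-! ### Weights of words -/

/-- The packed table of the numbers of bits of the bytes, four bits per entry. -/
def TP : ℕ := 95125173855764218123276304889944061997689682402263585766959741291920687686033329201817409157123347502415384089435969498586180241031507595463600295898153685276653211633572815512294064538494957912327413386667662218713394765509704508661031522276467630197481635010039778342554499416459730172574551513689147646224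

/-- The number of bits of a byte. -/
def tb (b : ℕ) : ℕ := (TP >>> (4 * b)) &&& 15

/-- The number of bits of the byte number `j` of `w`. -/
def tbS (w j : ℕ) : ℕ := tb ((w >>> (8 * j)) &&& 255)

/-- The number of bits of a word of 56 bits. -/
def wt (w : ℕ) : ℕ := tbS w 0 + tbS w 1 + tbS w 2 + tbS w 3 + tbS w 4 + tbS w 5 + tbS w 6

theorem tb_spec : ∀ b < 256, tb b = (if b.testBit 0 = true then 1 else 0)
    + (if b.testBit 1 = true then 1 else 0) + (if b.testBit 2 = true then 1 else 0)
    + (if b.testBit 3 = true then 1 else 0) + (if b.testBit 4 = true then 1 else 0)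
    + (if b.testBit 5 = true then 1 else 0) + (if b.testBit 6 = true then 1 else 0)
    + (if b.testBit 7 = true then 1 else 0) := by decide +kernel

theorem tbS_spec (w j : ℕ) : tbS w j = (if w.testBit (8 * j) = true then 1 else 0)
    + (if w.testBit (8 * j + 1) = true then 1 else 0)
    + (if w.testBit (8 * j + 2) = true then 1 else 0)
    + (if w.testBit (8 * j + 3) = true then 1 else 0)
    + (if w.testBit (8 * j + 4) = true then 1 else 0)
    + (if w.testBit (8 * j + 5) = true then 1 else 0)
    + (if w.testBit (8 * j + 6) = true then 1 else 0)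
    + (if w.testBit (8 * j + 7) = true then 1 else 0) := by
  have hb : (w >>> (8 * j)) &&& 255 < 256 := by
    have := Nat.and_le_right (n := w >>> (8 * j)) (m := 255)
    omega
  have h255 : ∀ i < 8, (255 : ℕ).testBit i = true := by decide
  unfold tbS
  rw [tb_spec _ hb]
  simp only [Nat.testBit_and, Nat.testBit_shiftRight, h255 0 (by norm_num), h255 1 (by norm_num),
    h255 2 (by norm_num), h255 3 (by norm_num), h255 4 (by norm_num), h255 5 (by norm_num),
    h255 6 (by norm_num), h255 7 (by norm_num), Bool.and_true, Nat.add_zero]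

/-- The number of bits among the first 56 of a word, as an integer sum. -/
def cntZ (w : ℕ) : ℤ := ∑ q ∈ Finset.range 56, (if w.testBit q = true then (1 : ℤ) else 0)

theorem wt_eq (w : ℕ) : ((wt w : ℕ) : ℤ) = cntZ w := by
  unfold wt cntZ
  rw [tbS_spec, tbS_spec, tbS_spec, tbS_spec, tbS_spec, tbS_spec, tbS_spec]
  simp only [Finset.sum_range_succ, Finset.sum_range_zero]
  push_cast
  norm_num
  ring

theorem ite_le_sq {x : RuVec} {w : ℕ} (hp : IsPar x w) {q : ℕ} (hq : q < 56) :
    (if w.testBit q = true then (1 : ℤ) else 0) ≤ coord x q ^ 2 := by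
  split_ifs with h
  · have h1 : coord x q % 2 = 1 := (hp q hq).mpr h
    have h0 : coord x q ≠ 0 := by
      intro h0; rw [h0] at h1; norm_num at h1
    rcases lt_or_gt_of_ne h0 with h2 | h2 <;> nlinarith
  · exact sq_nonneg _

theorem cnt_le_norm {x : RuVec} {w : ℕ} (hp : IsPar x w) : cntZ w ≤ ruNorm x := by
  rw [ruNorm_eq]
  unfold cntZ
  apply Finset.sum_le_sum
  intro q hq
  exact ite_le_sq hp (Finset.mem_range.mp hq)

theorem list_sum_range (f : ℕ → ℤ) (n : ℕ) :
    ((List.range n).map f).sum = ∑ q ∈ Finset.range n, f q := by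
  induction n with
  | zero => simp
  | succ n ih => rw [List.range_succ, List.map_append, List.sum_append, ih, Finset.sum_range_succ]; simp

/-! ### No vectors of norm 8 -/

/-- The check of an exceptional word `e.1` of weight 8: the lattice vector with coefficients
`e.2` is even on the support of the word and its sum over the support is 2 modulo 4. -/
def sevenOK (gs : List (List ℤ)) (e : ℕ × List ℤ) : Bool :=
  Nat.beq (wt e.1) 8
    && (List.range 56).all (fun q => !e.1.testBit q
      || decide ((lincombL e.2 gs).getD q 0 % 2 = 0))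
    && decide (((List.range 56).map
      (fun q => if e.1.testBit q = true then (lincombL e.2 gs).getD q 0 else 0)).sum % 4 = 2)

theorem no8_seven {gs : List (List ℤ)} (hg : GramP gs) {e : ℕ × List ℤ}
    (he : sevenOK gs e = true) {x : RuVec} (hx : x ∈ latM gs) (hp : IsPar x e.1)
    (hn : ruNorm x = 8) : False := by
  unfold sevenOK at he
  rw [Bool.and_eq_true, Bool.and_eq_true, List.all_eq_true] at he
  obtain ⟨⟨h8, hev⟩, hs⟩ := he
  have h8' : wt e.1 = 8 := Nat.eq_of_beq_eq_true h8
  have hs' := of_decide_eq_true hs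
  rw [list_sum_range] at hs'
  obtain ⟨u, hu⟩ : ∃ u, u = lincombL e.2 gs := ⟨_, rfl⟩
  rw [← hu] at hs'
  have hev' : ∀ q < 56, e.1.testBit q = true → u.getD q 0 % 2 = 0 := by
    intro q hq hb
    have := hev q (List.mem_range.mpr hq)
    rw [hb, ← hu] at this
    simpa using this
  have huM : ofL u ∈ latM gs := by
    rw [hu]; exact lincomb_mem _ gs e.2 (fun g hg' => ofL_mem_latM hg')
  have h4 : (4 : ℤ) ∣ rdot x (ofL u) := dvd_rdot hg x hx _ huM
  have hcnt : cntZ e.1 = 8 := by rw [← wt_eq, h8']; rfl
  have hterm : ∀ q ∈ Finset.range 56,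
      coord x q ^ 2 - (if e.1.testBit q = true then (1 : ℤ) else 0) = 0 := by
    have hsum : ∑ q ∈ Finset.range 56,
        (coord x q ^ 2 - (if e.1.testBit q = true then (1 : ℤ) else 0)) = 0 := by
      rw [Finset.sum_sub_distrib, ← ruNorm_eq, hn]
      have : ∑ q ∈ Finset.range 56, (if e.1.testBit q = true then (1 : ℤ) else 0) = 8 := hcnt
      rw [this]; norm_num
    exact (Finset.sum_eq_zero_iff_of_nonneg (fun q hq => by
      have := ite_le_sq hp (Finset.mem_range.mp hq); linarith)).mp hsum
  have hdiff : (4 : ℤ) ∣ rdot x (ofL u)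
      - ∑ q ∈ Finset.range 56, (if e.1.testBit q = true then u.getD q 0 else 0) := by
    unfold rdot
    rw [← Finset.sum_sub_distrib]
    apply Finset.dvd_sum
    intro q hq
    have hq' := Finset.mem_range.mp hq
    have ht := hterm q hq
    rw [coord_ofL u hq']
    by_cases hb : e.1.testBit q = true
    · rw [if_pos hb] at ht ⊢
      have h1 : (coord x q - 1) * (coord x q + 1) = 0 := by nlinarith
      obtain ⟨k, hk⟩ : ∃ k, u.getD q 0 = 2 * k := ⟨u.getD q 0 / 2, by have := hev' q hq' hb; omega⟩
      rcases mul_eq_zero.mp h1 with h2 | h2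
      · have : coord x q = 1 := by linarith
        rw [this]; simp
      · have : coord x q = -1 := by linarith
        rw [this, hk]; exact ⟨-k, by ring⟩
    · rw [if_neg hb] at ht ⊢
      have : coord x q = 0 := by nlinarith
      rw [this]; simp
  have h5 := (Int.dvd_iff_emod_eq_zero).mp ((dvd_sub_right h4).mp hdiff)
  omega

/-- Any two coordinates are separated modulo 2 by some generator. -/
def ColsP (gs : List (List ℤ)) : Prop :=
  ∀ a < 56, ∀ b < 56, a ≠ b → ∃ g ∈ gs, (g.getD a 0 + g.getD b 0) % 2 = 1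

theorem no8_zero {gs : List (List ℤ)} (hg : GramP gs) (hc : ColsP gs)
    {x : RuVec} (hx : x ∈ latM gs) (hp : IsPar x 0) (hn : ruNorm x = 8) : False := by
  classical
  have heven : ∀ q < 56, coord x q % 2 = 0 := by
    intro q hq
    have h1 := hp q hq
    rw [Nat.zero_testBit] at h1
    simp only [Bool.false_eq_true, iff_false] at h1
    omega
  rw [ruNorm_eq] at hn
  obtain ⟨S, hS⟩ : ∃ S, S = (Finset.range 56).filter (fun q => coord x q ≠ 0) := ⟨_, rfl⟩
  have hsumS : ∑ q ∈ S, coord x q ^ 2 = 8 := by
    rw [hS, Finset.sum_filter_of_ne, hn]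
    intro q _ hne h0
    rw [h0] at hne; simp at hne
  have hmemS : ∀ q, q ∈ S ↔ q < 56 ∧ coord x q ≠ 0 := by
    intro q; rw [hS, Finset.mem_filter, Finset.mem_range]
  have hval : ∀ q ∈ S, coord x q = 2 ∨ coord x q = -2 := by
    intro q hq
    obtain ⟨hq56, hne⟩ := (hmemS q).mp hq
    have hle : coord x q ^ 2 ≤ 8 := by
      rw [← hsumS]
      exact Finset.single_le_sum (f := fun q => coord x q ^ 2) (fun i _ => sq_nonneg _) hq
    have he := heven q hq56
    have h1 : -2 ≤ coord x q := by nlinarith
    have h2 : coord x q ≤ 2 := by nlinarith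
    omega
  have hcard : S.card = 2 := by
    have h1 : ∑ q ∈ S, coord x q ^ 2 = ∑ _q ∈ S, (4 : ℤ) := by
      apply Finset.sum_congr rfl
      intro q hq
      rcases hval q hq with h | h <;> rw [h] <;> norm_num
    rw [hsumS, Finset.sum_const, nsmul_eq_mul] at h1
    have : (S.card : ℤ) = 2 := by linarith
    exact_mod_cast this
  obtain ⟨a, b, hab, hSab⟩ := Finset.card_eq_two.mp hcard
  have haS : a ∈ S := by rw [hSab]; simp
  have hbS : b ∈ S := by rw [hSab]; simp
  have ha56 := ((hmemS a).mp haS).1
  have hb56 := ((hmemS b).mp hbS).1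
  obtain ⟨g, hgm, hodd'⟩ := hc a ha56 b hb56 hab
  · have h4 := dvd_rdot_gen hg x hx g hgm
    have hr : rdot x (ofL g) = coord x a * g.getD a 0 + coord x b * g.getD b 0 := by
      unfold rdot
      have hsub : ({a, b} : Finset ℕ) ⊆ Finset.range 56 := by
        intro q hq
        rcases Finset.mem_insert.mp hq with rfl | hq
        · exact Finset.mem_range.mpr ha56
        · rw [Finset.mem_singleton.mp hq]; exact Finset.mem_range.mpr hb56
      rw [← Finset.sum_subset hsub, Finset.sum_pair hab, coord_ofL g ha56, coord_ofL g hb56]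
      intro q hq hnot
      have : coord x q = 0 := by
        by_contra hne
        exact hnot (by rw [← hSab]; exact (hmemS q).mpr ⟨Finset.mem_range.mp hq, hne⟩)
      rw [this]; ring
    rw [hr] at h4
    rcases hval a haS with h1 | h1 <;> rcases hval b hbS with h2 | h2 <;> rw [h1, h2] at h4 <;>
      omega

/-- The check applied to each word of the span of the parity words: zero, one of the
exceptional words, or of weight at least 9. -/
def chkW (seven : List (ℕ × List ℤ)) (w : ℕ) : Bool :=
  Nat.beq w 0 || seven.any (fun e => Nat.beq e.1 w) || Nat.ble 9 (wt w)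

theorem no8 {gs : List (List ℤ)} {pg : List ℕ} {seven : List (ℕ × List ℤ)}
    (hg : GramP gs) (hpar : ∀ g ∈ gs, ∃ w, InSpan pg w ∧ IsPar (ofL g) w) (hc : ColsP gs)
    (hseven : seven.all (sevenOK gs) = true)
    (hall : ∀ w, InSpan pg w → chkW seven w = true) :
    ∀ x ∈ latM gs, ruNorm x ≠ 8 := by
  intro x hx hn
  obtain ⟨w, hw, hp⟩ := exists_par hpar x hx
  have hchk := hall w hw
  unfold chkW at hchk
  rw [Bool.or_eq_true, Bool.or_eq_true] at hchk
  rcases hchk with (h0 | hs) | h9
  · rw [Nat.eq_of_beq_eq_true h0] at hp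
    exact no8_zero hg hc hx hp hn
  · rw [List.any_eq_true] at hs
    obtain ⟨e, he, hew⟩ := hs
    rw [List.all_eq_true] at hseven
    rw [← Nat.eq_of_beq_eq_true hew] at hp
    exact no8_seven hg (hseven e he) hx hp hn
  · have h9' : 9 ≤ wt w := Nat.le_of_ble_eq_true h9
    have h1 := cnt_le_norm hp
    rw [← wt_eq, hn] at h1
    have : ((wt w : ℕ) : ℤ) ≤ 8 := h1
    omega

theorem ruNorm_pos {x : RuVec} (hx : x ≠ 0) : 0 < ruNorm x := by
  rw [ruNorm_eq]
  by_contra hle
  have h0 : ∑ q ∈ Finset.range 56, coord x q ^ 2 = 0 :=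
    le_antisymm (not_lt.mp hle) (Finset.sum_nonneg (fun q _ => sq_nonneg _))
  have hz := (Finset.sum_eq_zero_iff_of_nonneg (fun q _ => sq_nonneg (coord x q))).mp h0
  apply hx
  rw [← ofF_coord x, ← ofF_zero]
  apply ofF_congr
  intro q hq
  have := hz q (Finset.mem_range.mpr hq)
  exact pow_eq_zero_iff (by norm_num) |>.mp this

/-! ### Packed data -/

/-- The digit number `q` of a packed list: six bits. -/
def dig (n q : ℕ) : ℕ := (n >>> (6 * q)) &&& 63

/-- Unpack a list of 56 integers from a natural number: six bits per entry, offset 32. -/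
def decL (n : ℕ) : List ℤ := (List.range 56).map (fun q => ((dig n q : ℕ) : ℤ) - 32)

theorem dig_lt (n q : ℕ) : dig n q < 64 := by
  have := Nat.and_le_right (n := n >>> (6 * q)) (m := 63)
  unfold dig; omega

theorem decL_length (n : ℕ) : (decL n).length = 56 := by simp [decL]

theorem decL_getD (n : ℕ) {q : ℕ} (hq : q < 56) : (decL n).getD q 0 = ((dig n q : ℕ) : ℤ) - 32 := by
  unfold decL
  rw [List.getD_eq_getElem _ _ (by simpa using hq)]
  simp

theorem decL_getD_abs (n q : ℕ) : |(decL n).getD q 0| ≤ 32 := by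
  by_cases hq : q < 56
  · rw [decL_getD n hq]
    have := dig_lt n q
    rw [abs_le]; constructor <;> omega
  · rw [List.getD_eq_default _ _ (by rw [decL_length]; omega)]
    norm_num

/-- The vector given by a packed number. -/
def ofN (n : ℕ) : RuVec := ofF (fun q => ((dig n q : ℕ) : ℤ) - 32)

theorem ofL_decL (n : ℕ) : ofL (decL n) = ofN n := by
  unfold ofL ofN
  exact ofF_congr (fun q hq => decL_getD n hq)

theorem coord_ofN (n : ℕ) {q : ℕ} (hq : q < 56) : coord (ofN n) q = ((dig n q : ℕ) : ℤ) - 32 :=
  coord_ofF _ hq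

theorem dig_odd (n q : ℕ) : dig n q % 2 = 1 ↔ n.testBit (6 * q) = true := by
  have h1 : (dig n q).testBit 0 = n.testBit (6 * q) := by
    unfold dig
    rw [Nat.testBit_and, Nat.testBit_shiftRight]
    simp
  rw [← h1, Nat.testBit_zero, decide_eq_true_iff]

/-! ### The Gram conditions by digits -/

/-- The dot product of the digit lists of two packed numbers. -/
def dotN (n n' : ℕ) : ℕ := ((List.range 56).map (fun q => dig n q * dig n' q)).sum

theorem dotL_map (f f' : ℕ → ℤ) (R : List ℕ) :
    dotL (R.map f) (R.map f') = (R.map (fun q => f q * f' q)).sum := by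
  unfold dotL
  induction R with
  | nil => simp
  | cons a R ih => simp only [List.map_cons, List.zipWith_cons_cons, List.sum_cons, ih]

theorem dotL_decL (n n' : ℕ) : (32 : ℤ) ∣ dotL (decL n) (decL n') - ((dotN n n' : ℕ) : ℤ) := by
  unfold decL dotN
  rw [dotL_map]
  generalize List.range 56 = R
  induction R with
  | nil => simp
  | cons a R ih =>
    simp only [List.map_cons, List.sum_cons]
    push_cast
    obtain ⟨k, hk⟩ := ih
    refine ⟨k - (dig n a : ℤ) - (dig n' a : ℤ) + 32, ?_⟩
    push_cast at hk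
    linear_combination hk

theorem dotN_comm (n n' : ℕ) : dotN n n' = dotN n' n := by
  unfold dotN
  congr 1
  apply List.map_congr_left
  intro q _
  exact Nat.mul_comm _ _

/-- The Gram check on packed numbers (each pair is checked once). -/
def gramN : List ℕ → Bool
  | [] => true
  | n :: ns => Nat.beq (dotN n n % 8) 0 && ns.all (fun n' => Nat.beq (dotN n n' % 4) 0)
      && gramN ns

theorem gramN_pairs : ∀ ns : List ℕ, gramN ns = true →
    ∀ n ∈ ns, dotN n n % 8 = 0 ∧ ∀ n' ∈ ns, dotN n n' % 4 = 0 := by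
  intro ns
  induction ns with
  | nil => intro _ n hn; simp at hn
  | cons n0 ns ih =>
    intro h n hn
    rw [gramN, Bool.and_eq_true, Bool.and_eq_true, List.all_eq_true] at h
    obtain ⟨⟨h8, hall⟩, hrec⟩ := h
    have h8' : dotN n0 n0 % 8 = 0 := Nat.eq_of_beq_eq_true h8
    rcases List.mem_cons.mp hn with rfl | hn1
    · refine ⟨h8', fun m hm => ?_⟩
      rcases List.mem_cons.mp hm with rfl | hm1
      · omega
      · exact Nat.eq_of_beq_eq_true (hall m hm1)
    · obtain ⟨h1, h2⟩ := ih hrec n hn1
      refine ⟨h1, fun m hm => ?_⟩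
      rcases List.mem_cons.mp hm with rfl | hm1
      · rw [dotN_comm]
        exact Nat.eq_of_beq_eq_true (hall n hn1)
      · exact h2 m hm1

theorem gramN_spec {ns : List ℕ} (h : gramN ns = true) : GramP (ns.map decL) := by
  intro g hg
  obtain ⟨n, hn, rfl⟩ := List.mem_map.mp hg
  obtain ⟨h8, h4⟩ := gramN_pairs ns h n hn
  refine ⟨by rw [decL_length], ?_, ?_⟩
  · obtain ⟨k, hk⟩ := dotL_decL n n
    omega
  · intro g' hg'
    obtain ⟨m, hm, rfl⟩ := List.mem_map.mp hg'
    have h4' := h4 m hm
    obtain ⟨k, hk⟩ := dotL_decL n m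
    omega

/-! ### Parity words of packed generators -/

/-- The exclusive or of the words of a list selected by the bits of a mask. -/
def xorSel : List ℕ → ℕ → ℕ
  | [], _ => 0
  | g :: gs, m => (if m % 2 = 1 then g else 0) ^^^ xorSel gs (m / 2)

theorem inSpan_xorSel : ∀ (gs : List ℕ) (m : ℕ), InSpan gs (xorSel gs m) := by
  intro gs
  induction gs with
  | nil => intro m; rfl
  | cons g gs ih =>
    intro m
    rw [xorSel]
    split_ifs
    · right
      rw [Nat.xor_comm g, Nat.xor_assoc, Nat.xor_self, Nat.xor_zero]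
      exact ih _
    · left
      rw [Nat.zero_xor]
      exact ih _

/-- The parity check of a packed generator: its odd coordinates are recorded by the word
selected by the mask. -/
def parN (pg : List ℕ) (n m : ℕ) : Bool :=
  (List.range 56).all (fun q => n.testBit (6 * q) == (xorSel pg m).testBit q)

theorem parN_spec {ns pg ms : List ℕ} (h : all2 (parN pg) ns ms = true) :
    ∀ g ∈ ns.map decL, ∃ w, InSpan pg w ∧ IsPar (ofL g) w := by
  intro g hg
  obtain ⟨n, hn, rfl⟩ := List.mem_map.mp hg
  obtain ⟨m, hm⟩ := all2_spec _ _ _ h n hn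
  unfold parN at hm
  rw [List.all_eq_true] at hm
  refine ⟨xorSel pg m, inSpan_xorSel pg m, ?_⟩
  intro q hq
  have h1 := hm q (List.mem_range.mpr hq)
  rw [beq_iff_eq] at h1
  rw [ofL_decL, coord_ofN n hq, ← h1, ← dig_odd]
  omega

/-- The check that any two coordinates are separated modulo 2 by a packed generator. -/
def colsN (ns : List ℕ) : Bool :=
  (List.range 56).all (fun a => (List.range 56).all (fun b => Nat.beq a b
    || ns.any (fun n => n.testBit (6 * a) != n.testBit (6 * b))))

theorem colsN_spec {ns : List ℕ} (h : colsN ns = true) : ColsP (ns.map decL) := by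
  intro a ha b hb hab
  unfold colsN at h
  rw [List.all_eq_true] at h
  have h1 := h a (List.mem_range.mpr ha)
  rw [List.all_eq_true] at h1
  have h2 := h1 b (List.mem_range.mpr hb)
  rw [Bool.or_eq_true] at h2
  rcases h2 with h2 | h2
  · exact absurd (Nat.eq_of_beq_eq_true h2) hab
  · rw [List.any_eq_true] at h2
    obtain ⟨n, hn, hne⟩ := h2
    refine ⟨decL n, List.mem_map_of_mem hn, ?_⟩
    rw [decL_getD n ha, decL_getD n hb]
    have ha' := dig_odd n a
    have hb' := dig_odd n b
    have hne' : n.testBit (6 * a) ≠ n.testBit (6 * b) := by simpa using hne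
    cases h3 : n.testBit (6 * a) <;> cases h4 : n.testBit (6 * b) <;>
      simp only [h3, h4, Bool.false_eq_true, iff_false, iff_true, ne_eq, not_true_eq_false,
        reduceCtorEq, not_false_eq_true] at ha' hb' hne' <;> omega

/-! ### Splitting the enumeration by blocks -/

theorem inSpan_append : ∀ (l1 l2 : List ℕ) (w : ℕ), InSpan (l1 ++ l2) w →
    ∃ w1 w2, InSpan l1 w1 ∧ InSpan l2 w2 ∧ w = w1 ^^^ w2 := by
  intro l1
  induction l1 with
  | nil =>
    intro l2 w h
    exact ⟨0, w, rfl, h, (Nat.zero_xor w).symm⟩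
  | cons g l1 ih =>
    intro l2 w h
    rcases h with h | h
    · obtain ⟨w1, w2, h1, h2, rfl⟩ := ih l2 w h
      exact ⟨w1, w2, Or.inl h1, h2, rfl⟩
    · obtain ⟨w1, w2, h1, h2, he⟩ := ih l2 _ h
      refine ⟨w1 ^^^ g, w2, Or.inr ?_, h2, ?_⟩
      · rw [Nat.xor_assoc, Nat.xor_self, Nat.xor_zero]; exact h1
      · have : w = w ^^^ g ^^^ g := by rw [Nat.xor_assoc, Nat.xor_self, Nat.xor_zero]
        rw [this, he, Nat.xor_assoc, Nat.xor_comm w2 g, ← Nat.xor_assoc]

/-- The byte number `j` of a word. -/
def byteOf (w j : ℕ) : ℕ := (w >>> (8 * j)) &&& 255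

theorem tbS_eq (w j : ℕ) : tbS w j = tb (byteOf w j) := rfl

theorem byteOf_lt (w j : ℕ) : byteOf w j < 256 := by
  have := Nat.and_le_right (n := w >>> (8 * j)) (m := 255)
  unfold byteOf; omega

theorem byteOf_xor (a t j : ℕ) : byteOf (a ^^^ t) j = byteOf a j ^^^ byteOf t j := by
  unfold byteOf
  rw [Nat.shiftRight_xor_distrib, Nat.and_xor_distrib_right]

/-- All the bytes of a word are `0` or `255`. -/
def bytesOK (t : ℕ) : Bool :=
  (List.range 7).all (fun j => Nat.beq (byteOf t j) 0 || Nat.beq (byteOf t j) 255)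

theorem tb_compl : ∀ b < 256, tb (b ^^^ 255) = 8 - tb b := by decide +kernel

theorem tb_le : ∀ b < 256, tb b ≤ 8 := by decide +kernel

/-- A lower bound for the weights of the words obtained from `a` by complementing bytes. -/
def mu (a : ℕ) : ℕ :=
  min (tbS a 0) (8 - tbS a 0) + min (tbS a 1) (8 - tbS a 1) + min (tbS a 2) (8 - tbS a 2)
    + min (tbS a 3) (8 - tbS a 3) + min (tbS a 4) (8 - tbS a 4) + min (tbS a 5) (8 - tbS a 5)
    + min (tbS a 6) (8 - tbS a 6)

theorem tbS_xor_ge {a t : ℕ} (ht : bytesOK t = true) {j : ℕ} (hj : j < 7) :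
    min (tbS a j) (8 - tbS a j) ≤ tbS (a ^^^ t) j := by
  unfold bytesOK at ht
  rw [List.all_eq_true] at ht
  have h1 := ht j (List.mem_range.mpr hj)
  rw [Bool.or_eq_true] at h1
  rw [tbS_eq, tbS_eq, byteOf_xor]
  rcases h1 with h1 | h1
  · rw [Nat.eq_of_beq_eq_true h1, Nat.xor_zero]
    exact Nat.min_le_left _ _
  · rw [Nat.eq_of_beq_eq_true h1, tb_compl _ (byteOf_lt a j)]
    exact Nat.min_le_right _ _

theorem mu_le_wt {a t : ℕ} (ht : bytesOK t = true) : mu a ≤ wt (a ^^^ t) := by
  unfold mu wt
  have h0 := tbS_xor_ge (a := a) ht (j := 0) (by norm_num)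
  have h1 := tbS_xor_ge (a := a) ht (j := 1) (by norm_num)
  have h2 := tbS_xor_ge (a := a) ht (j := 2) (by norm_num)
  have h3 := tbS_xor_ge (a := a) ht (j := 3) (by norm_num)
  have h4 := tbS_xor_ge (a := a) ht (j := 4) (by norm_num)
  have h5 := tbS_xor_ge (a := a) ht (j := 5) (by norm_num)
  have h6 := tbS_xor_ge (a := a) ht (j := 6) (by norm_num)
  omega

/-- The check applied to the combinations of the non-block words. -/
def chk12 (a : ℕ) : Bool := Nat.beq a 0 || Nat.ble 9 (mu a)

theorem chk_split {seven : List (ℕ × List ℤ)} {bl r12 : List ℕ}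
    (hblk : allW (chkW seven) bl 0 = true) (hbytes : allW bytesOK bl 0 = true)
    (h12 : allW chk12 r12 0 = true) :
    ∀ w, InSpan (bl ++ r12) w → chkW seven w = true := by
  intro w hw
  obtain ⟨t, a, ht, ha, rfl⟩ := inSpan_append bl r12 w hw
  have h1 := allW_spec _ bl 0 hblk t ht
  have h2 := allW_spec _ bl 0 hbytes t ht
  have h3 := allW_spec _ r12 0 h12 a ha
  rw [Nat.zero_xor] at h1 h2 h3
  unfold chk12 at h3
  rw [Bool.or_eq_true] at h3
  rcases h3 with h3 | h3
  · rw [Nat.eq_of_beq_eq_true h3, Nat.xor_zero]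
    exact h1
  · have h9 : 9 ≤ mu a := Nat.le_of_ble_eq_true h3
    have h4 := mu_le_wt (a := a) h2
    unfold chkW
    rw [Bool.or_eq_true, Bool.or_eq_true]
    right
    rw [Nat.xor_comm]
    exact Nat.ble_eq_true_of_le (le_trans h9 h4)

/-! ### Membership certificates by packed integers -/

/-- The value of a list of integers in base `2 ^ 20`. -/
def pzL : List ℤ → ℤ
  | [] => 0
  | a :: l => a + 1048576 * pzL l

theorem pzL_eq (l : List ℤ) (n : ℕ) (h : l.length ≤ n) :
    pzL l = ∑ q ∈ Finset.range n, l.getD q 0 * 1048576 ^ q := by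
  induction l generalizing n with
  | nil => simp [pzL]
  | cons a l ih =>
    cases n with
    | zero => simp at h
    | succ n =>
      rw [Finset.sum_range_succ', pzL, ih n (by simpa using h), Finset.mul_sum]
      simp only [List.getD_cons_succ, List.getD_cons_zero, pow_zero, mul_one]
      rw [add_comm]
      congr 1
      apply Finset.sum_congr rfl
      intro q _
      ring

/-- The value of a list of at most 56 integers in base `2 ^ 20`, as a sum. -/
def PZ (l : List ℤ) : ℤ := ∑ q ∈ Finset.range 56, l.getD q 0 * 1048576 ^ q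

theorem PZ_addL (l l' : List ℤ) : PZ (addL l l') = PZ l + PZ l' := by
  unfold PZ
  rw [← Finset.sum_add_distrib]
  apply Finset.sum_congr rfl
  intro q _
  rw [addL_getD]; ring

theorem PZ_scaleL (c : ℤ) (l : List ℤ) : PZ (scaleL c l) = c * PZ l := by
  unfold PZ
  rw [Finset.mul_sum]
  apply Finset.sum_congr rfl
  intro q _
  rw [scaleL_getD]; ring

theorem PZ_nil : PZ [] = 0 := by
  unfold PZ
  apply Finset.sum_eq_zero
  intro q _
  simp

/-- The combination of the packed values. -/
def pzComb : List ℤ → List ℤ → ℤ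
  | c :: cs, P :: Ps => c * P + pzComb cs Ps
  | [], _ => 0
  | _ :: _, [] => 0

theorem PZ_lincomb : ∀ (gs : List (List ℤ)) (cs : List ℤ),
    PZ (lincombL cs gs) = pzComb cs (gs.map PZ) := by
  intro gs
  induction gs with
  | nil =>
    intro cs
    cases cs with
    | nil => rw [lincombL, PZ_nil]; rfl
    | cons c cs => rw [lincombL, PZ_nil]; rfl
  | cons g gs ih =>
    intro cs
    cases cs with
    | nil => rw [lincombL, PZ_nil]; rfl
    | cons c cs =>
      rw [lincombL, PZ_addL, PZ_scaleL, ih cs]
      rfl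

theorem lincomb_bound : ∀ (gs : List (List ℤ)) (cs : List ℤ),
    (∀ c ∈ cs, |c| ≤ 32) → (∀ g ∈ gs, ∀ q, |g.getD q 0| ≤ 32) →
    ∀ q, |(lincombL cs gs).getD q 0| ≤ 1024 * (gs.length : ℤ) := by
  intro gs
  induction gs with
  | nil =>
    intro cs _ _ q
    cases cs with
    | nil => simp [lincombL]
    | cons c cs => simp [lincombL]
  | cons g gs ih =>
    intro cs hc hg q
    cases cs with
    | nil =>
      rw [lincombL]
      simp only [List.getD_nil, abs_zero, List.length_cons]
      positivity
    | cons c cs =>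
      rw [lincombL, addL_getD, scaleL_getD]
      have h1 := ih cs (fun c' hc' => hc c' (List.mem_cons_of_mem _ hc'))
        (fun g' hg' => hg g' (List.mem_cons_of_mem _ hg')) q
      have h2 := hc c (List.mem_cons_self ..)
      have h3 := hg g (List.mem_cons_self ..) q
      have h4 : |c * g.getD q 0| ≤ 1024 := by
        rw [abs_mul]
        calc |c| * |g.getD q 0| ≤ 32 * 32 :=
              mul_le_mul h2 h3 (abs_nonneg _) (by norm_num)
          _ = 1024 := by norm_num
      have h5 := abs_add_le (c * g.getD q 0) ((lincombL cs gs).getD q 0)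
      simp only [List.length_cons]
      push_cast
      linarith

theorem digits_unique (K : ℤ) (hK : 2 * K < 1048576) : ∀ (n : ℕ) (a b : ℕ → ℤ),
    (∀ q < n, |a q| ≤ K) → (∀ q < n, |b q| ≤ K) →
    ∑ q ∈ Finset.range n, a q * 1048576 ^ q = ∑ q ∈ Finset.range n, b q * 1048576 ^ q →
    ∀ q < n, a q = b q := by
  intro n
  induction n with
  | zero => intro a b _ _ _ q hq; omega
  | succ n ih =>
    intro a b ha hb h q hq
    rw [Finset.sum_range_succ', Finset.sum_range_succ'] at h
    simp only [pow_zero, mul_one] at h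
    have e1 : ∀ c : ℕ → ℤ, ∑ q ∈ Finset.range n, c (q + 1) * 1048576 ^ (q + 1)
        = 1048576 * ∑ q ∈ Finset.range n, c (q + 1) * 1048576 ^ q := by
      intro c
      rw [Finset.mul_sum]
      apply Finset.sum_congr rfl
      intro q _
      ring
    rw [e1 a, e1 b] at h
    have h0 : a 0 = b 0 := by
      have hd : (1048576 : ℤ) ∣ a 0 - b 0 :=
        ⟨∑ q ∈ Finset.range n, b (q + 1) * 1048576 ^ q
          - ∑ q ∈ Finset.range n, a (q + 1) * 1048576 ^ q, by linarith⟩
      have hlt : |a 0 - b 0| < 1048576 := by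
        have h1 := ha 0 (by omega)
        have h2 := hb 0 (by omega)
        have h3 := abs_sub (a 0) (b 0)
        linarith
      have := Int.eq_zero_of_abs_lt_dvd hd hlt
      linarith
    rcases Nat.eq_zero_or_pos q with rfl | hqpos
    · exact h0
    · have hrec : ∑ q ∈ Finset.range n, a (q + 1) * 1048576 ^ q
          = ∑ q ∈ Finset.range n, b (q + 1) * 1048576 ^ q := by
        rw [h0] at h
        have := add_right_cancel h
        exact mul_left_cancel₀ (by norm_num) this
      have := ih (fun q => a (q + 1)) (fun q => b (q + 1)) (fun q hq' => ha (q + 1) (by omega))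
        (fun q hq' => hb (q + 1) (by omega)) hrec (q - 1) (by omega)
      have e : q - 1 + 1 = q := by omega
      simpa [e] using this

/-- The check that the vector `v` is the combination of the packed generators with the packed
coefficients `cn`: bounded coordinates and equal packed values. -/
def certV (Ps : List ℤ) (v : RuVec) (cn : ℕ) : Bool :=
  (toL v).all (fun a => decide (-64 ≤ a ∧ a ≤ 64))
    && decide (pzL (toL v) = pzComb (decL cn) Ps)

theorem mem_of_certV {ns : List ℕ} (hlen : ns.length ≤ 56) {Ps : List ℤ}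
    (hP : Ps = ns.map (fun n => pzL (decL n))) {v : RuVec} {cn : ℕ}
    (h : certV Ps v cn = true) : v ∈ latM (ns.map decL) := by
  unfold certV at h
  rw [Bool.and_eq_true, List.all_eq_true] at h
  obtain ⟨hb, he⟩ := h
  have he' := of_decide_eq_true he
  have hPZ : ∀ l : List ℤ, l.length ≤ 56 → pzL l = PZ l := fun l hl => pzL_eq l 56 hl
  have hPs : Ps = (ns.map decL).map PZ := by
    rw [hP, List.map_map]
    apply List.map_congr_left
    intro n _
    exact hPZ _ (by rw [decL_length])
  rw [hPs, ← PZ_lincomb, hPZ _ (by simp [toL])] at he'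
  have hva : ∀ q < 56, |(toL v).getD q 0| ≤ 57344 := by
    intro q hq
    have hmem : (toL v).getD q 0 ∈ toL v := by
      rw [List.getD_eq_getElem _ _ (by simpa [toL] using hq)]
      exact List.getElem_mem _
    have := of_decide_eq_true (hb _ hmem)
    rw [abs_le]; constructor <;> linarith [this.1, this.2]
  have hvb : ∀ q < 56, |(lincombL (decL cn) (ns.map decL)).getD q 0| ≤ 57344 := by
    intro q _
    have h1 := lincomb_bound (ns.map decL) (decL cn)
      (fun c hc => by
        obtain ⟨i, hi, rfl⟩ := List.getElem_of_mem hc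
        have := decL_getD_abs cn i
        rwa [List.getD_eq_getElem _ _ hi] at this)
      (fun g hg q => by
        obtain ⟨n, _, rfl⟩ := List.mem_map.mp hg
        exact decL_getD_abs n q) q
    have h2 : ((ns.map decL).length : ℤ) ≤ 56 := by
      rw [List.length_map]; exact_mod_cast hlen
    linarith
  have hd := digits_unique 57344 (by norm_num) 56 _ _ hva hvb he'
  have hv : v = ofL (lincombL (decL cn) (ns.map decL)) := by
    rw [← ofL_toL v]
    unfold ofL
    exact ofF_congr hd
  rw [hv]
  exact lincomb_mem _ _ _ (fun g hg => ofL_mem_latM hg)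

/-- A map that is additive and maps the packed generators into the lattice, as certified by
packed coefficients, preserves the lattice. -/
theorem map_mem_latN {ns : List ℕ} (hlen : ns.length ≤ 56) {Ps : List ℤ}
    (hP : Ps = ns.map (fun n => pzL (decL n))) (φ : RuVec → RuVec)
    (hadd : ∀ x y, φ (x + y) = φ x + φ y) (hneg : ∀ x, φ (-x) = -φ x)
    (cert : List ℕ)
    (hc : all2 (fun n cn => certV Ps (φ (ofN n)) cn) ns cert = true) :
    ∀ x ∈ latM (ns.map decL), φ x ∈ latM (ns.map decL) := by
  intro x hx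
  have h0 : φ 0 = 0 := by
    have := hadd 0 0
    rw [add_zero] at this
    exact left_eq_add.mp this
  induction hx using AddSubgroup.closure_induction with
  | mem x h =>
    obtain ⟨g, hg, rfl⟩ := h
    obtain ⟨n, hn, rfl⟩ := List.mem_map.mp hg
    obtain ⟨cn, hcn⟩ := all2_spec _ _ _ hc n hn
    rw [ofL_decL]
    exact mem_of_certV hlen hP hcn
  | zero => rw [h0]; exact zero_mem _
  | add x y _ _ ihx ihy => rw [hadd]; exact add_mem ihx ihy
  | neg x _ ih => rw [hneg]; exact neg_mem ih

end Cfsg.Agent.H93.Ru
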