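import Mathlib
import Cfsg.Prelude.Def_Spor_Ru
import Cfsg.Agent.H93.RuLat
import Cfsg.Agent.H93.RuData

/-!
Kernel checks of the tables of `RuData` (part 1).
-/

set_option autoImplicit false

namespace Cfsg.Agent.H93.Ru

open Cfsg Cfsg.Spor


theorem gram_ok : gramN gensN = true := by decide +kernel

theorem par_ok : all2 (parN (blocksW ++ r12W)) gensN masksL = true := by decide +kernel

theorem cols_ok : colsN gensN = true := by decide +kernel

theorem seven_ok : sevenL.all (sevenOK gensL) = true := by decide +kernel

theorem blk_ok : allW (chkW sevenL) blocksW 0 = true := by decide +kernel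

theorem bytes_ok : allW bytesOK blocksW 0 = true := by decide +kernel

theorem r12_ok : allW chk12 r12W 0 = true := by decide +kernel

theorem len_ok : gensN.length ≤ 56 := by decide

theorem p_ok : gensP = gensN.map (fun n => pzL (decL n)) := by decide +kernel

theorem certT_ok : all2 (fun v cn => certV gensP v cn) ruTable certT = true := by decide +kernel

end Cfsg.Agent.H93.Ru
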