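import Mathlib
import Cfsg.Prelude.Def_Spor_Ru
import Cfsg.Agent.H93.RuLat
import Cfsg.Agent.H93.RuData

/-!
Kernel checks of the tables of `RuData` (part 3).
-/

set_option autoImplicit false

namespace Cfsg.Agent.H93.Ru

open Cfsg Cfsg.Spor


theorem certS_ok : all2 (fun n cn => certV gensP (ruSign (ofN n)) cn) gensN certS = true := by
  decide +kernel

theorem certH_ok : all2 (fun n cn => certV gensP (ruShift (ofN n)) cn) gensN certH = true := by
  decide +kernel

theorem certI_ok : all2 (fun n cn => certV gensP (gI • ofN n) cn) gensN certI = true := by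
  decide +kernel

end Cfsg.Agent.H93.Ru
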