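import Mathlib
import Cfsg.Prelude.Def_Spor_Ru
import Cfsg.Agent.H93.RuLat
import Cfsg.Agent.H93.RuData
import Cfsg.Agent.H93.RuCheck1
import Cfsg.Agent.H93.RuCheck2
import Cfsg.Agent.H93.RuCheck3

/-!
The rank-28 Gaussian lattice `Cfsg.Spor.ruLattice` as stored: all norms are multiples of 8,
none equals 8, and the minimal norm of a nonzero vector is 16.
-/

set_option autoImplicit false

namespace Cfsg.Agent.H93.Ru

open Cfsg Cfsg.Spor

theorem ruRj_add (x y : RuVec) : ruRj (x + y) = ruRj x + ruRj y := by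
  funext ⟨n, t⟩
  fin_cases t <;> simp [ruRj, mul_add, add_comm]

theorem ruRj_neg (x : RuVec) : ruRj (-x) = -ruRj x := by
  funext ⟨n, t⟩
  fin_cases t <;> simp [ruRj]

theorem ruRk_add (x y : RuVec) : ruRk (x + y) = ruRk x + ruRk y := by
  funext ⟨n, t⟩
  fin_cases t <;> simp [ruRk, mul_add, add_comm]

theorem ruRk_neg (x : RuVec) : ruRk (-x) = -ruRk x := by
  funext ⟨n, t⟩
  fin_cases t <;> simp [ruRk]

theorem ruSign_add (x y : RuVec) : ruSign (x + y) = ruSign x + ruSign y := by
  funext p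
  simp only [ruSign, Pi.add_apply]
  split_ifs <;> simp [add_comm]

theorem ruSign_neg (x : RuVec) : ruSign (-x) = -ruSign x := by
  funext p
  simp only [ruSign, Pi.neg_apply]
  split_ifs <;> simp

theorem ruShift_add (x y : RuVec) : ruShift (x + y) = ruShift x + ruShift y := rfl

theorem ruShift_neg (x : RuVec) : ruShift (-x) = -ruShift x := rfl

theorem latM_closed : latM gensL ∈ ruClosed := by
  refine ⟨fun v hv => ?_, fun v hv => ⟨?_, ?_, ?_, ?_, ?_⟩⟩
  · obtain ⟨cn, hcn⟩ := all2_spec _ _ _ certT_ok v hv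
    exact mem_of_certV len_ok p_ok hcn
  · exact map_mem_latN len_ok p_ok (fun v => gI • v) (fun x y => smul_add _ _ _)
      (fun x => smul_neg _ _) certI certI_ok v hv
  · exact map_mem_latN len_ok p_ok ruRj ruRj_add ruRj_neg certJ certJ_ok v hv
  · exact map_mem_latN len_ok p_ok ruRk ruRk_add ruRk_neg certK certK_ok v hv
  · exact map_mem_latN len_ok p_ok ruSign ruSign_add ruSign_neg certS certS_ok v hv
  · exact map_mem_latN len_ok p_ok ruShift ruShift_add ruShift_neg certH certH_ok v hv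

theorem ruLattice_le : ruLattice ≤ latM gensL := sInf_le latM_closed

theorem ru_dvd : ∀ x ∈ ruLattice, (8 : ℤ) ∣ ruNorm x :=
  fun x hx => dvd_ruNorm (gramN_spec gram_ok) x (ruLattice_le hx)

theorem ru_ne8 : ∀ x ∈ ruLattice, ruNorm x ≠ 8 :=
  fun x hx => no8 (gramN_spec gram_ok) (parN_spec par_ok) (colsN_spec cols_ok) seven_ok
    (chk_split blk_ok bytes_ok r12_ok) x (ruLattice_le hx)

theorem ru_min : ∀ x ∈ ruLattice, x ≠ 0 → 16 ≤ ruNorm x := by
  intro x hx h0
  obtain ⟨k, hk⟩ := ru_dvd x hx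
  have h8 := ru_ne8 x hx
  have hpos := ruNorm_pos h0
  omega

theorem table_length : 0 < ruTable.length := by decide

/-- The first table vector. -/
def v0 : RuVec := ruTable[0]'table_length

theorem v0_norm : ((List.range 56).map (fun q => coord v0 q ^ 2)).sum = 16 := by decide +kernel

theorem ru_exists : ∃ x ∈ ruLattice, ruNorm x = 16 := by
  refine ⟨v0, ?_, ?_⟩
  · unfold ruLattice
    rw [AddSubgroup.mem_sInf]
    intro L hL
    exact hL.1 _ (List.getElem_mem _)
  · rw [ruNorm_eq, ← list_sum_range]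
    exact v0_norm

end Cfsg.Agent.H93.Ru
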