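import Mathlib
import Cfsg.Agent.H52.SmDefs

/-!
# SM-ELEM (piece of S2772, helper52's project): if `|Q| = 8` then `Q` is elementary abelian
-/

set_option autoImplicit false

namespace Cfsg.Agent.H93.Sm

open Cfsg.Agent.H52.Sm

universe u

/-- the subgroup of fixed points of an endomorphism -/
def elFix {A : Type u} [Group A] (σ : A →* A) : Subgroup A where
  carrier := {a | σ a = a}
  mul_mem' := by
    intro a b ha hb
    simp only [Set.mem_setOf_eq] at *
    rw [map_mul, ha, hb]
  one_mem' := map_one σ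
  inv_mem' := by
    intro a ha
    simp only [Set.mem_setOf_eq] at *
    rw [map_inv, ha]

theorem mem_elFix {A : Type u} [Group A] (σ : A →* A) (a : A) : a ∈ elFix σ ↔ σ a = a :=
  Iff.rfl

theorem el_fix_mod {A : Type u} [Group A] [Finite A] (σ : A →* A)
    (h3 : ∀ a, σ (σ (σ a)) = a) (Y : Subgroup A) (hY : ∀ a ∈ Y, σ a ∈ Y) :
    Nat.card Y ≡ Nat.card (Y ⊓ elFix σ : Subgroup A) [MOD 3] := by
  classical
  haveI : Fact (Nat.Prime 3) := ⟨by norm_num⟩
  haveI : Fintype Y := Fintype.ofFinite Y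
  let f : Function.End Y := fun a => ⟨σ a.1, hY a.1 a.2⟩
  have hf : f ^ 3 ^ 1 = 1 := by
    have e : f ^ 3 ^ 1 = f * f * f := by
      rw [pow_one, pow_succ, pow_succ, pow_one]
    rw [e]
    funext a
    apply Subtype.ext
    exact h3 a.1
  have key := Equiv.Perm.card_fixedPoints_modEq (p := 3) (n := 1) hf
  rw [← Nat.card_eq_fintype_card, ← Nat.card_eq_fintype_card] at key
  have e : Nat.card (Function.fixedPoints f) = Nat.card (Y ⊓ elFix σ : Subgroup A) := by
    apply Nat.card_congr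
    exact
      { toFun := fun a => ⟨a.1.1, Subgroup.mem_inf.mpr ⟨a.1.2, congrArg Subtype.val a.2⟩⟩
        invFun := fun b => ⟨⟨b.1, (Subgroup.mem_inf.mp b.2).1⟩,
          Subtype.ext (Subgroup.mem_inf.mp b.2).2⟩
        left_inv := fun _ => rfl
        right_inv := fun _ => rfl }
  rw [e] at key
  exact key

theorem el_div8 (n : ℕ) (h : n ∣ 8) : n = 1 ∨ n = 2 ∨ n = 4 ∨ n = 8 := by
  have hle : n ≤ 8 := Nat.le_of_dvd (by norm_num) h
  interval_cases n <;> revert h <;> decide

theorem el_ar8 (n : ℕ) (h : n ∣ 8) (hmod : 8 ≡ n [MOD 3]) (h8 : n ≠ 8) : n = 2 := by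
  have hle : n ≤ 8 := Nat.le_of_dvd (by norm_num) h
  interval_cases n <;> revert h hmod h8 <;> decide

theorem el_ar2 (k : ℕ) (hk : k ∣ 2) (hmod : 2 ≡ k [MOD 3]) : k = 2 := by
  have hle : k ≤ 2 := Nat.le_of_dvd (by norm_num) hk
  interval_cases k <;> revert hk hmod <;> decide

theorem el_ar4 (k : ℕ) (hk : k ∣ 2) (hmod : 4 ≡ k [MOD 3]) : k = 1 := by
  have hle : k ≤ 2 := Nat.le_of_dvd (by norm_num) hk
  interval_cases k <;> revert hk hmod <;> decide

/-- an abelian group of order 8 with a nontrivial automorphism of order 3 is elementary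
abelian -/
theorem el_abs {A : Type u} [Group A] [Finite A] (hcomm : ∀ a b : A, a * b = b * a)
    (h8 : Nat.card A = 8) (σ : A →* A) (h3 : ∀ a, σ (σ (σ a)) = a) (hne : ∃ a, σ a ≠ a) :
    ∀ a : A, a * a = 1 := by
  classical
  have hmod := el_fix_mod σ h3
  have hdvd : ∀ Y : Subgroup A, Nat.card Y ∣ 8 :=
    fun Y => h8 ▸ Subgroup.card_subgroup_dvd_card Y
  have hF2 : Nat.card (elFix σ) = 2 := by
    have h1 := hmod ⊤ (fun _ _ => Subgroup.mem_top _)
    rw [top_inf_eq, Subgroup.card_top, h8] at h1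
    refine el_ar8 _ (hdvd _) h1 ?_
    intro h
    have ht : elFix σ = ⊤ := Subgroup.eq_top_of_card_eq _ (h.trans h8.symm)
    obtain ⟨a, ha⟩ := hne
    exact ha ((mem_elFix σ a).mp (ht ▸ Subgroup.mem_top a))
  let sq : A →* A :=
    { toFun := fun a => a * a
      map_one' := by simp
      map_mul' := by
        intro a b
        calc a * b * (a * b) = a * (b * a) * b := by group
          _ = a * (a * b) * b := by rw [hcomm b a]
          _ = a * a * (b * b) := by group }
  have hsq : ∀ a, sq a = a * a := fun _ => rfl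
  have hXΩ : Nat.card sq.range * Nat.card sq.ker = 8 := by
    have := Subgroup.card_mul_index sq.ker
    rw [Subgroup.index_ker, h8] at this
    rw [mul_comm]; exact this
  have hXinv : ∀ a ∈ sq.range, σ a ∈ sq.range := by
    rintro a ⟨b, rfl⟩
    exact ⟨σ b, by rw [hsq, hsq, map_mul]⟩
  have hΩinv : ∀ a ∈ sq.ker, σ a ∈ sq.ker := by
    intro a ha
    rw [MonoidHom.mem_ker] at ha ⊢
    rw [hsq] at ha ⊢
    rw [← map_mul, ha, map_one]
  have hX := hmod sq.range hXinv
  have hΩ := hmod sq.ker hΩinv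
  have hXF : Nat.card (sq.range ⊓ elFix σ : Subgroup A) ∣ 2 :=
    hF2 ▸ Subgroup.card_dvd_of_le inf_le_right
  have hΩF : Nat.card (sq.ker ⊓ elFix σ : Subgroup A) ∣ 2 :=
    hF2 ▸ Subgroup.card_dvd_of_le inf_le_right
  haveI : Fact (Nat.Prime 2) := ⟨Nat.prime_two⟩
  rcases el_div8 _ (hdvd sq.range) with h | h | h | h
  · intro a
    have hb := Subgroup.eq_bot_of_card_eq _ h
    have hm : sq a ∈ sq.range := ⟨a, rfl⟩
    rw [hb, Subgroup.mem_bot] at hm
    exact hm
  · exfalso
    rw [h] at hX hXΩ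
    have hΩ4 : Nat.card sq.ker = 4 := by omega
    rw [hΩ4] at hΩ
    have e1 : Nat.card (sq.range ⊓ elFix σ : Subgroup A) = 2 := el_ar2 _ hXF hX
    have e2 : Nat.card (sq.ker ⊓ elFix σ : Subgroup A) = 1 := el_ar4 _ hΩF hΩ
    have hXleF : sq.range ≤ elFix σ := by
      have hh : sq.range ⊓ elFix σ = sq.range := by
        apply Subgroup.eq_of_le_of_card_ge inf_le_left
        rw [e1, h]
      rw [← hh]; exact inf_le_right
    have hXleΩ : sq.range ≤ sq.ker := by
      intro x hx
      rw [MonoidHom.mem_ker, hsq]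
      have hp := pow_card_eq_one' (G := sq.range) (x := ⟨x, hx⟩)
      rw [h] at hp
      have h2 := congrArg Subtype.val hp
      simpa [pow_two] using h2
    have hbot : sq.range ≤ sq.ker ⊓ elFix σ := le_inf hXleΩ hXleF
    rw [Subgroup.eq_bot_of_card_eq _ e2] at hbot
    have hd := Subgroup.card_dvd_of_le hbot
    rw [h, Subgroup.card_bot] at hd
    omega
  · exfalso
    rw [h] at hX hXΩ
    have hΩ2 : Nat.card sq.ker = 2 := by omega
    rw [hΩ2] at hΩ
    have e1 : Nat.card (sq.ker ⊓ elFix σ : Subgroup A) = 2 := el_ar2 _ hΩF hΩ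
    have e2 : Nat.card (sq.range ⊓ elFix σ : Subgroup A) = 1 := el_ar4 _ hXF hX
    have hΩleF : sq.ker ≤ elFix σ := by
      have hh : sq.ker ⊓ elFix σ = sq.ker := by
        apply Subgroup.eq_of_le_of_card_ge inf_le_left
        rw [e1, hΩ2]
      rw [← hh]; exact inf_le_right
    have h2dvd : 2 ∣ Nat.card sq.range := by rw [h]; norm_num
    obtain ⟨x, hx⟩ := exists_prime_orderOf_dvd_card' 2 h2dvd
    have hx2 : x ^ 2 = 1 := by rw [← hx]; exact pow_orderOf_eq_one x
    have hx1 : x ≠ 1 := by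
      intro h'; rw [h', orderOf_one] at hx; omega
    have hxΩ : (x : A) ∈ sq.ker := by
      rw [MonoidHom.mem_ker, hsq]
      have h2 := congrArg Subtype.val hx2
      simpa [pow_two] using h2
    have hxm : (x : A) ∈ sq.range ⊓ elFix σ := ⟨x.2, hΩleF hxΩ⟩
    rw [Subgroup.eq_bot_of_card_eq _ e2, Subgroup.mem_bot] at hxm
    exact hx1 (Subtype.ext hxm)
  · exfalso
    rw [h] at hXΩ
    have hΩ1 : Nat.card sq.ker = 1 := by omega
    have h2dvd : 2 ∣ Nat.card A := by rw [h8]; norm_num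
    obtain ⟨x, hx⟩ := exists_prime_orderOf_dvd_card' 2 h2dvd
    have hx2 : x ^ 2 = 1 := by rw [← hx]; exact pow_orderOf_eq_one x
    have hx1 : x ≠ 1 := by
      intro h'; rw [h', orderOf_one] at hx; omega
    have hxΩ : x ∈ sq.ker := by
      rw [MonoidHom.mem_ker, hsq, ← pow_two]; exact hx2
    rw [Subgroup.eq_bot_of_card_eq _ hΩ1, Subgroup.mem_bot] at hxΩ
    exact hx1 hxΩ

/-- SM-ELEM -/
theorem elem : StElem.{u} := by
  intro M _ _ Q S hyp hQ8
  classical
  obtain ⟨f, hfs, hfk⟩ := hyp.dih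
  haveI := hyp.Qn
  have hM : Nat.card M = 48 := by
    have h1 := Subgroup.card_mul_index f.ker
    rw [Subgroup.index_ker, MonoidHom.range_eq_top.mpr hfs, Subgroup.card_top,
      DihedralGroup.nat_card, hfk, hQ8] at h1
    omega
  have hS : Nat.card S = 16 := by rw [hyp.card, hQ8]
  have hZ : ∀ z ∈ S ⊓ Subgroup.centralizer (S : Set M), z ∈ Q ∧ ∀ q ∈ Q, q * z = z * q := by
    intro z hz
    have hzc : z ∈ Subgroup.centralizer (Q : Set M) := by
      rw [Subgroup.mem_centralizer_iff]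
      intro q hq
      exact (Subgroup.mem_centralizer_iff.mp hz.2) q (hyp.QS hq)
    exact ⟨hyp.cent hzc, fun q hq => (Subgroup.mem_centralizer_iff.mp hzc) q hq⟩
  obtain ⟨z, hzS, hzc, hz1⟩ : ∃ z ∈ S, (∀ s ∈ S, s * z = z * s) ∧ z ≠ 1 := by
    have hpS : IsPGroup 2 S := IsPGroup.of_card (n := 4) (by rw [hS]; norm_num)
    haveI : Nontrivial S := by
      rw [← Finite.one_lt_card_iff_nontrivial, hS]; norm_num
    haveI := hpS.center_nontrivial
    obtain ⟨c, hc⟩ := exists_ne (1 : Subgroup.center S)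
    refine ⟨c.1.1, c.1.2, ?_, ?_⟩
    · intro s hs
      have := Subgroup.mem_center_iff.mp c.2 ⟨s, hs⟩
      exact congrArg Subtype.val this
    · intro h
      apply hc
      apply Subtype.ext; apply Subtype.ext; exact h
  have hzZ : z ∈ S ⊓ Subgroup.centralizer (S : Set M) :=
    ⟨hzS, Subgroup.mem_centralizer_iff.mpr hzc⟩
  have hzQ := hZ z hzZ
  -- Step 1: `Q` is abelian
  have hcomm : ∀ a b : Q, a * b = b * a := by
    by_contra hnc
    have hCdvd : Nat.card (Subgroup.center Q) ∣ 8 := hQ8 ▸ Subgroup.card_subgroup_dvd_card _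
    have hcen : ∀ w : M, ∀ hw : w ∈ Q, (∀ q ∈ Q, q * w = w * q) →
        (⟨w, hw⟩ : Q) ∈ Subgroup.center Q := by
      intro w hw hwc
      rw [Subgroup.mem_center_iff]
      intro g
      apply Subtype.ext
      exact hwc g.1 g.2
    have hz0 : (⟨z, hzQ.1⟩ : Q) ∈ Subgroup.center Q := hcen z hzQ.1 hzQ.2
    have hz0ne : (⟨⟨z, hzQ.1⟩, hz0⟩ : Subgroup.center Q) ≠ 1 := by
      intro h
      apply hz1
      exact congrArg (fun c : Subgroup.center Q => (c.1.1 : M)) h
    rcases el_div8 _ hCdvd with h | h | h | h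
    · have hb := Subgroup.eq_bot_of_card_eq _ h
      have hm : (⟨z, hzQ.1⟩ : Q) ∈ (⊥ : Subgroup Q) := hb ▸ hz0
      apply hz1
      exact congrArg Subtype.val (Subgroup.mem_bot.mp hm)
    · apply hyp.zs
      obtain ⟨u, hu1, hu2⟩ := (Nat.card_eq_two_iff' (1 : Subgroup.center Q)).mp h
      have huz : (⟨⟨z, hzQ.1⟩, hz0⟩ : Subgroup.center Q) = u := hu2 _ hz0ne
      -- every central element of `Q` is `1` or `z`
      have honly : ∀ w : M, ∀ hw : w ∈ Q, (∀ q ∈ Q, q * w = w * q) → w ≠ 1 → w = z := by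
        intro w hw hwc hw1
        have e1 : (⟨⟨w, hw⟩, hcen w hw hwc⟩ : Subgroup.center Q) = u := hu2 _ (by
          intro h'
          apply hw1
          exact congrArg (fun c : Subgroup.center Q => (c.1.1 : M)) h')
        exact congrArg (fun c : Subgroup.center Q => (c.1.1 : M)) (e1.trans huz.symm)
      have hconj : ∀ m : M, m * z * m⁻¹ = z := by
        intro m
        have hcQ : m * z * m⁻¹ ∈ Q := hyp.Qn.conj_mem z hzQ.1 m
        apply honly _ hcQ
        · intro g hg
          have hg' : m⁻¹ * g * m ∈ Q := by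
            have := hyp.Qn.conj_mem g hg m⁻¹
            simpa using this
          have hc := hzQ.2 _ hg'
          calc g * (m * z * m⁻¹) = m * ((m⁻¹ * g * m) * z) * m⁻¹ := by group
            _ = m * (z * (m⁻¹ * g * m)) * m⁻¹ := by rw [hc]
            _ = m * z * m⁻¹ * g := by group
        · intro h'
          apply hz1
          have hh : z = m⁻¹ * (m * z * m⁻¹) * m := by group
          rw [hh, h']; group
      intro m w hw
      by_cases hw1 : w = 1
      · rw [hw1]
        have : m * (1 : M) * m⁻¹ = 1 := by group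
        rw [this]
        exact Subgroup.one_mem _
      · have hwQ := hZ w hw
        have hwz : w = z := honly w hwQ.1 hwQ.2 hw1
        rw [hwz, hconj m]
        exact hzZ
    · apply hnc
      have hidx : (Subgroup.center Q).index = 2 := by
        have := Subgroup.card_mul_index (Subgroup.center Q)
        rw [h, hQ8] at this
        omega
      intro a b
      by_cases ha : a ∈ Subgroup.center Q
      · exact (Subgroup.mem_center_iff.mp ha b).symm
      · by_cases hb : b ∈ Subgroup.center Q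
        · exact Subgroup.mem_center_iff.mp hb a
        · have hab : a⁻¹ * b ∈ Subgroup.center Q := by
            rw [Subgroup.mul_mem_iff_of_index_two hidx]
            constructor
            · intro h'; exact absurd ((Subgroup.inv_mem_iff _).mp h') ha
            · intro h'; exact absurd h' hb
          have hc := Subgroup.mem_center_iff.mp hab a
          calc a * b = a * (a * (a⁻¹ * b)) := by group
            _ = a * ((a⁻¹ * b) * a) := by rw [hc]
            _ = b * a := by group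
    · apply hnc
      have htop := Subgroup.eq_top_of_card_eq _ (h.trans hQ8.symm)
      intro a b
      have ha : a ∈ Subgroup.center Q := htop ▸ Subgroup.mem_top a
      exact (Subgroup.mem_center_iff.mp ha b).symm
  -- Step 2: an element of order 3 acting nontrivially
  obtain ⟨x0, hx0⟩ := hfs (DihedralGroup.r 1)
  have hy3 : (x0 ^ 16) ^ 3 = 1 := by
    rw [← pow_mul]
    have : 16 * 3 = Nat.card M := by rw [hM]
    rw [this]
    exact pow_card_eq_one'
  have hfy : f (x0 ^ 16) = DihedralGroup.r 1 := by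
    rw [map_pow, hx0, DihedralGroup.r_one_pow]
    exact congrArg DihedralGroup.r (by decide)
  have hyQ : x0 ^ 16 ∉ Q := by
    intro h
    rw [← hfk, MonoidHom.mem_ker, hfy] at h
    exact absurd h (by decide)
  obtain ⟨q0, hq0Q, hq0⟩ : ∃ q ∈ Q, x0 ^ 16 * q * (x0 ^ 16)⁻¹ ≠ q := by
    by_contra hcon
    push_neg at hcon
    apply hyQ
    apply hyp.cent
    rw [Subgroup.mem_centralizer_iff]
    intro q hq
    have hh := hcon q hq
    calc q * x0 ^ 16 = (x0 ^ 16 * q * (x0 ^ 16)⁻¹) * x0 ^ 16 := by rw [hh]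
      _ = x0 ^ 16 * q := by group
  let σ : Q →* Q :=
    { toFun := fun a => ⟨x0 ^ 16 * a.1 * (x0 ^ 16)⁻¹, hyp.Qn.conj_mem a.1 a.2 (x0 ^ 16)⟩
      map_one' := by
        apply Subtype.ext
        show x0 ^ 16 * (1 : M) * (x0 ^ 16)⁻¹ = 1
        group
      map_mul' := by
        intro a b
        apply Subtype.ext
        show x0 ^ 16 * (a.1 * b.1) * (x0 ^ 16)⁻¹
          = x0 ^ 16 * a.1 * (x0 ^ 16)⁻¹ * (x0 ^ 16 * b.1 * (x0 ^ 16)⁻¹)
        group }
  have hσ3 : ∀ a, σ (σ (σ a)) = a := by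
    intro a
    apply Subtype.ext
    show x0 ^ 16 * (x0 ^ 16 * (x0 ^ 16 * a.1 * (x0 ^ 16)⁻¹) * (x0 ^ 16)⁻¹) * (x0 ^ 16)⁻¹ = a.1
    have h1 : x0 ^ 16 * (x0 ^ 16 * (x0 ^ 16 * a.1 * (x0 ^ 16)⁻¹) * (x0 ^ 16)⁻¹) * (x0 ^ 16)⁻¹
        = (x0 ^ 16) ^ 3 * a.1 * ((x0 ^ 16) ^ 3)⁻¹ := by group
    rw [h1, hy3]; group
  have hσne : ∃ a, σ a ≠ a := ⟨⟨q0, hq0Q⟩, fun h => hq0 (congrArg Subtype.val h)⟩
  intro x hx
  have hfin := el_abs hcomm hQ8 σ hσ3 hσne ⟨x, hx⟩
  exact congrArg Subtype.val hfin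

example : Cfsg.Agent.H52.Sm.StElem.{u} := elem

end Cfsg.Agent.H93.Sm
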