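import Cfsg.Agent.H93.U33Defs

set_option autoImplicit false

/-! Piece U-RKM of S3670: the spectrum of the orthogonality graph on the 63 non-isotropic points
(eigenvalues `6, 3, -1, -3`), from the first row of the powers of the adjacency matrix and the
transitivity of `SU₃(3)`. -/

namespace Cfsg.Agent.H93.U33

open Cfsg Cfsg.Agent.H6.G22 Cfsg.Agent.H6.L29

def adjTab : ℕ := 9371013156907075612587645619664443450495455162309096859722453596329935782639534456104010893559043301019485934419426475943797874566083455219387727317056444257530916204972448655618546112373176203281270450633665241558552848186585513232086788564325886668360382844010787122864520191170558820577466656611713586418558554961631517875826123928839789527696209790087326152555740327060106087004132103587902840350196739133926996863597649763700544788150415707489154348111051521954524748556081768322420312620703371966877243581864990142173206128073063120699879937799136518410435260619974872873644645468931315744970593292477882261859276995828033146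4272151110862926718923591413355341248792387932715999158589238246753127736138719248603829576656941854523943500195131857768196674322181979058292610144151023623939939111276725015216784661332652133384737099695383815369992093057362593084393768551105672754813416920152689134081891889188158125622674388872523667594701262045661572919029386678229033313145111228868078976293813538397989677199978277167824794271194559791156690618336318192049004241912640703821930734075906557167949967441914830233218921923114789452820284158714038918241303744383035674267992161223096469570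

/-- the tabulated adjacency -/
def adjB (i j : ℕ) : Bool := (adjTab >>> (63 * i + j)) &&& 1 == 1

set_option maxRecDepth 100000 in
theorem adjB_spec : ∀ i j : Fin 63, orth i j ↔ adjB i.val j.val = true := by decide +kernel

def row0 : List ℤ := [1, 0, 0, 0, 0, 0, 0, 0, 0, 0, 0, 0, 0, 0, 0, 0, 0, 0, 0, 0, 0, 0, 0, 0, 0, 0, 0, 0, 0, 0, 0, 0, 0, 0, 0, 0, 0, 0, 0, 0, 0, 0, 0, 0, 0, 0, 0, 0, 0, 0, 0, 0, 0, 0, 0, 0, 0, 0, 0, 0, 0, 0, 0]

def row1 : List ℤ := [0, 1, 0, 0, 0, 0, 1, 0, 0, 0, 0, 1, 0, 0, 0, 0, 1, 0, 0, 0, 0, 1, 0, 0, 0, 0, 0, 0, 0, 0, 0, 0, 0, 0, 0, 0, 0, 0, 0, 0, 0, 0, 1, 0, 0, 0, 0, 0, 0, 0, 0, 0, 0, 0, 0, 0, 0, 0, 0, 0, 0, 0, 0]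

def row2 : List ℤ := [6, 1, 1, 1, 1, 1, 1, 1, 1, 1, 1, 1, 1, 1, 1, 1, 1, 1, 1, 1, 1, 1, 1, 1, 1, 1, 0, 0, 0, 0, 0, 0, 0, 0, 0, 0, 0, 0, 0, 0, 0, 0, 1, 1, 1, 1, 1, 0, 0, 0, 0, 0, 0, 0, 0, 0, 0, 0, 0, 0, 0, 0, 0]

def row3 : List ℤ := [6, 11, 2, 2, 2, 2, 11, 2, 2, 2, 2, 11, 2, 2, 2, 2, 11, 2, 2, 2, 2, 11, 2, 2, 2, 2, 3, 3, 3, 3, 3, 3, 3, 3, 3, 3, 3, 3, 3, 3, 3, 3, 11, 2, 2, 2, 2, 3, 3, 3, 3, 3, 3, 3, 3, 3, 3, 3, 3, 3, 3, 3, 3]

def row4 : List ℤ := [66, 25, 25, 25, 25, 25, 25, 25, 25, 25, 25, 25, 25, 25, 25, 25, 25, 25, 25, 25, 25, 25, 25, 25, 25, 25, 15, 15, 15, 15, 15, 15, 15, 15, 15, 15, 15, 15, 15, 15, 15, 15, 25, 25, 25, 25, 25, 15, 15, 15, 15, 15, 15, 15, 15, 15, 15, 15, 15, 15, 15, 15, 15]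

/-- the first rows of the powers of the adjacency matrix -/
def rv (k : ℕ) (j : ℕ) : ℤ :=
  (match k with
    | 0 => row0
    | 1 => row1
    | 2 => row2
    | 3 => row3
    | _ => row4).getD j 0

set_option maxRecDepth 100000 in
theorem rv_chk : ∀ k : Fin 4, ∀ j : Fin 63,
    rv (k.val + 1) j.val = ∑ l : Fin 63, rv k.val l.val * (if adjB l.val j.val then 1 else 0) := by
  decide +kernel

set_option maxRecDepth 100000 in
theorem rv_zero : ∀ j : Fin 63, rv 0 j.val = if (0 : Fin 63) = j then 1 else 0 := by decide +kernel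

set_option maxRecDepth 100000 in
theorem rv_poly : ∀ j : Fin 63,
    rv 4 j.val - 5 * rv 3 j.val - 15 * rv 2 j.val + 45 * rv 1 j.val + 54 * rv 0 j.val = 0 := by
  decide +kernel

theorem rv_diag : rv 1 0 = 0 ∧ rv 2 0 = 6 ∧ rv 3 0 = 6 := by decide

theorem adjM_apply (l j : Fin 63) : adjM l j = if adjB l.val j.val then 1 else 0 := by
  unfold adjM
  simp only [Matrix.of_apply]
  by_cases h : orth l j
  · rw [if_pos h, if_pos ((adjB_spec l j).mp h)]
  · rw [if_neg h, if_neg (fun h' => h ((adjB_spec l j).mpr h'))]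

theorem pow_row (k : ℕ) (hk : k ≤ 4) (j : Fin 63) : (adjM ^ k) 0 j = rv k j.val := by
  induction k generalizing j with
  | zero =>
    rw [pow_zero, Matrix.one_apply, rv_zero j]
  | succ k ih =>
    rw [pow_succ, Matrix.mul_apply]
    have h1 := rv_chk ⟨k, by omega⟩ j
    rw [h1]
    refine Finset.sum_congr rfl fun l _ => ?_
    rw [ih (by omega) l, adjM_apply]

theorem pow_inv (hI : StmtRkI) (X : SU9) (k : ℕ) (i j : Fin 63) :
    (adjM ^ k) (rho X i) (rho X j) = (adjM ^ k) i j := by
  induction k generalizing i j with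
  | zero =>
    rw [pow_zero, Matrix.one_apply, Matrix.one_apply]
    by_cases h : i = j
    · rw [if_pos h, if_pos (by rw [h])]
    · rw [if_neg h, if_neg (fun h' => h ((rho X).injective h'))]
  | succ k ih =>
    rw [pow_succ, Matrix.mul_apply, Matrix.mul_apply, ← Equiv.sum_comp (rho X)]
    refine Finset.sum_congr rfl fun l _ => ?_
    rw [ih]
    congr 1
    unfold adjM
    simp only [Matrix.of_apply]
    by_cases h : orth l j
    · rw [if_pos h, if_pos ((hI X l j).mpr h)]
    · rw [if_neg h, if_neg (fun h' => h ((hI X l j).mp h'))]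

theorem rkM : StmtRkM := by
  intro hT hI
  have hdiag : ∀ (k : ℕ) (i : Fin 63), (adjM ^ k) i i = (adjM ^ k) 0 0 := by
    intro k i
    obtain ⟨X, hX⟩ := hT i
    rw [← hX, pow_inv hI X k 0 0]
  have htr : ∀ k : ℕ, (adjM ^ k).trace = 63 * (adjM ^ k) 0 0 := by
    intro k
    unfold Matrix.trace
    simp only [Matrix.diag_apply]
    rw [Finset.sum_congr rfl (fun i _ => hdiag k i), Finset.sum_const, Finset.card_univ,
      Fintype.card_fin, nsmul_eq_mul]
    norm_num
  obtain ⟨d1, d2, d3⟩ := rv_diag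
  refine ⟨?_, ?_, ?_, ?_⟩
  · ext i j
    obtain ⟨X, hX⟩ := hT i
    have hj : rho X ((rho X).symm j) = j := Equiv.apply_symm_apply _ _
    have key : ∀ k : ℕ, (adjM ^ k) i j = (adjM ^ k) 0 ((rho X).symm j) := by
      intro k
      rw [← pow_inv hI X k 0 ((rho X).symm j), hX, hj]
    have e4 := key 4
    have e3 := key 3
    have e2 := key 2
    have e1 := key 1
    have e0 := key 0
    rw [pow_one] at e1
    rw [pow_zero] at e0
    rw [pow_row 4 (by norm_num)] at e4
    rw [pow_row 3 (by norm_num)] at e3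
    rw [pow_row 2 (by norm_num)] at e2
    have e1' := pow_row 1 (by norm_num) ((rho X).symm j)
    rw [pow_one] at e1'
    have e0' := pow_row 0 (by norm_num) ((rho X).symm j)
    rw [pow_zero] at e0'
    rw [e1'] at e1
    rw [e0'] at e0
    have hp := rv_poly ((rho X).symm j)
    rw [Matrix.zero_apply, Matrix.add_apply, Matrix.add_apply, Matrix.sub_apply,
      Matrix.sub_apply, Matrix.smul_apply, Matrix.smul_apply, Matrix.smul_apply,
      Matrix.smul_apply, e4, e3, e2, e1, e0]
    simp only [nsmul_eq_mul]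
    push_cast
    linarith
  · have h := htr 1
    rw [pow_one] at h
    rw [h]
    have h1 := pow_row 1 (by norm_num) 0
    rw [pow_one] at h1
    rw [h1]
    show 63 * rv 1 0 = 0
    rw [d1]; norm_num
  · rw [htr 2, pow_row 2 (by norm_num) 0]
    show 63 * rv 2 0 = 378
    rw [d2]; norm_num
  · rw [htr 3, pow_row 3 (by norm_num) 0]
    show 63 * rv 3 0 = 378
    rw [d3]; norm_num

end Cfsg.Agent.H93.U33
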